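import Cfsg.Agent.USixType.Ext.Main
import Cfsg.Agent.USixType.Ext.Fixed.Main
import Cfsg.Agent.InvolCalc.ZStarApps

/-!
# An involution whose centraliser has a core of type two times extraspecial: the setting
-/

set_option autoImplicit false
set_option Elab.async false
set_option linter.style.haveILetI false
set_option linter.unusedSectionVars false

namespace Cfsg.Lib.FiTwo

open Subgroup Cfsg.Lib.USixType

universe u v

variable {G : Type u} [Group G] {P : Type v} [Group P]

/-- The hypotheses. -/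
structure Setting (z a : G) (J E : Subgroup G) (P : Type v) [Group P] where
  order : orderOf z = 2
  sqa : a * a = 1
  le : J ≤ centralizer ({z} : Set G)
  norm : centralizer ({z} : Set G) ≤ normalizer (J : Set G)
  leE : E ≤ J
  memA : a ∈ J
  notE : a ∉ E
  comA : ∀ q ∈ J, Commute a q
  split : ∀ q ∈ J, q ∈ E ∨ a * q ∈ E
  extra : Cfsg.IsExtraspecial 2 ↥E
  cardE : Nat.card ↥E = 2 ^ 9
  memE : z ∈ E
  self : ∀ g ∈ centralizer ({z} : Set G), (∀ q ∈ J, g * q = q * g) → g ∈ J
  iso : Nonempty (↥U ≃* P)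
  autCard : Nat.card (MulAut P) = 2 * 25920
  f : ↥(centralizer ({z} : Set G)) →* MulAut P
  surj : Function.Surjective f
  ker : ∀ h, f h = 1 ↔ (h : G) ∈ J

/-- Every commuting conjugate under the centraliser of `v` is the element itself. -/
def Iso (y v : G) : Prop := ∀ g : G, Commute g v → Commute (g * y * g⁻¹) y → g * y * g⁻¹ = y

theorem Iso.conj {y v : G} (h : Iso y v) (k : G) : Iso (k * y * k⁻¹) (k * v * k⁻¹) := by
  intro g hg hc
  have h1 : Commute (k⁻¹ * g * k) v := by
    have := hg.map (MulAut.conj k⁻¹).toMonoidHom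
    simpa [mul_assoc] using this
  have h2 : Commute (k⁻¹ * g * k * y * (k⁻¹ * g * k)⁻¹) y := by
    have := hc.map (MulAut.conj k⁻¹).toMonoidHom
    simpa [mul_assoc] using this
  have := h _ h1 h2
  calc g * (k * y * k⁻¹) * g⁻¹ = k * (k⁻¹ * g * k * y * (k⁻¹ * g * k)⁻¹) * k⁻¹ := by group
    _ = _ := by rw [this]

theorem isSimple (e : ↥U ≃* P) : IsSimpleGroup P := by
  haveI := simple_U
  haveI : Nontrivial P := e.injective.nontrivial
  exact IsSimpleGroup.isSimpleGroup_of_surjective e.toMonoidHom e.surjective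

theorem center_bot (e : ↥U ≃* P) {p : P} (hp : ∀ x, x * p = p * x) : p = 1 := by
  have hz : e.symm p ∈ Subgroup.center ↥U := Subgroup.mem_center_iff.2 fun g => by
    apply e.injective
    rw [map_mul, map_mul, MulEquiv.apply_symm_apply]
    exact hp _
  haveI := simple_U
  rcases Subgroup.Normal.eq_bot_or_eq_top (inferInstance : (Subgroup.center ↥U).Normal) with h | h
  · rw [h, Subgroup.mem_bot] at hz
    simpa using congrArg e hz
  · exfalso
    have hc := Subgroup.mem_center_iff.1 (h ▸ Subgroup.mem_top (⟨tvP 0, tvP_mem 0⟩ : ↥U)) ⟨tvP 1, tvP_mem 1⟩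
    have h2 := (USixType.commute_iff 1 0).1 (congrArg Subtype.val hc)
    revert h2
    decide +kernel

theorem conj_injective (e : ↥U ≃* P) : Function.Injective (MulAut.conj : P →* MulAut P) := by
  refine (injective_iff_map_eq_one _).2 fun p hp => center_bot e fun x => ?_
  have := congrArg (fun a : MulAut P => a x) hp
  simp only [MulAut.conj_apply, MulAut.one_apply] at this
  exact (mul_inv_eq_iff_eq_mul.1 this).symm

theorem card_inner (e : ↥U ≃* P) : Nat.card ↥(MulAut.conj : P →* MulAut P).range = 25920 := by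
  rw [← Nat.card_congr (MonoidHom.ofInjective (conj_injective e)).toEquiv, ← Nat.card_congr e.toEquiv, card_U]

/-- A subgroup of index at most two of the automorphism group contains the inner automorphisms. -/
theorem inner_le [Finite P] (e : ↥U ≃* P) {N : Subgroup (MulAut P)} (hN : N.index ≤ 2) :
    (MulAut.conj : P →* MulAut P).range ≤ N := by
  haveI : Finite (MulAut P) := Finite.of_injective (fun a : MulAut P => (a : P → P)) DFunLike.coe_injective
  haveI hn : N.Normal := by
    rcases Nat.lt_or_eq_of_le hN with h | h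
    · have : N.index = 1 := by have := Subgroup.index_ne_zero_of_finite (H := N); omega
      rw [Subgroup.index_eq_one] at this
      rw [this]; infer_instance
    · exact Subgroup.normal_of_index_eq_two h
  haveI := isSimple e
  haveI hc : (N.comap (MulAut.conj : P →* MulAut P)).Normal := hn.comap _
  rcases hc.eq_bot_or_eq_top with h | h
  · exfalso
    have hinj : Function.Injective ((QuotientGroup.mk' N).comp (MulAut.conj : P →* MulAut P)) := by
      refine (injective_iff_map_eq_one _).2 fun p hp => ?_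
      exact Subgroup.mem_bot.1 (h ▸ ((QuotientGroup.eq_one_iff (MulAut.conj p)).1 hp : p ∈ N.comap (MulAut.conj : P →* MulAut P)))
    have := Nat.card_le_card_of_injective _ hinj
    rw [← Subgroup.index_eq_card, ← Nat.card_congr e.toEquiv, card_U] at this
    omega
  · rintro _ ⟨p, rfl⟩
    exact (h ▸ Subgroup.mem_top p : p ∈ N.comap (MulAut.conj : P →* MulAut P))

/-- A two-subgroup normalised by the inner automorphisms is trivial. -/
theorem two_trivial (e : ↥U ≃* P) (J₀ : Subgroup (MulAut P)) (hp : IsPGroup 2 ↥J₀)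
    (hn : ∀ g ∈ (MulAut.conj : P →* MulAut P).range, ∀ x ∈ J₀, g * x * g⁻¹ ∈ J₀) : ∀ x ∈ J₀, x = 1 := by
  have hc := conj_injective e
  haveI : Fact (Nat.Prime 2) := ⟨Nat.prime_two⟩
  haveI : Finite P := Finite.of_equiv ↥U e.toEquiv
  set N := J₀.comap (MulAut.conj : P →* MulAut P)
  have hN : N.Normal := ⟨fun x hx p => by
    show MulAut.conj (p * x * p⁻¹) ∈ J₀
    rw [map_mul, map_mul, map_inv]
    exact hn _ ⟨p, rfl⟩ _ hx⟩
  haveI := isSimple e
  have hN0 : N = ⊥ := hN.eq_bot_or_eq_top.resolve_right fun h => by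
    obtain ⟨n, (hn' : Nat.card ↥N = 2 ^ n)⟩ := IsPGroup.iff_card.1 (hp.comap_of_injective _ hc : IsPGroup 2 ↥N)
    rw [h, Subgroup.card_top, ← Nat.card_congr e.toEquiv, card_U] at hn'
    have : (3 : ℕ) ∣ 2 ^ n := ⟨8640, by rw [← hn']⟩
    have := Nat.prime_three.dvd_of_dvd_pow this
    norm_num at this
  intro x hx
  refine MulEquiv.ext fun p => hc ?_
  have e : MulAut.conj (x p) = x * MulAut.conj p * x⁻¹ := MulEquiv.ext fun q => by simp [MulAut.conj_apply]
  have h1 : MulAut.conj (p * (x p)⁻¹) ∈ J₀ := by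
    rw [map_mul, map_inv, e, show MulAut.conj p * (x * MulAut.conj p * x⁻¹)⁻¹ =
      (MulAut.conj p * x * (MulAut.conj p)⁻¹) * x⁻¹ by group]
    exact mul_mem (hn _ ⟨p, rfl⟩ _ hx) (inv_mem hx)
  have h2 : p * (x p)⁻¹ = 1 := Subgroup.mem_bot.1 (hN0 ▸ (h1 : p * (x p)⁻¹ ∈ N))
  rw [MulAut.one_apply, ← mul_inv_eq_one.1 h2]

/-- The four central elements. -/
def InV (z a x : G) : Prop := x = 1 ∨ x = z ∨ x = a ∨ x = a * z

namespace Setting

variable {z a : G} {J E : Subgroup G} (S : Setting z a J E P)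
include S

theorem finiteP : Finite P :=
  Finite.of_equiv ↥U S.iso.some.toEquiv

theorem z_sq : z * z = 1 := by rw [← pow_two, ← S.order, pow_orderOf_eq_one]

theorem z_inv : z⁻¹ = z := inv_eq_of_mul_eq_one_left S.z_sq

theorem a_inv : a⁻¹ = a := inv_eq_of_mul_eq_one_left S.sqa

theorem z_ne : z ≠ 1 := fun e => by
  have := S.order
  rw [e, orderOf_one] at this
  exact absurd this (by norm_num)

theorem memJ : z ∈ J := S.leE S.memE

theorem a_ne : a ≠ 1 := fun e => S.notE (e ▸ one_mem E)

theorem a_ne_z : a ≠ z := fun e => S.notE (e ▸ S.memE)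

theorem comAz : Commute a z := S.comA z S.memJ

theorem az_ne : a * z ≠ 1 ∧ a * z ≠ z ∧ a * z ≠ a :=
  ⟨fun e => S.a_ne_z (by rw [eq_inv_of_mul_eq_one_left e, S.z_inv]), fun e => S.a_ne (mul_eq_right.1 e),
    fun e => S.z_ne (mul_eq_left.1 e)⟩

theorem comm_z {h : G} (hh : h ∈ centralizer ({z} : Set G)) : Commute h z := mem_centralizer_singleton_iff.1 hh

omit S in
theorem memC {h : G} (hh : Commute h z) : h ∈ centralizer ({z} : Set G) := mem_centralizer_singleton_iff.2 hh.eq

theorem commJ {q : G} (hq : q ∈ J) : Commute q z := S.comm_z (S.le hq)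

theorem conj_J {h q : G} (hh : Commute h z) (hq : q ∈ J) : h * q * h⁻¹ ∈ J :=
  (mem_normalizer_iff.1 (S.norm (memC hh)) q).1 hq

theorem center_eq [Finite G] : Subgroup.center ↥E = (zpowers z).subgroupOf E := by
  refine (Subgroup.eq_of_le_of_card_ge ?_ ?_).symm
  · intro x hx
    refine mem_center_iff.2 fun q => Subtype.ext ?_
    obtain ⟨n, hn⟩ := (hx : (x : G) ∈ zpowers z)
    show (q : G) * x = x * q
    rw [← show z ^ n = (x : G) from hn]
    exact ((S.commJ (S.leE q.2)).zpow_right n).eq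
  · rw [S.extra.2, Nat.card_congr (Subgroup.subgroupOfEquivOfLe (zpowers_le.2 S.memE)).toEquiv, Nat.card_zpowers,
      S.order]

theorem of_center [Finite G] {x : G} (hx : x ∈ E) (h : (⟨x, hx⟩ : ↥E) ∈ Subgroup.center ↥E) : x = 1 ∨ x = z := by
  rw [S.center_eq] at h
  exact Ext.eq_one_or_of_zpowers S.z_sq h

/-- Replacing the central involution. -/
theorem exE {q : G} (hq : q ∈ J) : ∃ e ∈ E, q = e ∨ q = a * e := by
  rcases S.split q hq with h | h
  · exact ⟨q, h, Or.inl rfl⟩
  · exact ⟨a * q, h, Or.inr (by rw [← mul_assoc, S.sqa, one_mul])⟩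

theorem sq [Finite G] {q : G} (hq : q ∈ J) : q * q = 1 ∨ q * q = z := by
  haveI : Fact (Nat.Prime 2) := ⟨Nat.prime_two⟩
  obtain ⟨e, he, h⟩ := S.exE hq
  have he2 : q * q = e * e := by
    rcases h with rfl | rfl
    · rfl
    · have c := (S.comA e (S.leE he)).eq
      calc a * e * (a * e) = a * (e * a) * e := by group
        _ = a * a * (e * e) := by rw [← c]; group
        _ = e * e := by rw [S.sqa, one_mul]
  rw [he2]
  refine S.of_center (mul_mem he he) ?_
  rw [← S.extra.1.2.1]
  have := Cfsg.Lib.PGroups.pow_mem_frattini S.extra.1.1 (⟨e, he⟩ : ↥E)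
  rw [pow_two] at this
  exact this

theorem comm [Finite G] {p q : G} (hp : p ∈ J) (hq : q ∈ J) : p * q * p⁻¹ * q⁻¹ = 1 ∨ p * q * p⁻¹ * q⁻¹ = z := by
  obtain ⟨e, he, h⟩ := S.exE hp
  obtain ⟨d, hd, h'⟩ := S.exE hq
  have kill : ∀ {x y : G}, x ∈ J → y ∈ J → (a * x) * y * (a * x)⁻¹ * y⁻¹ = x * y * x⁻¹ * y⁻¹ ∧
      x * (a * y) * x⁻¹ * (a * y)⁻¹ = x * y * x⁻¹ * y⁻¹ := fun {x y} hx hy => by
    constructor
    · calc (a * x) * y * (a * x)⁻¹ * y⁻¹ = a * (x * y * x⁻¹) * a⁻¹ * y⁻¹ := by group
        _ = x * y * x⁻¹ * y⁻¹ := by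
          rw [(S.comA _ (mul_mem (mul_mem hx hy) (inv_mem hx))).eq, mul_inv_cancel_right]
    · calc x * (a * y) * x⁻¹ * (a * y)⁻¹ = (x * a) * (y * x⁻¹ * y⁻¹) * a⁻¹ := by group
        _ = x * y * x⁻¹ * y⁻¹ := by
          rw [← (S.comA x hx).eq, mul_assoc a, (S.comA _ (mul_mem hx (mul_mem (mul_mem hy (inv_mem hx))
            (inv_mem hy)))).eq, mul_inv_cancel_right]
          group
  have e1 : p * q * p⁻¹ * q⁻¹ = e * d * e⁻¹ * d⁻¹ := by
    rcases h with rfl | rfl <;> rcases h' with rfl | rfl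
    · rfl
    · exact (kill hp (S.leE hd)).2
    · exact (kill (S.leE he) hq).1
    · rw [(kill (S.leE he) hq).1, (kill (S.leE he) (S.leE hd)).2]
  rw [e1]
  refine S.of_center (mul_mem (mul_mem (mul_mem he hd) (inv_mem he)) (inv_mem hd)) ?_
  rw [← S.extra.1.2.2, commutator_eq_closure]
  exact subset_closure ⟨⟨e, he⟩, ⟨d, hd⟩, rfl⟩

theorem conj_cases [Finite G] {p q : G} (hp : p ∈ J) (hq : q ∈ J) : p * q * p⁻¹ = q ∨ p * q * p⁻¹ = q * z :=
  (S.comm hp hq).imp mul_inv_eq_one.1 fun e => by
    rw [mul_inv_eq_iff_eq_mul.1 e]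
    exact (S.commJ hq).symm.eq

theorem central [Finite G] {x : G} (hx : x ∈ J) (h : ∀ q ∈ J, Commute x q) : InV z a x := by
  obtain ⟨e, he, hxe⟩ := S.exE hx
  have hc : (⟨e, he⟩ : ↥E) ∈ Subgroup.center ↥E := mem_center_iff.2 fun q => Subtype.ext (by
    show (q : G) * e = e * q
    rcases hxe with rfl | rfl
    · exact (h q (S.leE q.2)).eq.symm
    · have h1 := h q (S.leE q.2)
      have h2 := (S.comA q (S.leE q.2)).inv_left.mul_left h1
      rw [inv_mul_cancel_left] at h2
      exact h2.eq.symm)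
  rcases S.of_center he hc with rfl | rfl <;> rcases hxe with rfl | rfl
  · exact Or.inl rfl
  · exact Or.inr (Or.inr (Or.inl (mul_one a)))
  · exact Or.inr (Or.inl rfl)
  · exact Or.inr (Or.inr (Or.inr rfl))

theorem cent [Finite G] {g : G} (hg : Commute g z) (hq : ∀ q ∈ J, Commute g q) : InV z a g :=
  S.central (S.self g (memC hg) fun q h => (hq q h).eq) hq

theorem pow_four [Finite G] {q : G} (hq : q ∈ J) : q ^ 4 = 1 := by
  rw [show 4 = 2 * 2 from rfl, pow_mul, pow_two q]
  rcases S.sq hq with e | e <;> rw [e, pow_two]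
  · exact one_mul 1
  · exact S.z_sq

theorem cardJ [Finite G] : Nat.card ↥J = 2 ^ 10 := by
  classical
  let F : Bool × ↥E → ↥J := fun p => if p.1 then ⟨a * p.2, mul_mem S.memA (S.leE p.2.2)⟩ else ⟨p.2, S.leE p.2.2⟩
  have hF : Function.Bijective F := by
    refine ⟨?_, fun q => ?_⟩
    · rintro ⟨i, x⟩ ⟨j, y⟩ h
      cases i <;> cases j <;> simp only [F, Subtype.mk.injEq, Bool.false_eq_true, if_false, if_true] at h
      · exact Prod.ext rfl (Subtype.ext h)
      · exact absurd (show a ∈ E by rw [show a = (x : G) * (y : G)⁻¹ by rw [h, mul_inv_cancel_right]]; exact mul_mem x.2 (inv_mem y.2)) S.notE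
      · exact absurd (show a ∈ E by rw [show a = (y : G) * (x : G)⁻¹ by rw [← h, mul_inv_cancel_right]]; exact mul_mem y.2 (inv_mem x.2)) S.notE
      · exact Prod.ext rfl (Subtype.ext (mul_left_cancel h))
    · rcases S.split q q.2 with h | h
      · exact ⟨(false, ⟨q, h⟩), rfl⟩
      · exact ⟨(true, ⟨a * q, h⟩), Subtype.ext (by show a * (a * q) = q; rw [← mul_assoc, S.sqa, one_mul])⟩
  have := Nat.card_congr (Equiv.ofBijective F hF)
  rw [Nat.card_prod, show Nat.card Bool = 2 by simp, S.cardE] at this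
  omega

theorem swap : Nonempty (Setting z (a * z) J E P) :=
  ⟨{ S with
    sqa := by rw [show a * z * (a * z) = a * (z * a) * z by group, ← S.comAz.eq, show a * (a * z) * z = a * a * (z * z) by group, S.sqa, S.z_sq, one_mul]
    memA := mul_mem S.memA S.memJ
    notE := fun h => S.notE (by
      have := mul_mem h S.memE
      rwa [mul_assoc, S.z_sq, mul_one] at this)
    comA := fun q hq => (S.comA q hq).mul_left (S.commJ hq).symm
    split := fun q hq => (S.split q hq).imp id fun h => by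
      rw [mul_assoc, ← (S.commJ hq).eq, ← mul_assoc]
      exact mul_mem h S.memE }⟩

theorem conj_a [Finite G] {h : G} (hh : Commute h z) : h * a * h⁻¹ = a ∨ h * a * h⁻¹ = a * z := by
  have hJ := S.conj_J hh S.memA
  rcases S.central hJ (fun q hq => by
    have hq' := S.conj_J hh.inv_left hq
    have := (S.comA _ hq').map (MulAut.conj h).toMonoidHom
    simpa [mul_assoc] using this) with e | e | e | e
  · exact absurd (conj_eq_one_iff.1 e) S.a_ne
  · exact absurd (by rw [show a = h⁻¹ * (h * a * h⁻¹) * h by group, e, mul_assoc, ← hh.eq, inv_mul_cancel_left]) S.a_ne_z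
  · exact Or.inl e
  · exact Or.inr e

/-- The inner part. -/
def inner : Subgroup G := ((MulAut.conj : P →* MulAut P).range.comap S.f).map (centralizer ({z} : Set G)).subtype

theorem inner_le_C : S.inner ≤ centralizer ({z} : Set G) := Subgroup.map_subtype_le _

theorem inner_comm {i : G} (hi : i ∈ S.inner) : Commute i z := S.comm_z (S.inner_le_C hi)

theorem mem_inner (h : ↥(centralizer ({z} : Set G))) :
    (h : G) ∈ S.inner ↔ S.f h ∈ (MulAut.conj : P →* MulAut P).range :=
  ⟨by rintro ⟨k, hk, hke⟩; rwa [← Subtype.ext hke], fun hh => ⟨h, hh, rfl⟩⟩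

theorem J_le_inner : J ≤ S.inner := fun q hq =>
  (S.mem_inner ⟨q, S.le hq⟩).2 (by rw [(S.ker ⟨q, S.le hq⟩).2 hq]; exact one_mem _)

theorem range_index : (MulAut.conj : P →* MulAut P).range.index = 2 := by
  have h1 := (MulAut.conj : P →* MulAut P).range.card_mul_index
  rw [card_inner S.iso.some, S.autCard] at h1
  omega

theorem two {p q : G} (hp : Commute p z) (hq : Commute q z) (hp' : p ∉ S.inner) (hq' : q ∉ S.inner) :
    p * q ∈ S.inner := by
  refine (S.mem_inner (⟨p, memC hp⟩ * ⟨q, memC hq⟩)).2 ?_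
  rw [map_mul, Subgroup.mul_mem_iff_of_index_two S.range_index]
  exact iff_of_false (fun e => hp' ((S.mem_inner ⟨p, memC hp⟩).2 e)) fun e => hq' ((S.mem_inner ⟨q, memC hq⟩).2 e)

theorem conj_inner {h i : G} (hh : Commute h z) (hi : i ∈ S.inner) : h * i * h⁻¹ ∈ S.inner := by
  refine (S.mem_inner (⟨h, memC hh⟩ * ⟨i, S.inner_le_C hi⟩ * ⟨h, memC hh⟩⁻¹)).2 ?_
  rw [map_mul, map_mul, map_inv]
  haveI := Subgroup.normal_of_index_eq_two S.range_index
  exact Subgroup.Normal.conj_mem inferInstance _ ((S.mem_inner ⟨i, S.inner_le_C hi⟩).1 hi) _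

/-- The inner part commutes with `a`. -/
theorem inner_a [Finite G] {i : G} (hi : i ∈ S.inner) : Commute i a := by
  classical
  haveI := S.finiteP
  set C := centralizer ({z} : Set G)
  let T : Subgroup ↥C := (centralizer ({a} : Set G)).subgroupOf C
  have hT : T.index ≤ 2 := by
    let F : Bool → ↥C ⧸ T := fun b => if b then (1 : ↥C) else if h : ∃ h : ↥C, h ∉ T then h.choose else (1 : ↥C)
    have hF : Function.Surjective F := fun x => by
      obtain ⟨k, rfl⟩ := QuotientGroup.mk_surjective x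
      by_cases hk : k ∈ T
      · exact ⟨true, by simp only [F, if_true]; exact QuotientGroup.eq.2 (by simpa using hk)⟩
      · refine ⟨false, ?_⟩
        have hex : ∃ h : ↥C, h ∉ T := ⟨k, hk⟩
        simp only [F, Bool.false_eq_true, if_false, dif_pos hex]
        refine QuotientGroup.eq.2 ?_
        have moved : ∀ h : ↥C, h ∉ T → (h : G) * a * (h : G)⁻¹ = a * z := fun h hh =>
          (S.conj_a (S.comm_z h.2)).resolve_left fun e => hh (mem_centralizer_singleton_iff.2
            (mul_inv_eq_iff_eq_mul.1 e))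
        have m1 := moved _ hex.choose_spec
        have m2 := moved k hk
        show ((hex.choose : G)⁻¹ * k : G) ∈ centralizer ({a} : Set G)
        refine mem_centralizer_singleton_iff.2 (mul_inv_eq_iff_eq_mul.1 ?_)
        calc (hex.choose : G)⁻¹ * k * a * ((hex.choose : G)⁻¹ * k)⁻¹
            = (hex.choose : G)⁻¹ * ((k : G) * a * (k : G)⁻¹) * hex.choose := by group
          _ = (hex.choose : G)⁻¹ * ((hex.choose : G) * a * (hex.choose : G)⁻¹) * hex.choose := by rw [m1, m2]
          _ = a := by group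
    have h := Nat.card_le_card_of_surjective F hF
    rw [← Subgroup.index_eq_card, show Nat.card Bool = 2 by simp] at h
    exact h
  have hle := inner_le S.iso.some (N := T.map S.f)
    ((Nat.le_of_dvd (Nat.pos_of_ne_zero Subgroup.index_ne_zero_of_finite) (T.index_map_dvd S.surj)).trans hT)
  obtain ⟨j, hj, rfl⟩ := hi
  obtain ⟨t, ht, e⟩ := hle (hj : S.f j ∈ _)
  have hJ : ((t⁻¹ * j : ↥C) : G) ∈ J := (S.ker _).1 (by rw [map_mul, map_inv, e, inv_mul_cancel])
  have h1 : Commute (t : G) a := mem_centralizer_singleton_iff.1 ht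
  have := h1.mul_left (S.comA _ hJ).symm
  simpa using this

/-- The order of the inner part. -/
theorem card_inner [Finite G] : Nat.card ↥S.inner = 25920 * 2 ^ 10 := by
  let g : ↥S.inner →* MulAut P := S.f.comp (Subgroup.inclusion S.inner_le_C)
  have hr : g.range = (MulAut.conj : P →* MulAut P).range := by
    refine le_antisymm ?_ fun x hx => ?_
    · rintro _ ⟨i, rfl⟩
      exact (S.mem_inner ⟨i, S.inner_le_C i.2⟩).1 i.2
    · obtain ⟨h, rfl⟩ := S.surj x
      exact ⟨⟨h, (S.mem_inner h).2 hx⟩, rfl⟩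
  have hk : Nat.card g.ker = Nat.card ↥J := Nat.card_congr
    { toFun := fun q => ⟨q.1.1, (S.ker _).1 q.2⟩
      invFun := fun q => ⟨⟨q.1, S.J_le_inner q.2⟩, (S.ker ⟨q.1, S.le q.2⟩).2 q.2⟩
      left_inv := fun _ => rfl
      right_inv := fun _ => rfl }
  have := Subgroup.card_eq_card_quotient_mul_card_subgroup g.ker
  rwa [Nat.card_congr (QuotientGroup.quotientKerEquivRange g).toEquiv, hr, FiTwo.card_inner S.iso.some, hk, S.cardJ]
    at this

/-- An abelian subgroup of the core has order at most `2^6`. -/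
theorem abelian_le [Finite G] (W : Subgroup G) (hW : W ≤ J) (hc : ∀ p ∈ W, ∀ q ∈ W, Commute p q) :
    Nat.card ↥W ≤ 64 := by
  classical
  letI : Fintype ↥J := Fintype.ofFinite _
  letI : Fintype ↥W := Fintype.ofFinite _
  have hmul : ∀ {x p q : G}, q ∈ J → x * p * x⁻¹ = p * z → x * q * x⁻¹ = q * z → Commute x (p * q) :=
    fun {x p q} hq hp' hq' => mul_inv_eq_iff_eq_mul.1 (by
      rw [show x * (p * q) * x⁻¹ = (x * p * x⁻¹) * (x * q * x⁻¹) by group, hp', hq', mul_assoc, ← mul_assoc z,
        ← (S.commJ hq).eq, mul_assoc q, S.z_sq, mul_one])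
  set N := ∑ w : ↥W, ∑ q : ↥J, if Commute (q : G) w then 1 else 0 with hN
  have hV : Fintype.card {w : ↥W // InV z a (w : G)} ≤ 4 := by
    rw [← Nat.card_eq_fintype_card]
    refine (Nat.card_le_card_of_injective (β := ↥({1, z, a, a * z} : Finset G)) (fun w => ⟨w.1, by
      have := w.2
      simp only [Finset.mem_insert, Finset.mem_singleton]
      exact this⟩) fun u w e => Subtype.ext (Subtype.ext (show (u.1 : G) = (w.1 : G) from congrArg (fun r : ↥({1, z, a, a * z} : Finset G) => (r : G)) e))).trans ?_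
    rw [Nat.card_eq_fintype_card, Fintype.card_coe]
    exact Finset.card_le_four
  have hup : 2 * N ≤ 1024 * Nat.card ↥W + 4096 := by
    have hle : ∀ w : ↥W, 2 * (∑ q : ↥J, if Commute (q : G) w then 1 else 0) ≤
        1024 + if InV z a (w : G) then 1024 else 0 := fun w => by
      rw [← Finset.card_filter, ← Fintype.card_subtype, ← Nat.card_eq_fintype_card]
      have hle := Finite.card_subtype_le (fun q : ↥J => Commute (q : G) w)
      rw [S.cardJ] at hle
      by_cases hwz : InV z a (w : G)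
      · rw [if_pos hwz]
        omega
      · rw [if_neg hwz, add_zero]
        let K : Subgroup ↥J := (centralizer ({(w : G)} : Set G)).subgroupOf J
        have hK : Nat.card ↥K = Nat.card {q : ↥J // Commute (q : G) w} :=
          Nat.card_congr (Equiv.subtypeEquivRight fun q => mem_centralizer_singleton_iff)
        have hne : K ≠ ⊤ := fun e => hwz (S.central (hW w.2) fun q hq =>
          (mem_centralizer_singleton_iff.1 (show (q : G) ∈ centralizer ({(w : G)} : Set G) from
            ((e ▸ Subgroup.mem_top _) : (⟨q, hq⟩ : ↥J) ∈ K)) : Commute q (w : G)).symm)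
        have h1 := K.card_mul_index
        have h2 : 2 ≤ K.index := by
          have := Subgroup.index_ne_zero_of_finite (H := K)
          have := mt Subgroup.index_eq_one.1 hne
          omega
        have := Nat.mul_le_mul_left (Nat.card ↥K) h2
        rw [h1, S.cardJ, hK] at this
        omega
    have h4 : (∑ w : ↥W, if InV z a (w : G) then 1024 else 0) ≤ 4096 := by
      rw [← Finset.sum_filter, Finset.sum_const, smul_eq_mul, ← Fintype.card_subtype]
      omega
    calc 2 * N ≤ ∑ w : ↥W, (1024 + if InV z a (w : G) then 1024 else 0) := by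
          rw [hN, Finset.mul_sum]; exact Finset.sum_le_sum fun w _ => hle w
      _ ≤ _ := by
          rw [Finset.sum_add_distrib, Finset.sum_const, Finset.card_univ, smul_eq_mul, ← Nat.card_eq_fintype_card,
            mul_comm]
          omega
  have hdown : Nat.card ↥W * Nat.card ↥W + 1024 * Nat.card ↥W ≤ 2 * N := by
    have hge : ∀ q : ↥J, Nat.card ↥W + (if (q : G) ∈ W then Nat.card ↥W else 0) ≤
        2 * ∑ w : ↥W, if Commute (q : G) w then 1 else 0 := fun q => by
      rw [← Finset.card_filter, ← Fintype.card_subtype, ← Nat.card_eq_fintype_card (α := {w : ↥W // Commute (q : G) w})]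
      by_cases hq : (q : G) ∈ W
      · rw [if_pos hq, Nat.card_congr (Equiv.subtypeUnivEquiv (p := fun w : ↥W => Commute (q : G) w)
          fun w => hc _ hq _ w.2), two_mul]
      · rw [if_neg hq, add_zero]
        by_cases hall : ∀ w : ↥W, Commute (q : G) w
        · rw [Nat.card_congr (Equiv.subtypeUnivEquiv hall)]; omega
        · push Not at hall
          obtain ⟨w₀, hw₀⟩ := hall
          let F : Bool × {w : ↥W // Commute (q : G) w} → ↥W := fun p => if p.1 then w₀ * p.2.1 else p.2.1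
          have hF : Function.Surjective F := fun k => by
            by_cases hk : Commute (q : G) k
            · exact ⟨(false, ⟨k, hk⟩), rfl⟩
            · refine ⟨(true, ⟨w₀⁻¹ * k, ?_⟩), mul_inv_cancel_left _ _⟩
              have hna' : ¬ Commute (q : G) (w₀ : G)⁻¹ := fun e => hw₀ (Commute.inv_right_iff.1 e)
              exact hmul (hW k.2)
                ((S.conj_cases q.2 (inv_mem (hW w₀.2))).resolve_left fun e => hna' (mul_inv_eq_iff_eq_mul.1 e))
                ((S.conj_cases q.2 (hW k.2)).resolve_left fun e => hk (mul_inv_eq_iff_eq_mul.1 e))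
          have := Nat.card_le_card_of_surjective F hF
          rwa [Nat.card_prod, show Nat.card Bool = 2 by simp] at this
    have hsum : (∑ q : ↥J, if (q : G) ∈ W then Nat.card ↥W else 0) = Nat.card ↥W * Nat.card ↥W := by
      rw [← Finset.sum_filter, Finset.sum_const, smul_eq_mul, ← Fintype.card_subtype, ← Nat.card_eq_fintype_card]
      have e : {q : ↥J // (q : G) ∈ W} ≃ ↥W :=
        { toFun := fun q => ⟨q.1, q.2⟩
          invFun := fun w => ⟨⟨w, hW w.2⟩, w.2⟩
          left_inv := fun _ => rfl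
          right_inv := fun _ => rfl }
      rw [Nat.card_congr e]
    calc Nat.card ↥W * Nat.card ↥W + 1024 * Nat.card ↥W
        = ∑ q : ↥J, (Nat.card ↥W + if (q : G) ∈ W then Nat.card ↥W else 0) := by
          rw [Finset.sum_add_distrib, hsum, Finset.sum_const, Finset.card_univ, smul_eq_mul, ← Nat.card_eq_fintype_card,
            S.cardJ]
          ring
      _ ≤ _ := by rw [hN, Finset.sum_comm, Finset.mul_sum]; exact Finset.sum_le_sum fun q _ => hge q
  by_contra h
  have := Nat.mul_le_mul (show 65 ≤ Nat.card ↥W by omega) (show 65 ≤ Nat.card ↥W by omega)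
  omega

/-- The involution is not conjugate to `a`. -/
theorem not_conj_a [Finite G] (k : G) : k * z * k⁻¹ ≠ a := by
  intro hk
  haveI := S.finiteP
  haveI : Finite (MulAut P) := Finite.of_injective (fun a : MulAut P => (a : P → P)) DFunLike.coe_injective
  have hmove : ∀ i ∈ S.inner, k⁻¹ * i * k ∈ centralizer ({z} : Set G) := fun i hi => by
    refine mem_centralizer_singleton_iff.2 ?_
    calc k⁻¹ * i * k * z = k⁻¹ * (i * (k * z * k⁻¹)) * k := by group
      _ = k⁻¹ * ((k * z * k⁻¹) * i) * k := by rw [hk, (S.inner_a hi).eq]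
      _ = _ := by group
  let φ : ↥S.inner →* MulAut P :=
    { toFun := fun i => S.f ⟨k⁻¹ * i * k, hmove i i.2⟩
      map_one' := by rw [← map_one S.f]; exact congrArg S.f (Subtype.ext (by simp))
      map_mul' := fun p q => by
        rw [← map_mul]
        exact congrArg S.f (Subtype.ext (by simp only [Subgroup.coe_mul]; group)) }
  have hkerle : Nat.card φ.ker ≤ 2 ^ 10 := by
    rw [← S.cardJ]
    refine Nat.card_le_card_of_injective (fun q => ⟨k⁻¹ * q.1 * k, (S.ker _).1 q.2⟩) fun p q e => ?_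
    have := congrArg Subtype.val e
    exact Subtype.ext (Subtype.ext (mul_left_cancel (mul_right_cancel this)))
  have hle : (MulAut.conj : P →* MulAut P).range ≤ φ.range := by
    refine inner_le S.iso.some ?_
    have h1 := Subgroup.card_eq_card_quotient_mul_card_subgroup φ.ker
    rw [Nat.card_congr (QuotientGroup.quotientKerEquivRange φ).toEquiv, S.card_inner] at h1
    have h2 := φ.range.card_mul_index
    rw [S.autCard] at h2
    by_contra h3
    have h4 := Nat.mul_le_mul_left (Nat.card φ.range) (show 3 ≤ φ.range.index by omega)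
    have h5 := Nat.mul_le_mul_left (Nat.card φ.range) hkerle
    omega
  set J₀ := (J.subgroupOf S.inner).map φ
  haveI : Fact (Nat.Prime 2) := ⟨Nat.prime_two⟩
  have hn : ∀ g ∈ φ.range, ∀ x ∈ J₀, g * x * g⁻¹ ∈ J₀ := by
    rintro _ ⟨i, rfl⟩ _ ⟨q, hq, rfl⟩
    exact ⟨i * q * i⁻¹, S.conj_J (S.inner_comm i.2) hq, by simp⟩
  have hp : IsPGroup 2 ↥J₀ := ((IsPGroup.of_card (n := 10) S.cardJ).of_equiv
    (Subgroup.subgroupOfEquivOfLe S.J_le_inner).symm).map φ
  have hJ1 : ∀ x ∈ J₀, x = 1 := two_trivial S.iso.some J₀ hp fun g hg => hn g (hle hg)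
  have hJJ : ∀ q ∈ J, k⁻¹ * q * k ∈ J := fun q hq =>
    (S.ker ⟨_, hmove q (S.J_le_inner hq)⟩).1 (hJ1 _ ⟨⟨q, S.J_le_inner hq⟩, hq, rfl⟩)
  obtain ⟨p, hpJ, q, hqJ, hpq⟩ : ∃ p ∈ J, ∃ q ∈ J, ¬ Commute p q := by
    by_contra h
    push Not at h
    have := S.abelian_le J le_rfl h
    rw [S.cardJ] at this
    omega
  have e1 : p * q * p⁻¹ * q⁻¹ = z :=
    (S.comm hpJ hqJ).resolve_left fun e => hpq (mul_inv_eq_iff_eq_mul.1 (mul_inv_eq_one.1 e))
  have hset : J.map (MulAut.conj k⁻¹).toMonoidHom = J := Subgroup.eq_of_le_of_card_ge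
    (by rintro _ ⟨q, hq, rfl⟩; simpa using hJJ q hq)
    (by rw [Subgroup.card_map_of_injective (MulAut.conj k⁻¹).injective])
  obtain ⟨p', hp', ep⟩ := hset.symm.le hpJ
  obtain ⟨q', hq', eq'⟩ := hset.symm.le hqJ
  simp only [MulEquiv.coe_toMonoidHom, MulAut.conj_apply, inv_inv] at ep eq'
  have e2 : a = p' * q' * p'⁻¹ * q'⁻¹ := by
    rw [← hk, ← e1, ← ep, ← eq']
    group
  rcases S.comm hp' hq' with e | e
  · exact S.a_ne (e2.trans e)
  · exact S.a_ne_z (e2.trans e)

theorem not_conj_az [Finite G] (k : G) : k * z * k⁻¹ ≠ a * z := by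
  obtain ⟨S'⟩ := S.swap
  exact S'.not_conj_a k

/-- An element of odd order commuting with an involution and fixing its centraliser in the core centralises the
core. -/
theorem fixes_core [Finite G] {l v : G} (hl : Commute l z) (hodd : Odd (orderOf l)) (hv : Commute v z)
    (hv2 : v * v = 1) (hlv : Commute l v) (hfix : ∀ q ∈ J, Commute v q → Commute l q) :
    ∀ q ∈ J, Commute l q := by
  have step : ∀ q ∈ J, Commute l (v * q * v⁻¹ * q⁻¹) → Commute l q := by
    intro q hq hm
    set m := v * q * v⁻¹ * q⁻¹ with hm'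
    have evq : v * q * v⁻¹ = m * q := by rw [hm', inv_mul_cancel_right]
    set c := q⁻¹ * (l * q * l⁻¹)
    have hcJ : c ∈ J := mul_mem (inv_mem hq) (S.conj_J hl hq)
    have elq : l * q * l⁻¹ = q * c := (mul_inv_cancel_left q _).symm
    have evlq : v * (l * q * l⁻¹) * v⁻¹ = m * (l * q * l⁻¹) := by
      calc v * (l * q * l⁻¹) * v⁻¹ = (v * l) * q * (v * l)⁻¹ := by group
        _ = (l * v) * q * (l * v)⁻¹ := by rw [hlv.eq]
        _ = l * (v * q * v⁻¹) * l⁻¹ := by group
        _ = (l * m * l⁻¹) * (l * q * l⁻¹) := by rw [evq]; group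
        _ = _ := by rw [hm.eq, mul_inv_cancel_right]
    have hvc : Commute v c := by
      refine mul_inv_eq_iff_eq_mul.1 ?_
      calc v * c * v⁻¹ = (v * q * v⁻¹)⁻¹ * (v * (l * q * l⁻¹) * v⁻¹) := by show v * (q⁻¹ * _) * v⁻¹ = _; group
        _ = _ := by rw [evq, evlq]; show (m * q)⁻¹ * (m * (l * q * l⁻¹)) = q⁻¹ * (l * q * l⁻¹); group
    have hlc := hfix c hcJ hvc
    have hpow : ∀ n : ℕ, l ^ n * q * (l ^ n)⁻¹ = q * c ^ n := fun n => by
      induction n with
      | zero => simp
      | succ n ih =>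
        calc l ^ (n + 1) * q * (l ^ (n + 1))⁻¹ = l * (l ^ n * q * (l ^ n)⁻¹) * l⁻¹ := by rw [pow_succ']; group
          _ = (l * q * l⁻¹) * (l * c ^ n * l⁻¹) := by rw [ih]; group
          _ = q * c ^ (n + 1) := by rw [elq, (hlc.pow_right n).eq, mul_inv_cancel_right, mul_assoc, ← pow_succ']
    have hn := hpow (orderOf l)
    rw [pow_orderOf_eq_one, one_mul, inv_one, mul_one, eq_comm, mul_eq_left] at hn
    have hc1 : c = 1 := by
      rw [← orderOf_eq_one_iff]
      exact Nat.eq_one_of_dvd_coprimes ((Nat.coprime_two_right.2 hodd).pow_right 2)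
        (orderOf_dvd_of_pow_eq_one hn) (orderOf_dvd_of_pow_eq_one (S.pow_four hcJ))
    rw [hc1, mul_one] at elq
    exact mul_inv_eq_iff_eq_mul.1 elq
  intro q hq
  refine step q hq ?_
  set m := v * q * v⁻¹ * q⁻¹ with hm'
  have hmJ : m ∈ J := mul_mem (S.conj_J hv hq) (inv_mem hq)
  refine step m hmJ ?_
  have e : v * m * v⁻¹ * m⁻¹ = (m * m)⁻¹ := by
    rw [hm']
    simp only [inv_eq_of_mul_eq_one_left hv2, mul_inv_rev, inv_inv, mul_assoc]
    simp only [← mul_assoc, hv2, one_mul]
  rw [e]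
  rcases S.sq hmJ with h | h <;> rw [h]
  · simp
  · rw [S.z_inv]; exact hl

/-- An involution isolated under the centraliser of `v` is central in its part of the centraliser of `z`. -/
theorem central_part [Finite G] {y v : G} (hyz : Commute y z) (hy : orderOf y = 2) (hvz : Commute v z)
    (hv : v * v = 1) (hyv : Commute y v) (hi : Iso y v) {k : G} (hk : Commute k z) (hkv : Commute k v) :
    Commute y k := by
  set K := centralizer ({v} : Set G)
  let yK : ↥K := ⟨y, mem_centralizer_singleton_iff.2 hyv.eq⟩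
  have hiso : Cfsg.IsIsolatedInvolution yK := by
    refine ⟨by rw [← hy]; exact (orderOf_injective K.subtype K.subtype_injective yK).symm, fun g hg => Subtype.ext ?_⟩
    exact hi g (mem_centralizer_singleton_iff.1 g.2) (congrArg Subtype.val hg).symm
  have hl := Cfsg.Lib.ZStarApps.zstarProp hiso ⟨k, mem_centralizer_singleton_iff.2 hkv.eq⟩
  set lK := yK * (⟨k, mem_centralizer_singleton_iff.2 hkv.eq⟩ : ↥K) * yK⁻¹ *
    (⟨k, mem_centralizer_singleton_iff.2 hkv.eq⟩ : ↥K)⁻¹ with hlK
  set l := y * k * y⁻¹ * k⁻¹ with hl'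
  have hlz : Commute l z := ((hyz.mul_left hk).mul_left hyz.inv_left).mul_left hk.inv_left
  have hlv : Commute l v := ((hyv.mul_left hkv).mul_left hyv.inv_left).mul_left hkv.inv_left
  have oddof : ∀ x : ↥K, x ∈ Cfsg.pPrimeCore 2 ↥K → Odd (orderOf (x : G)) := fun x hx => by
    rw [show orderOf (x : G) = orderOf (⟨x, hx⟩ : ↥(Cfsg.pPrimeCore 2 ↥K)) from
      (orderOf_injective K.subtype K.subtype_injective x).trans
        (orderOf_injective (Cfsg.pPrimeCore 2 ↥K).subtype (Subgroup.subtype_injective _) ⟨x, hx⟩)]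
    exact (Cfsg.Lib.ZStarApps.odd_card_pPrimeCore (G := ↥K)).of_dvd_nat (orderOf_dvd_natCard _)
  have hfix : ∀ q ∈ J, Commute l q := by
    refine S.fixes_core hlz (oddof _ hl) hvz hv hlv fun q hq hqv => ?_
    let qK : ↥K := ⟨q, mem_centralizer_singleton_iff.2 hqv.eq.symm⟩
    have hm : lK * qK * lK⁻¹ * qK⁻¹ ∈ Cfsg.pPrimeCore 2 ↥K := by
      rw [show lK * qK * lK⁻¹ * qK⁻¹ = lK * (qK * lK⁻¹ * qK⁻¹) by group]
      exact mul_mem hl (Subgroup.Normal.conj_mem inferInstance _ (inv_mem hl) _)
    have hr : l * q * l⁻¹ * q⁻¹ ∈ J := mul_mem (S.conj_J hlz hq) (inv_mem hq)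
    have h1 : orderOf (l * q * l⁻¹ * q⁻¹) = 1 := Nat.eq_one_of_dvd_coprimes
      ((Nat.coprime_two_right.2 (oddof _ hm)).pow_right 2) dvd_rfl (orderOf_dvd_of_pow_eq_one (S.pow_four hr))
    exact mul_inv_eq_iff_eq_mul.1 (mul_inv_eq_one.1 (orderOf_eq_one_iff.1 h1))
  have hl1 : l = 1 := by
    have hodd := oddof _ hl
    have h2 : l * l = 1 := by
      rcases S.cent hlz hfix with e | e | e | e <;> rw [e]
      · exact one_mul 1
      · exact S.z_sq
      · exact S.sqa
      · rw [show a * z * (a * z) = a * (z * a) * z by group, ← S.comAz.eq, show a * (a * z) * z = a * a * (z * z) by group, S.sqa, S.z_sq, one_mul]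
    exact orderOf_eq_one_iff.1 (Nat.eq_one_of_dvd_coprimes ((Nat.coprime_two_right.2 hodd).pow_right 1) dvd_rfl
      (orderOf_dvd_of_pow_eq_one (by rw [pow_one, pow_two]; exact h2)))
  exact mul_inv_eq_iff_eq_mul.1 (mul_inv_eq_one.1 hl1)

/-- The central involutions isolate only central elements. -/
theorem central_a [Finite G] {y : G} (hyz : Commute y z) (hy : orderOf y = 2) (hya : Commute y a)
    (hi : Iso y a) : InV z a y :=
  S.cent hyz fun q hq => S.central_part hyz hy S.comAz S.sqa hya hi (S.commJ hq) (S.comA q hq).symm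

end Setting

end Cfsg.Lib.FiTwo
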