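import Cfsg.Agent.FiTwoCentral.Large

/-!
# The conjugates of the central involutions in the centraliser
-/

set_option autoImplicit false
set_option Elab.async false
set_option maxRecDepth 100000
set_option linter.style.haveILetI false
set_option linter.unusedSectionVars false

namespace Cfsg.Lib.FiTwo

open Subgroup Cfsg.Lib.USixType
open scoped Pointwise

universe u v

variable {G : Type u} [Group G]

theorem exists_normalizing [Finite G] {P R : Subgroup G} (hp : IsPGroup 2 ↥P) (h : R ≤ P) (hne : ¬ P ≤ R) :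
    ∃ n ∈ P, n ∉ R ∧ ∀ r ∈ R, n * r * n⁻¹ ∈ R ∧ n⁻¹ * r * n ∈ R := by
  haveI : Fact (Nat.Prime 2) := ⟨Nat.prime_two⟩
  haveI := hp.isNilpotent
  have hlt : R.subgroupOf P < ⊤ := lt_top_iff_ne_top.2 fun e => hne fun x hx => by
    have : (⟨x, hx⟩ : ↥P) ∈ R.subgroupOf P := e ▸ Subgroup.mem_top _
    exact this
  obtain ⟨n, hn, hn'⟩ := SetLike.exists_of_lt (Group.normalizerCondition_of_isNilpotent (G := ↥P) (R.subgroupOf P) hlt)
  refine ⟨n, n.2, hn', fun r hr => ⟨(mem_normalizer_iff.1 hn ⟨r, h hr⟩).1 hr, ?_⟩⟩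
  have := (mem_normalizer_iff.1 (inv_mem hn) ⟨r, h hr⟩).1 hr
  simpa [mem_subgroupOf] using this

/-- A maximal two-subgroup of a subgroup. -/
theorem exists_max_two [Finite G] (X : Subgroup G) : ∃ R, R ≤ X ∧ IsPGroup 2 ↥R ∧
    (∀ Y, Y ≤ X → IsPGroup 2 ↥Y → R ≤ Y → Y ≤ R) ∧
      ∀ N, N ≤ X → IsPGroup 2 ↥N → (∀ x ∈ X, ∀ n ∈ N, x * n * x⁻¹ ∈ N) → N ≤ R := by
  haveI : Fact (Nat.Prime 2) := ⟨Nat.prime_two⟩
  obtain ⟨Q⟩ := (inferInstance : Nonempty (Sylow 2 ↥X))
  set R := (Q : Subgroup ↥X).map X.subtype with hR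
  have hRX : R ≤ X := Subgroup.map_subtype_le _
  have hRp : IsPGroup 2 ↥R := Q.isPGroup'.map _
  have hmax : ∀ Y, Y ≤ X → IsPGroup 2 ↥Y → R ≤ Y → Y ≤ R := fun Y hYX hYp hle y hy => by
    have e := Q.is_maximal' (hYp.of_equiv (Subgroup.subgroupOfEquivOfLe hYX).symm)
      fun q hq => hle ⟨q, hq, rfl⟩
    exact ⟨⟨y, hYX hy⟩, e ▸ (hy : (⟨y, hYX hy⟩ : ↥X) ∈ Y.subgroupOf X), rfl⟩
  refine ⟨R, hRX, hRp, hmax, fun N hN hp hn => ?_⟩
  refine le_trans le_sup_right (hmax _ (sup_le hRX hN) (hRp.to_sup_of_normal_right' hp fun r hr => ?_) le_sup_left)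
  exact Cfsg.Lib.ZStarApps.mem_normalizer_of_maps fun n hn' => hn r (hRX hr) n hn'

variable {P : Type v} [Group P] {z a : G} {J E : Subgroup G}

/-- The setting at the other central involution. -/
def Setting.swapped (S : Setting z a J E P) : Setting z (a * z) J E P :=
  { S with
    sqa := by rw [show a * z * (a * z) = a * (z * a) * z by group, ← S.comAz.eq,
      show a * (a * z) * z = a * a * (z * z) by group, S.sqa, S.z_sq, one_mul]
    memA := mul_mem S.memA S.memJ
    notE := fun h => S.notE (by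
      have := mul_mem h S.memE
      rwa [mul_assoc, S.z_sq, mul_one] at this)
    comA := fun q hq => (S.comA q hq).mul_left (S.commJ hq).symm
    split := fun q hq => (S.split q hq).imp id fun h => by
      rw [mul_assoc, ← (S.commJ hq).eq, ← mul_assoc]
      exact mul_mem h S.memE }

theorem Setting.inner_swapped (S : Setting z a J E P) : S.swapped.inner = S.inner := rfl

theorem InV.swap (hz : z * z = 1) {x : G} : InV z (a * z) x ↔ InV z a x := by
  unfold InV
  rw [mul_assoc, hz, mul_one]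
  tauto

/-- The same coordinates at the other central involution. -/
def NC.swap (c : NC z a J) (hz : z * z = 1) : NC z (a * z) J :=
  have back : ∀ {h}, Commute h z → Commute h (a * z) → Commute h a := fun {h} h1 h2 => by
    have := h2.mul_right h1
    rwa [mul_assoc, hz, mul_one] at this
  { β := c.β
    π := c.π
    β_mul := c.β_mul
    β_surj := c.β_surj
    β_ker := fun q hq => (c.β_ker q hq).trans (InV.swap hz).symm
    sq := c.sq
    comm := c.comm
    π_mem := fun h h1 h2 => c.π_mem h h1 (back h1 h2)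
    π_semi := fun h k h1 h2 k1 k2 => c.π_semi h k h1 (back h1 h2) k1 (back k1 k2)
    π_mul := fun h k h1 h2 k1 k2 => c.π_mul h k h1 (back h1 h2) k1 (back k1 k2)
    π_ker := fun h h1 h2 => c.π_ker h h1 (back h1 h2)
    π_surj := fun g hg => by
      obtain ⟨h, h1, h2, e⟩ := c.π_surj g hg
      exact ⟨h, h1, h2.mul_right h1, e⟩
    equiv := fun h h1 h2 => c.equiv h h1 (back h1 h2) }

/-- The fixed vectors are singular. -/
def Alt (ρ : Equiv.Perm Vt) : Prop := ∀ v, ρ v = v → Q v = false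

theorem alt_of_hyper {ρ σ : Equiv.Perm Vt} (hρ : Ext.Semi ρ) (hρ2 : ρ * ρ = 1) (hσ : Lin σ) (hσ2 : σ * σ = 1)
    (hfix : ∀ s, ρ s = s → Q s = false → σ s = s) (hne : σ ≠ 1) : Alt (σ * ρ) := by
  intro v hv
  have hσσ : ∀ w, σ (σ w) = w := fun w => congrArg (fun p : Equiv.Perm Vt => p w) hσ2
  have hρv : ρ v = σ v := by
    have := congrArg σ (show σ (ρ v) = v from hv)
    rwa [hσσ] at this
  obtain ⟨h1, h2⟩ := Ext.split_fixed hρ hρ2 v
  set r' := v + ρ v with hr'
  set r := v + sm 2 r' with hr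
  have hall : ∀ t, ρ t = t → Q t = true → σ t = t → False := fun t ht hQt hst => by
    refine hne (Ext.ext_lin hρ hρ2 hσ fun s hs => ?_)
    cases hQs : Q s
    · exact hfix s hs hQs
    · have hq : Q (s + t) = false := by rw [Q_add, hQs, hQt, (Ext.real hρ hs ht).2]; rfl
      have := hfix (s + t) (by rw [hρ.map_add, hs, ht]) hq
      rw [hσ.map_add, hst] at this
      exact add_right_cancel this
  have hσr' : σ r' = r' := by rw [hr', hρv, hσ.map_add, hσσ, add_comm]
  have hQr' : Q r' = false := by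
    cases h : Q r'
    · rfl
    · exact (hall r' h1 h hσr').elim
  have hv' : v = r + sm 2 r' := by rw [hr, add_assoc, Vt.add_self, add_zero]
  have hd : r' = r + σ r := by
    have e : σ v = σ r + sm 2 r' := by
      conv_lhs => rw [hv']
      rw [hσ.map_add, hσ.map_sm 2 _ (by norm_num), hσr']
    calc r' = v + σ v := by rw [hr', hρv]
      _ = (r + sm 2 r') + (σ r + sm 2 r') := by rw [e, ← hv']
      _ = r + σ r := by rw [add_add_add_comm, Vt.add_self, add_zero]
  have hQs : Q (sm 2 r') = false := by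
    have e := Ext.h_sm_self 2 (by decide) r'.code
    rw [Q] at hQr' ⊢
    show (h (sm 2 r') (sm 2 r') == 1) = false
    rw [show h (sm 2 r') (sm 2 r') = h r' r' from e]
    exact hQr'
  rw [hv', Q_add, hQs]
  cases hQr : Q r
  · have h0 : r' = 0 := by rw [hd, hfix r h2 hQr, Vt.add_self]
    have hB : B r (sm 2 r') = false := by
      have e : sm 2 (0 : Vt) = 0 := sm_zero 2
      rw [h0, e, B]
      simp [(h_zero_left r.code).2]
    rw [hB]
    rfl
  · have hB : B r (sm 2 r') = true := by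
      rw [Ext.B_comm, Ext.B_omega hρ h2 h1]
      by_contra h0
      have h00 : h r r' = 0 := by
        have := (Ext.real hρ h2 h1).1
        omega
      have hne' : r' ≠ 0 := fun e => hall r h2 hQr (by
        have e2 := hd.symm.trans e
        exact ((eq_neg_of_add_eq_zero_right e2).trans (Vt.neg_eq _)))
      obtain ⟨s, hs, es⟩ := Ext.fixed_nondeg hρ hρ2 h1 hne'
      rw [Ext.h_real_comm hρ h1 hs] at es
      have k : ∀ s, ρ s = s → Q s = false → h s r' = 0 := fun s hs hQs => by
        have e := hσ.map_h s r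
        rw [hfix s hs hQs] at e
        rw [hd, h_add_right, e, Nat.xor_self]
      cases hQs' : Q s
      · rw [k s hs hQs'] at es
        exact absurd es (by norm_num)
      · have hq : Q (s + r) = false := by rw [Q_add, hQs', hQr, (Ext.real hρ hs h2).2]; rfl
        have e := k (s + r) (by rw [hρ.map_add, hs, h2]) hq
        rw [h_add_left, h00, es] at e
        exact absurd e (by norm_num)
    rw [hB]
    rfl

namespace Setting

variable [Finite G] (S : Setting z a J E P)
include S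

/-- The order of the centraliser. -/
theorem card_H : Nat.card ↥(centralizer ({z} : Set G)) = 2 ^ 17 * 405 := by
  have h := Subgroup.card_eq_card_quotient_mul_card_subgroup S.f.ker
  rw [Nat.card_congr (QuotientGroup.quotientKerEquivOfSurjective S.f S.surj).toEquiv, S.autCard] at h
  have hk : Nat.card ↥S.f.ker = Nat.card ↥J := Nat.card_congr
    { toFun := fun q => ⟨(q.1 : G), (S.ker _).1 q.2⟩
      invFun := fun q => ⟨⟨q, S.le q.2⟩, (S.ker ⟨q, S.le q.2⟩).2 q.2⟩
      left_inv := fun _ => rfl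
      right_inv := fun _ => rfl }
  rw [hk, S.cardJ] at h
  rw [h]
  norm_num

/-- Normalising a two-group between the core and the centraliser fixes the involution. -/
theorem fix_z_of_norm {T : Subgroup G} (hT : T ≤ centralizer ({z} : Set G)) (hJ : J ≤ T) {n : G}
    (h1 : ∀ t ∈ T, n * t * n⁻¹ ∈ T) (h2 : ∀ t ∈ T, n⁻¹ * t * n ∈ T) : n * z * n⁻¹ = z := by
  have hy : n * z * n⁻¹ ∈ T := h1 z (hJ S.memJ)
  have hq : ∀ q ∈ J, Commute (n * z * n⁻¹) q := fun q hq => by
    have := ((S.comm_z (hT (h2 q (hJ hq)))).symm).map (MulAut.conj n).toMonoidHom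
    simpa [mul_assoc] using this
  rcases S.cent (S.comm_z (hT hy)) hq with e | e | e | e
  · exact absurd (conj_eq_one_iff.1 e) S.z_ne
  · exact e
  · exact absurd e (S.not_conj_a n)
  · exact absurd e (S.not_conj_az n)

theorem J_two : IsPGroup 2 ↥J := IsPGroup.of_card (n := 10) S.cardJ

/-- The centraliser contains a Sylow two-subgroup. -/
theorem exists_sylow : ∃ T : Sylow 2 G, (T : Subgroup G) ≤ centralizer ({z} : Set G) ∧ J ≤ (T : Subgroup G) := by
  haveI : Fact (Nat.Prime 2) := ⟨Nat.prime_two⟩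
  obtain ⟨R, hR, hRp, hmax, hnorm⟩ := exists_max_two (centralizer ({z} : Set G))
  have hJ : J ≤ R := hnorm J S.le S.J_two fun x hx q hq => S.conj_J (S.comm_z hx) hq
  obtain ⟨T, hT⟩ := hRp.exists_le_sylow
  by_cases hTR : (T : Subgroup G) ≤ R
  · exact ⟨T, hTR.trans hR, hJ.trans hT⟩
  exfalso
  obtain ⟨n, hnT, hnR, hn⟩ := exists_normalizing T.isPGroup' hT hTR
  have hz := S.fix_z_of_norm hR hJ (fun t ht => (hn t ht).1) fun t ht => (hn t ht).2
  have := hmax ((T : Subgroup G) ⊓ centralizer ({z} : Set G)) inf_le_right (T.isPGroup'.to_le inf_le_left)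
    (le_inf hT hR) ⟨hnT, Setting.memC (mul_inv_eq_iff_eq_mul.1 hz)⟩
  exact hnR this

theorem not_dvd : ¬ 2 ^ 18 ∣ Nat.card G := fun h => by
  haveI : Fact (Nat.Prime 2) := ⟨Nat.prime_two⟩
  obtain ⟨T, hT, -⟩ := S.exists_sylow
  have h1 := (T.pow_dvd_card_of_pow_dvd_card h).trans (Subgroup.card_dvd_of_le hT)
  rw [S.card_H] at h1
  norm_num at h1

variable (hB : ∀ h, Commute h z → Commute h a)
include hB

/-- The two central involutions are not conjugate. -/
theorem not_conj (g : G) : g * a * g⁻¹ ≠ a * z := by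
  haveI : Fact (Nat.Prime 2) := ⟨Nat.prime_two⟩
  intro hg
  obtain ⟨T, hT, hJ⟩ := S.exists_sylow
  set Cb := centralizer ({a * z} : Set G)
  have h1 : (T : Subgroup G) ≤ Cb := fun t ht =>
    mem_centralizer_singleton_iff.2 ((hB t (S.comm_z (hT ht))).mul_right (S.comm_z (hT ht))).eq
  have h2 : ((g • T : Sylow 2 G) : Subgroup G) ≤ Cb := by
    rintro _ ⟨t, ht, rfl⟩
    refine mem_centralizer_singleton_iff.2 ?_
    have := ((hB t (S.comm_z (hT ht)))).map (MulAut.conj g).toMonoidHom
    simp only [MulEquiv.coe_toMonoidHom, MulAut.conj_apply, hg] at this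
    exact this.eq
  obtain ⟨c, hc⟩ := MulAction.exists_smul_eq ↥Cb ((g • T : Sylow 2 G).subtype h2) (T.subtype h1)
  set n := (c : G) * g with hn
  have hmem : ∀ t ∈ (T : Subgroup G), n * t * n⁻¹ ∈ (T : Subgroup G) := fun t ht => by
    have hin : g * t * g⁻¹ ∈ ((g • T : Sylow 2 G) : Subgroup G) := ⟨t, ht, rfl⟩
    have h3 : c * (⟨g * t * g⁻¹, h2 hin⟩ : ↥Cb) * c⁻¹ ∈
        ((c • (g • T : Sylow 2 G).subtype h2 : Sylow 2 ↥Cb) : Subgroup ↥Cb) := ⟨⟨g * t * g⁻¹, h2 hin⟩, hin, rfl⟩
    rw [hc] at h3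
    rw [show n * t * n⁻¹ = (c : G) * (g * t * g⁻¹) * (c : G)⁻¹ by rw [hn]; group]
    exact h3
  have heq : ((T : Subgroup G)).map (MulAut.conj n).toMonoidHom = T := Subgroup.eq_of_le_of_card_ge
    (by rintro _ ⟨t, ht, rfl⟩; exact hmem t ht)
    (by rw [Subgroup.card_map_of_injective (MulAut.conj n).injective])
  have hz := S.fix_z_of_norm hT hJ hmem fun t ht => by
    obtain ⟨s, hs, rfl⟩ := heq.symm.le ht
    show n⁻¹ * (n * s * n⁻¹) * n ∈ _
    rwa [show n⁻¹ * (n * s * n⁻¹) * n = s by group]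
  have hna : n * a * n⁻¹ = a * z := by
    rw [show n * a * n⁻¹ = (c : G) * (g * a * g⁻¹) * (c : G)⁻¹ by rw [hn]; group, hg,
      mem_centralizer_singleton_iff.1 c.2, mul_inv_cancel_right]
  rw [(hB n (mul_inv_eq_iff_eq_mul.1 hz)).eq, mul_inv_cancel_right] at hna
  exact S.z_ne (left_eq_mul.1 hna)

omit hB in
/-- A half of the core pins involutions. -/
theorem mem_J_of_half (c : NC z a J) {h : G} (hz : Commute h z) (ha : Commute h a) (h2 : h * h = 1)
    {D : Subgroup G} (hD : D ≤ J) (hcard : Nat.card ↥J ≤ 2 * Nat.card ↥D) (hc : ∀ q ∈ D, Commute q h) : h ∈ J := by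
  by_contra hJ
  have hne : c.π h ≠ 1 := fun e => hJ ((c.π_ker h hz ha).1 e)
  have h4 : Nat.card ↥D ≤ 4 * {v | c.π h v = v}.ncard :=
    S.card_le_four_mul c hD fun q hq => c.fixed hz ha (hD hq) (hc q hq)
  have h64 : {v : Vt | c.π h v = v}.ncard ≤ 64 := by
    by_cases hU : c.π h ∈ U
    · exact fixed_le hU (c.π_sq hz ha h2) hne
    · rw [Ext.fixed_count ((c.π_mem h hz ha).resolve_left hU) (c.π_sq hz ha h2)]
      norm_num
  rw [S.cardJ] at hcard
  omega

/-- Under the centraliser of `a` the involution is weakly closed in the core. -/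
theorem weak_at {g : G} (hg : Commute g a) (hy : g * z * g⁻¹ ∈ J) : g * z * g⁻¹ = z := by
  by_cases hi : Iso z a
  · exact hi g hg (S.commJ hy)
  obtain ⟨c⟩ := Ext.exists_ecoord (S.outerSetting hB) (S.outer_noFix (S.noFix_of_witness hi) hB)
  have h := c.weak_closed (g := bar a g) (by rw [← bar_conj hg S.comAz.symm]; exact S.bar_mem hy)
  rw [← bar_conj hg S.comAz.symm] at h
  rcases (bar_eq S.sqa (S.commA hy) S.comAz.symm).1 h with e | e
  · exact e.symm
  · refine absurd ?_ (S.not_conj_az g)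
    calc g * z * g⁻¹ = g * z * g⁻¹ * (a * a) := by rw [S.sqa, mul_one]
      _ = z * a := by rw [← mul_assoc, ← e]
      _ = a * z := S.comAz.eq.symm

omit hB in
/-- The cover meets the centraliser in the inner part. -/
theorem cover_inner (C : Cover S) {h : G} (hz : Commute h z) (ha : Commute h a) (hK : h ∈ C.K0) : h ∈ S.inner := by
  rcases C.cases with ⟨hA, -⟩ | ⟨-, -, t, htz, -, htI, htK, -⟩
  · exact hA h hz ha
  · by_contra hI
    refine htK ?_
    rw [← inv_mul_cancel_left h t]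
    exact mul_mem (inv_mem hK) (C.inner_le (S.two hz htz hI htI))

/-- Under the centraliser of `a` conjugates in the centraliser are inner. -/
theorem inner_at {g : G} (hg : Commute g a) (hy : Commute (g * z * g⁻¹) z) : g * z * g⁻¹ ∈ S.inner := by
  by_cases hi : Iso z a
  · rw [hi g hg hy]; exact S.J_le_inner S.memJ
  obtain ⟨C⟩ := S.exists_cover hi
  exact S.cover_inner C hy (hB _ hy) (C.normal g hg z (C.inner_le (S.J_le_inner S.memJ)))

omit S in
theorem hB_swapped (_S : Setting z a J E P) : ∀ h, Commute h z → Commute h (a * z) := fun h hh =>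
  (hB h hh).mul_right hh

/-- Elements commuting with a conjugate of the involution commute with the conjugate of `a`. -/
theorem comm_u {g h : G} (hh : Commute h (g * z * g⁻¹)) : Commute h (g * a * g⁻¹) := by
  have := (hB _ (commute_back g hh)).map (MulAut.conj g).toMonoidHom
  simpa [mul_assoc] using this

/-- The involution is weakly closed in the core. -/
theorem z_in_J (c : NC z a J) {g : G} (hy : g * z * g⁻¹ ∈ J) : g * z * g⁻¹ = z := by
  set y := g * z * g⁻¹
  set x := g * a * g⁻¹ with hx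
  set D := J ⊓ centralizer ({y} : Set G)
  have hcD : ∀ q ∈ D, Commute q x := fun q hq => S.comm_u hB (mem_centralizer_singleton_iff.1 hq.2)
  have hxz : Commute x z := (S.comm_u hB (S.commJ hy).symm).symm
  have hxy : Commute x y := (S.comm_u hB (Commute.refl y)).symm
  have hxa := hB x hxz
  have hxJ : x ∈ J := S.mem_J_of_half c hxz hxa (conj_sq S.sqa g) inf_le_left (S.half_cent hy) hcD
  have hxy' : x * y = g * (a * z) * g⁻¹ := by simp only [x, y]; group
  by_cases hyV : InV z a y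
  · rcases hyV with e | e | e | e
    · exact absurd (conj_eq_one_iff.1 e) S.z_ne
    · exact e
    · exact absurd e (S.not_conj_a g)
    · exact absurd e (S.not_conj_az g)
  by_cases hxV : InV z a x
  · rcases hxV with e | e | e | e
    · exact absurd (conj_eq_one_iff.1 e) S.a_ne
    · refine absurd ?_ (S.not_conj_a g⁻¹)
      rw [← e, hx]; group
    · exact S.weak_at hB (mul_inv_eq_iff_eq_mul.1 e) hy
    · exact absurd e (S.not_conj hB g)
  have hcen : ∀ r ∈ J, Commute r (x * y) := fun r hr => by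
    have hprod : ∀ {q p}, q ∈ J → p ∈ J → q * y * q⁻¹ = y * z → p * y * p⁻¹ = y * z → Commute (q * p) y :=
      fun {q p} hq hp e1 e2 => mul_inv_eq_iff_eq_mul.1 (by
        rw [show q * p * y * (q * p)⁻¹ = q * (p * y * p⁻¹) * q⁻¹ by group, e2,
          show q * (y * z) * q⁻¹ = (q * y * q⁻¹) * (q * z * q⁻¹) by group, e1, (S.commJ hq).eq,
          mul_inv_cancel_right, mul_assoc, S.z_sq, mul_one])
    rcases S.conj_cases hr hy with e | e
    · have := mul_inv_eq_iff_eq_mul.1 e
      exact (hcD r ⟨hr, mem_centralizer_singleton_iff.2 this⟩).mul_right this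
    · refine mul_inv_eq_iff_eq_mul.1 ?_
      rw [show r * (x * y) * r⁻¹ = (r * x * r⁻¹) * (r * y * r⁻¹) by group, e]
      rcases S.conj_cases hr hxJ with e' | e'
      · exfalso
        refine hxV (S.central hxJ fun p hp => ?_)
        rcases S.conj_cases hp hy with h | h
        · exact (hcD p ⟨hp, mem_centralizer_singleton_iff.2 (mul_inv_eq_iff_eq_mul.1 h)⟩).symm
        · have h1 := hcD (r * p) ⟨mul_mem hr hp, mem_centralizer_singleton_iff.2 (hprod hr hp e h)⟩
          have h2 : Commute r x := mul_inv_eq_iff_eq_mul.1 e'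
          have := h2.inv_left.mul_left h1
          rw [inv_mul_cancel_left] at this
          exact this.symm
      · rw [e', mul_assoc x z, ← mul_assoc z y z, ← (S.commJ hy).eq, mul_assoc y, S.z_sq, mul_one]
  have hxyJ : x * y ∈ J := mul_mem hxJ hy
  rcases S.central hxyJ (fun r hr => (hcen r hr).symm) with e | e | e | e <;> rw [hxy'] at e
  · exact absurd (conj_eq_one_iff.1 e) S.az_ne.1
  · refine absurd ?_ (S.not_conj_az g⁻¹)
    conv_lhs => rw [← e]
    group
  · refine absurd ?_ (S.not_conj hB g⁻¹)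
    conv_lhs => rw [← e]
    group
  · exact S.swapped.weak_at (S.hB_swapped hB) (mul_inv_eq_iff_eq_mul.1 e) hy

/-- So is `a`. -/
theorem a_in_J (c : NC z a J) {g : G} (hu : g * a * g⁻¹ ∈ J) : g * a * g⁻¹ = a := by
  haveI : Fact (Nat.Prime 2) := ⟨Nat.prime_two⟩
  set u := g * a * g⁻¹ with hu'
  by_cases huV : InV z a u
  · rcases huV with e | e | e | e
    · exact absurd (conj_eq_one_iff.1 e) S.a_ne
    · refine absurd ?_ (S.not_conj_a g⁻¹)
      rw [← e, hu']; group
    · exact e
    · exact absurd e (S.not_conj hB g)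
  exfalso
  set X := centralizer ({z} : Set G) ⊓ centralizer ({u} : Set G)
  obtain ⟨R, hRX, hRp, hmax, hnorm⟩ := exists_max_two X
  have hXz : ∀ {x}, x ∈ X → Commute x z := fun hx => S.comm_z hx.1
  have hXu : ∀ {x}, x ∈ X → Commute x u := fun hx => mem_centralizer_singleton_iff.1 hx.2
  set D := J ⊓ centralizer ({u} : Set G)
  have hDR : D ≤ R := hnorm D (le_inf (inf_le_left.trans S.le) inf_le_right) (S.J_two.to_le inf_le_left)
    fun x hx q hq => ⟨S.conj_J (hXz hx) hq.1, mem_centralizer_singleton_iff.2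
      (((hXu hx).mul_left (mem_centralizer_singleton_iff.1 hq.2)).mul_left (hXu hx).inv_left).eq⟩
  have hzR : z ∈ R := hDR ⟨S.memJ, mem_centralizer_singleton_iff.2 (S.commJ hu).symm.eq⟩
  obtain ⟨T, hT, hJT⟩ := S.exists_sylow
  set Cu := centralizer ({u} : Set G)
  have hgT : ((g • T : Sylow 2 G) : Subgroup G) ≤ Cu := by
    rintro _ ⟨t, ht, rfl⟩
    refine mem_centralizer_singleton_iff.2 ?_
    exact ((hB t (S.comm_z (hT ht))).map (MulAut.conj g).toMonoidHom).eq
  obtain ⟨Q, hQ⟩ := (hRp.of_equiv (Subgroup.subgroupOfEquivOfLe (hRX.trans inf_le_right : R ≤ Cu)).symm).exists_le_sylow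
  set P' := (Q : Subgroup ↥Cu).map Cu.subtype
  have hP'p : IsPGroup 2 ↥P' := Q.isPGroup'.map _
  have hP'C : P' ≤ Cu := Subgroup.map_subtype_le _
  have hRP : R ≤ P' := fun r hr => ⟨⟨r, (hRX hr).2⟩, hQ hr, rfl⟩
  have hPR : ¬ P' ≤ R := fun hle => by
    have e1 : Nat.card ↥P' = Nat.card ↥(g • T : Sylow 2 G) := by
      rw [Subgroup.card_map_of_injective Cu.subtype_injective, Q.card_eq_multiplicity,
        ← ((g • T : Sylow 2 G).subtype hgT).card_eq_multiplicity]
      exact Nat.card_congr (Subgroup.subgroupOfEquivOfLe hgT).toEquiv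
    have e2 : Nat.card ↥(g • T : Sylow 2 G) = Nat.card ↥T := Subgroup.card_map_of_injective (MulAut.conj g).injective
    obtain ⟨T', hT'⟩ := hRp.exists_le_sylow
    have e3 : Nat.card ↥(T' : Subgroup G) = Nat.card ↥(T : Subgroup G) :=
      (T'.card_eq_multiplicity).trans T.card_eq_multiplicity.symm
    have heq : R = (T' : Subgroup G) := Subgroup.eq_of_le_of_card_ge hT' (by
      have := Subgroup.card_le_of_le hle
      have e4 : Nat.card ↥(T' : Subgroup G) = Nat.card ↥P' := (e3.trans e2.symm).trans e1.symm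
      exact e4.le.trans this)
    have hp : IsPGroup 2 ↥(R ⊔ J) := hRp.to_sup_of_normal_right' S.J_two fun r hr => S.norm (hRX hr).1
    have hJR : J ≤ R := by
      rw [heq] at hp ⊢
      exact le_trans le_sup_right (T'.is_maximal' hp le_sup_left).le
    exact huV (S.central hu fun q hq => (hXu (hRX (hJR hq))).symm)
  obtain ⟨n, hnP, hnR, hn⟩ := exists_normalizing hP'p hRP hPR
  have hzn := (hn z hzR).1
  have hzz : Commute (n * z * n⁻¹) z := hXz (hRX hzn)
  have hcD : ∀ q ∈ D, Commute q (n * z * n⁻¹) := fun q hq => by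
    have := (hXz (hRX (hn q (hDR hq)).2)).map (MulAut.conj n).toMonoidHom
    simpa [mul_assoc] using this
  have hzJ := S.mem_J_of_half c hzz (hB _ hzz) (conj_sq S.z_sq n) inf_le_left (S.half_cent hu) hcD
  have hnz : Commute n z := mul_inv_eq_iff_eq_mul.1 (S.z_in_J hB c hzJ)
  exact hnR (hmax (P' ⊓ X) inf_le_right (hP'p.to_le inf_le_left) (le_inf hRP hRX)
    ⟨hnP, Setting.memC hnz, hP'C hnP⟩)

omit hB in
/-- The shift of a real vector. -/
theorem shift (c : NC z a J) {x q : G} (hz : Commute x z) (ha : Commute x a) (hs : Ext.Semi (c.π x))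
    (hV : InV z a (x * x)) (hq : q ∈ J) (hfix : c.π x (c.β q) = c.β q) :
    x * q * x⁻¹ = q * zp z (Q (c.β q)) := by
  obtain ⟨w, hw, hwv⟩ := c.β_surj (sm 2 (c.β q))
  set m := x * w * x⁻¹ * w⁻¹ with hm
  have hmJ : m ∈ J := mul_mem (S.conj_J hz hw) (inv_mem hw)
  have hb : c.β m = c.β q := by
    rw [hm, c.β_mul _ (S.conj_J hz hw) _ (inv_mem hw), c.β_inv hw, c.equiv x hz ha w hw, hwv, add_comm,
      Ext.fixed_image hs hfix]
  have hv : InV z a (q⁻¹ * m) := (c.β_ker _ (mul_mem (inv_mem hq) hmJ)).1 (by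
    rw [c.β_mul _ (inv_mem hq) m hmJ, c.β_inv hq, hb, Vt.add_self])
  have e1 : x * m * x⁻¹ = m⁻¹ := by
    rw [hm, show x * (x * w * x⁻¹ * w⁻¹) * x⁻¹ = (x * x) * w * (x * x)⁻¹ * (x * w⁻¹ * x⁻¹) by group,
      ← (S.inV_comm hV hw).eq, mul_inv_cancel_right]
    group
  have e2 : m⁻¹ = m * zp z (Q (c.β q)) := by
    refine inv_eq_of_mul_eq_one_right ?_
    rw [← mul_assoc, c.sq m hmJ, hb]
    cases Q (c.β q) <;> simp [zp, S.z_sq]
  have hcv := cV hz ha hv
  have hzb : Commute (zp z (Q (c.β q))) (q⁻¹ * m)⁻¹ := (Coord.zp_comm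
    ((S.commJ (mul_mem (inv_mem hq) hmJ)).inv_left) _).symm
  calc x * q * x⁻¹ = x * (m * (q⁻¹ * m)⁻¹) * x⁻¹ := by group
    _ = (x * m * x⁻¹) * (x * (q⁻¹ * m)⁻¹ * x⁻¹) := by group
    _ = m * (zp z (Q (c.β q)) * (q⁻¹ * m)⁻¹) := by rw [e1, e2, hcv.inv_right.eq, mul_inv_cancel_right, mul_assoc]
    _ = q * zp z (Q (c.β q)) := by rw [hzb.eq]; group

theorem partner (c : NC z a J) {g : G} (hy : Commute (g * z * g⁻¹) z) (hyI : g * z * g⁻¹ ∉ S.inner)
    (hu : g * a * g⁻¹ ∈ S.inner)
    (halt : Alt (c.π (g * z * g⁻¹)) ∨ ∀ h, Commute h z → h ∉ S.inner → h * h = 1 → ¬ Alt (c.π h)) : False := by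
  set y := g * z * g⁻¹ with hy'
  set u := g * a * g⁻¹ with hu'
  have hya := hB y hy
  have huz := S.inner_comm hu
  have hua := S.inner_a hu
  have hy2 : y * y = 1 := conj_sq S.z_sq g
  have hu2 : u * u = 1 := conj_sq S.sqa g
  have hyu : Commute y u := S.comm_u hB (Commute.refl y)
  have hρU : c.π y ∉ U := fun e => hyI ((S.π_mem_iff c hy hya).1 e)
  have hρ := (c.π_mem y hy hya).resolve_left hρU
  have hρ2 := c.π_sq hy hya hy2
  have hfix : ∀ s, c.π y s = s → Q s = false → c.π u s = s := fun s hs hQ => by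
    obtain ⟨q, hq, rfl⟩ := c.β_surj s
    have e := S.shift c hy hya hρ (Or.inl hy2) hq hs
    rw [hQ, zp, if_neg Bool.false_ne_true, mul_one] at e
    exact c.fixed huz hua hq (S.comm_u hB ((mul_inv_eq_iff_eq_mul.1 e : Commute y q)).symm)
  by_cases hσ : c.π u = 1
  · have h1 := S.a_in_J hB c ((c.π_ker u huz hua).1 hσ)
    exact hyI (S.inner_at hB (mul_inv_eq_iff_eq_mul.1 h1) hy)
  rcases halt with h | h
  · refine hσ (Ext.ext_lin hρ hρ2 (lin_of_mem (S.π_of_inner c hu)) fun r hr => hfix r hr (h r hr))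
  · refine h (u * y) (huz.mul_left hy) (fun e => hyI ?_) ?_ ?_
    · have := mul_mem (inv_mem hu) e
      rwa [inv_mul_cancel_left] at this
    · rw [hyu.mul_mul_mul_comm, hu2, hy2, one_mul]
    · rw [c.π_mul u y huz hua hy hya]
      exact alt_of_hyper hρ hρ2 (lin_of_mem (S.π_of_inner c hu)) (c.π_sq huz hua hu2) hfix hσ

/-- A conjugate of the involution in the centraliser is inner, in the alternating case or without such outer
involutions. -/
theorem no_outer_z (c : NC z a J) {g : G} (hy : Commute (g * z * g⁻¹) z)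
    (halt : Alt (c.π (g * z * g⁻¹)) ∨ ∀ h, Commute h z → h ∉ S.inner → h * h = 1 → ¬ Alt (c.π h)) :
    g * z * g⁻¹ ∈ S.inner := by
  by_contra hyI
  by_cases hu : g * a * g⁻¹ ∈ S.inner
  · exact S.partner hB c hy hyI hu halt
  have huz : Commute (g * a * g⁻¹) z := (S.comm_u hB hy.symm).symm
  have hu' : g * (a * z) * g⁻¹ ∈ S.inner := by
    rw [show g * (a * z) * g⁻¹ = (g * a * g⁻¹) * (g * z * g⁻¹) by group]
    exact S.two huz hy hu hyI
  exact S.swapped.partner (S.hB_swapped hB) (c.swap S.z_sq) hy hyI hu' halt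

end Setting

end Cfsg.Lib.FiTwo
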