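import Cfsg.Agent.FiTwoCentral.Large
import Cfsg.Agent.S1713

/-!
# A perfect cover and an element moving `a`: the Fischer group
-/

set_option autoImplicit false
set_option Elab.async false
set_option linter.style.haveILetI false
set_option linter.unusedSectionVars false

namespace Cfsg.Lib.FiTwo

open Subgroup Cfsg.Lib.USixType

universe u v

/-- The model has trivial centre. -/
theorem center_W : Subgroup.center ↥W = ⊥ := by
  haveI := model_simple
  refine ((inferInstance : (Subgroup.center ↥W).Normal).eq_bot_or_eq_top).resolve_right fun ht => ?_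
  have hb : _root_.commutator ↥W = ⊥ := by
    rw [eq_bot_iff, commutator_eq_closure, Subgroup.closure_le]
    rintro _ ⟨x, y, rfl⟩
    have := Subgroup.mem_center_iff.1 (ht ▸ Subgroup.mem_top y) x
    show x * y * x⁻¹ * y⁻¹ ∈ (⊥ : Subgroup ↥W)
    rw [Subgroup.mem_bot, this, mul_inv_cancel_right, mul_inv_cancel]
  rw [perfect_W] at hb
  have h := congrArg (fun K : Subgroup ↥W => Nat.card ↥K) hb
  simp only [Subgroup.card_top, Subgroup.card_bot, card_W] at h
  norm_num at h

/-- A perfect double cover of the model as centraliser, with fusion. -/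
theorem fi22_of_map {G : Type u} [Group G] [Finite G] {d : G} (hd : orderOf d = 2)
    (hperf : Group.IsPerfect ↥(centralizer ({d} : Set G))) (h0 : ↥(centralizer ({d} : Set G)) →* ↥W)
    (hsurj : Function.Surjective h0) (hk : ∀ x, h0 x = 1 → (x : G) = 1 ∨ (x : G) = d)
    (hd0 : h0 ⟨d, mem_centralizer_singleton_iff.2 rfl⟩ = 1)
    (hw : ∃ g : G, Commute (g * d * g⁻¹) d ∧ g * d * g⁻¹ ≠ d) : Cfsg.Spor.IsoFi22 G := by
  have hd2 : d * d = 1 := by rw [← pow_two, ← hd, pow_orderOf_eq_one]
  have hker : (zpowers d).subgroupOf (centralizer ({d} : Set G)) = h0.ker := by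
    ext x
    rw [mem_subgroupOf, MonoidHom.mem_ker]
    refine ⟨fun h => ?_, fun h => ?_⟩
    · rcases Ext.eq_one_or_of_zpowers hd2 h with e | e
      · rw [show x = 1 from Subtype.ext e, map_one]
      · rw [show x = ⟨d, mem_centralizer_singleton_iff.2 rfl⟩ from Subtype.ext e]
        exact hd0
    · rcases hk _ h with e | e <;> rw [e]
      · exact one_mem _
      · exact mem_zpowers d
  have hcen : Subgroup.center ↥(centralizer ({d} : Set G)) = h0.ker := by
    refine le_antisymm (fun x hx => ?_) fun x hx => ?_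
    · rw [MonoidHom.mem_ker, ← Subgroup.mem_bot (G := ↥W), ← center_W]
      refine mem_center_iff.2 fun w => ?_
      obtain ⟨y, rfl⟩ := hsurj w
      rw [← map_mul, ← map_mul, mem_center_iff.1 hx y]
    · rw [← hker] at hx
      rcases Ext.eq_one_or_of_zpowers hd2 hx with e | e
      · rw [show x = 1 from Subtype.ext e]; exact one_mem _
      · refine mem_center_iff.2 fun y => Subtype.ext ?_
        show (y : G) * x = x * y
        rw [show (x : G) = d from e]
        exact mem_centralizer_singleton_iff.1 y.2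
  obtain ⟨eP⟩ := model_psu PrimeGraph.KQuad PrimeGraph.KQuad.card_eq
  haveI : ((zpowers d).subgroupOf (centralizer ({d} : Set G))).Normal := normal_zpowers_cent d
  let e : ↥(centralizer ({d} : Set G)) ⧸ (zpowers d).subgroupOf (centralizer ({d} : Set G)) ≃*
      Cfsg.PSU 6 PrimeGraph.KQuad 2 :=
    ((QuotientGroup.quotientMulEquivOfEq hker).trans (QuotientGroup.quotientKerEquivOfSurjective h0 hsurj)).trans eP
  have hq : Cfsg.IsQuasisimple ↥(centralizer ({d} : Set G)) := by
    refine ⟨hperf, ?_⟩
    haveI := model_simple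
    exact ((QuotientGroup.quotientMulEquivOfEq hcen).trans
      (QuotientGroup.quotientKerEquivOfSurjective h0 hsurj)).isSimpleGroup
  obtain ⟨g, hg, hne⟩ := hw
  exact Cfsg.Agent.S1713.result d hd hq PrimeGraph.KQuad PrimeGraph.KQuad.card_eq e
    ⟨g, mem_centralizer_singleton_iff.2 hg.eq, hne⟩

variable {G : Type u} [Group G] [Finite G] {P : Type v} [Group P] {z a : G} {J E : Subgroup G}

theorem Setting.order_a (S : Setting z a J E P) : orderOf a = 2 :=
  orderOf_eq_prime (by rw [pow_two]; exact S.sqa) S.a_ne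

namespace Cover

variable {S : Setting z a J E P} (C : Cover S)
include C

theorem L_eq (ha : a ∈ C.L) : C.L = C.K0 := le_antisymm C.L_le fun x hx => by
  rcases C.L_gen hx with h | h
  · exact h
  · have := mul_mem ha h
    rwa [← mul_assoc, S.sqa, one_mul] at this

theorem fi22_of_moves (ha : a ∈ C.L) (ht : ∃ t, Commute t z ∧ ¬ Commute t a) : Cfsg.Spor.IsoFi22 G := by
  obtain ⟨t, htz, hta⟩ := ht
  obtain ⟨-, hall⟩ := C.cases.resolve_right fun h => hta (h.1 t htz)
  have hK : C.K0 = centralizer ({a} : Set G) := le_antisymm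
    (fun x hx => mem_centralizer_singleton_iff.2 (C.cent x hx).eq)
    fun x hx => hall x (mem_centralizer_singleton_iff.1 hx)
  refine fi22_of_map S.order_a (by rw [Subgroup.isPerfect_iff, ← hK]; exact C.L_eq ha)
    (C.g0.comp (Subgroup.inclusion hK.symm.le)) (fun w => ?_) (fun x hx => C.ker _ hx) C.kerA
    ⟨t, ?_, fun h => hta (mul_inv_eq_iff_eq_mul.1 h)⟩
  · obtain ⟨x, hx⟩ := C.surj w
    exact ⟨⟨x, hK ▸ x.2⟩, hx⟩
  · rcases S.conj_a htz with h | h
    · exact absurd (mul_inv_eq_iff_eq_mul.1 h) hta
    · rw [h]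
      exact (Commute.refl a).mul_left S.comAz.symm

end Cover

end Cfsg.Lib.FiTwo
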