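import Cfsg.Agent.FiTwoCentral.Parity
import Cfsg.Agent.FiTwoCentral.BetaA
import Cfsg.Agent.FiPres.Order

/-!
# A perfect cover centralised by the centraliser of the involution: then `a` is central
-/

set_option autoImplicit false
set_option Elab.async false
set_option linter.style.haveILetI false
set_option linter.unusedSectionVars false

namespace Cfsg.Lib.FiTwo

open Subgroup Cfsg.Lib.USixType

universe u v

variable {G : Type u} [Group G] [Finite G] {P : Type v} [Group P] {z a : G} {J E : Subgroup G}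

namespace Setting

variable (S : Setting z a J E P)
include S

/-- The odd core meets the centraliser of the involution trivially. -/
theorem odd_free {l : G} (hl : l ∈ Cfsg.pPrimeCore 2 G) (hlz : Commute l z) : l = 1 := by
  have oddof : ∀ x ∈ Cfsg.pPrimeCore 2 G, Odd (orderOf x) := fun x hx => by
    rw [show orderOf x = orderOf (⟨x, hx⟩ : ↥(Cfsg.pPrimeCore 2 G)) from
      orderOf_injective (Cfsg.pPrimeCore 2 G).subtype (Subgroup.subtype_injective _) ⟨x, hx⟩]
    exact (Cfsg.Lib.ZStarApps.odd_card_pPrimeCore (G := G)).of_dvd_nat (orderOf_dvd_natCard _)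
  have hcJ : ∀ q ∈ J, Commute l q := fun q hq => by
    have hm : l * q * l⁻¹ * q⁻¹ ∈ Cfsg.pPrimeCore 2 G := by
      rw [show l * q * l⁻¹ * q⁻¹ = l * (q * l⁻¹ * q⁻¹) by group]
      exact mul_mem hl (Subgroup.Normal.conj_mem inferInstance _ (inv_mem hl) _)
    have hr : l * q * l⁻¹ * q⁻¹ ∈ J := mul_mem (S.conj_J hlz hq) (inv_mem hq)
    have h1 := orderOf_eq_one_iff.1 (Nat.eq_one_of_dvd_coprimes
      ((Nat.coprime_two_right.2 (oddof _ hm)).pow_right 2) dvd_rfl (orderOf_dvd_of_pow_eq_one (S.pow_four hr)))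
    exact mul_inv_eq_iff_eq_mul.1 (mul_inv_eq_one.1 h1)
  exact orderOf_eq_one_iff.1 (Nat.eq_one_of_dvd_coprimes ((Nat.coprime_two_right.2 (oddof _ hl)).pow_right 1)
    dvd_rfl (orderOf_dvd_of_pow_eq_one (by rw [pow_one, pow_two]; exact S.inV_sq (S.cent hlz hcJ))))

/-- The involution inverts the odd core. -/
theorem odd_inv {l : G} (hl : l ∈ Cfsg.pPrimeCore 2 G) : z * l * z⁻¹ = l⁻¹ := by
  set m := l⁻¹ * (z * l * z⁻¹) with hm
  have hmO : m ∈ Cfsg.pPrimeCore 2 G := mul_mem (inv_mem hl) (Subgroup.Normal.conj_mem inferInstance _ hl _)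
  have hodd : Odd (orderOf m) := by
    rw [show orderOf m = orderOf (⟨m, hmO⟩ : ↥(Cfsg.pPrimeCore 2 G)) from
      orderOf_injective (Cfsg.pPrimeCore 2 G).subtype (Subgroup.subtype_injective _) ⟨m, hmO⟩]
    exact (Cfsg.Lib.ZStarApps.odd_card_pPrimeCore (G := G)).of_dvd_nat (orderOf_dvd_natCard _)
  have hzm : z * m * z⁻¹ = m⁻¹ := by
    rw [hm]
    simp only [mul_inv_rev, inv_inv, S.z_inv, mul_assoc]
    simp only [← mul_assoc, S.z_sq, one_mul]
    simp only [mul_assoc, S.z_sq, mul_one]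
  obtain ⟨k, hk⟩ := hodd
  set n := m ^ (k + 1) with hn
  have hnn : n * n = m := by
    rw [hn, ← pow_add, show k + 1 + (k + 1) = orderOf m + 1 by omega, pow_succ, pow_orderOf_eq_one, one_mul]
  have hzn : z * n * z⁻¹ = n⁻¹ := by rw [hn, ← conj_pow, hzm, inv_pow]
  have hzl : z * l * z⁻¹ = l * m := by rw [hm, mul_inv_cancel_left]
  have h1 : Commute z (l * n) := mul_inv_eq_iff_eq_mul.1 (by
    rw [show z * (l * n) * z⁻¹ = (z * l * z⁻¹) * (z * n * z⁻¹) by group, hzl, hzn, ← hnn]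
    group)
  have h2 := S.odd_free (mul_mem hl (pow_mem hmO _)) h1.symm
  rw [hzl, ← hnn, ← mul_assoc, h2, one_mul]
  exact eq_inv_of_mul_eq_one_right h2

end Setting

namespace Cover

variable {S : Setting z a J E P} (C : Cover S)
include C

set_option maxHeartbeats 1000000 in
/-- With a perfect cover and a centralised `a`, this is central. -/
theorem central_of_perfect (hia : ¬ Iso z a) (ha : a ∈ C.L) (hB : ∀ h, Commute h z → Commute h a) :
    ∀ g : G, Commute g a := by
  classical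
  obtain ⟨c⟩ := S.exists_nc (S.noFix_of_witness hia)
  obtain ⟨x, hxz, hxI, hVx⟩ := S.exists_neg hB c C
  have hxa := hB x hxz
  set V := MonoidHom.transfer S.sgn
  set M := V.ker with hM
  have hKM : C.K0 ≤ M := by
    rw [← C.L_eq ha]
    refine Subgroup.commutator_le.2 fun p _ q _ => ?_
    rw [commutatorElement_def, hM, MonoidHom.mem_ker, map_mul, map_mul, map_mul, map_inv, map_inv, mul_comm (V p),
      mul_assoc (V q), mul_inv_cancel, mul_one, mul_inv_cancel]
  have hxM : x ∉ M := fun e => by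
    rw [hM, MonoidHom.mem_ker, hVx] at e
    exact absurd e (by decide)
  have hidx : M.index = 2 := by
    rw [hM, Subgroup.index_ker, show V.range = ⊤ from top_le_iff.1 fun u _ => ?_, Subgroup.card_top,
      Nat.card_eq_fintype_card]
    · rfl
    · rcases Int.units_eq_one_or u with rfl | rfl
      · exact one_mem _
      · exact ⟨x, hVx⟩
  haveI hMn : M.Normal := Subgroup.normal_of_index_eq_two hidx
  have hxK : x ∉ C.K0 := fun e => hxM (hKM e)
  have htwo : ∀ h k, Commute h a → Commute k a → h ∉ C.K0 → k ∉ C.K0 → h * k ∈ C.K0 := by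
    rcases C.cases with ⟨-, hA⟩ | ⟨-, h, -⟩
    · exact fun h _ ha' _ hh _ => absurd (hA h ha') hh
    · exact h
  have hCM : ∀ h, Commute h a → h ∈ M → h ∈ C.K0 := fun h hha hhM => by
    by_contra hK
    exact hxM (by
      rw [← inv_mul_cancel_left h x]
      exact mul_mem (inv_mem hhM) (hKM (htwo h x hha hxa hK hxK)))
  -- `a` is isolated
  have haM : a ∈ M := hKM C.memA
  have hiso : ∀ g : G, Commute (g * a * g⁻¹) a → g * a * g⁻¹ = a := by
    intro g hg
    by_contra hne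
    obtain ⟨g', hg'M, hg'⟩ : ∃ g' ∈ M, g' * a * g'⁻¹ = g * a * g⁻¹ := by
      by_cases hgM : g ∈ M
      · exact ⟨g, hgM, rfl⟩
      · refine ⟨g * x, (Subgroup.mul_mem_iff_of_index_two hidx).2 (iff_of_false hgM hxM), ?_⟩
        rw [show g * x * a * (g * x)⁻¹ = g * (x * a * x⁻¹) * g⁻¹ by group, hxa.eq, mul_inv_cancel_right]
    let aM : ↥M := ⟨a, haM⟩
    let CM := centralizer ({aM} : Set ↥M)
    have hin : ∀ y : ↥CM, ((y : ↥M) : G) ∈ C.K0 := fun y =>
      hCM _ (congrArg Subtype.val (mem_centralizer_singleton_iff.1 y.2)) y.1.2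
    let j : ↥CM →* ↥C.K0 :=
      { toFun := fun y => ⟨((y : ↥M) : G), hin y⟩
        map_one' := rfl
        map_mul' := fun _ _ => rfl }
    have hj : ∀ k : ↥C.K0, ∃ y, j y = k := fun k =>
      ⟨⟨⟨k, hKM k.2⟩, mem_centralizer_singleton_iff.2 (Subtype.ext (C.cent k k.2).eq)⟩, rfl⟩
    have hperf : Group.IsPerfect ↥CM := by
      rw [Subgroup.isPerfect_iff]
      refine le_antisymm (Subgroup.commutator_le.2 fun p hp q hq => ?_) fun y hy => ?_
      · rw [commutatorElement_def]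
        exact mul_mem (mul_mem (mul_mem hp hq) (inv_mem hp)) (inv_mem hq)
      · have h : (y : G) ∈ C.L := (C.L_eq ha).symm ▸ hin ⟨y, hy⟩
        have hle : C.L ≤ (⁅CM, CM⁆).map M.subtype := Subgroup.commutator_le.2 fun p hp q hq => by
          obtain ⟨p', hp'⟩ := hj ⟨p, hp⟩
          obtain ⟨q', hq'⟩ := hj ⟨q, hq⟩
          refine ⟨_, Subgroup.commutator_mem_commutator p'.2 q'.2, ?_⟩
          simp only [commutatorElement_def, map_mul, map_inv, Subgroup.coe_subtype]
          rw [show ((p' : ↥M) : G) = p from congrArg Subtype.val hp',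
            show ((q' : ↥M) : G) = q from congrArg Subtype.val hq']
        obtain ⟨y', hy', e⟩ := hle h
        rwa [show y = y' from Subtype.ext e.symm]
    obtain ⟨eFi⟩ := fi22_of_map (G := ↥M) (d := aM)
      (by rw [← orderOf_injective M.subtype M.subtype_injective]; exact S.order_a) hperf (C.g0.comp j)
      (fun w => by
        obtain ⟨k, rfl⟩ := C.surj w
        obtain ⟨y, rfl⟩ := hj k
        exact ⟨y, rfl⟩)
      (fun y hy => (C.ker _ hy).imp (fun e => Subtype.ext e) fun e => Subtype.ext e) C.kerA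
      ⟨⟨g', hg'M⟩, Subtype.ext (show g' * a * g'⁻¹ * a = a * (g' * a * g'⁻¹) by rw [hg']; exact hg.eq),
        fun e => hne (hg'.symm.trans (congrArg Subtype.val e))⟩
    refine S.not_dvd ?_
    rw [← M.card_mul_index, hidx, Nat.card_congr eFi.toEquiv, Cfsg.Lib.FiPres.factG.1]
    norm_num
  have hIsol : Cfsg.IsIsolatedInvolution a := ⟨S.order_a, fun g hg => hiso g hg.symm⟩
  -- the cover centralises the odd core
  set O := Cfsg.pPrimeCore 2 G
  set N := centralizer (O : Set G)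
  have hNn : ∀ g : G, ∀ y ∈ N, g * y * g⁻¹ ∈ N := fun g y hy => mem_centralizer_iff.2 fun l hl => by
    have h1 : Commute (g⁻¹ * l * g⁻¹⁻¹) y :=
      mem_centralizer_iff.1 hy _ (Subgroup.Normal.conj_mem inferInstance l hl g⁻¹)
    have h2 := h1.map (MulAut.conj g).toMonoidHom
    simpa [mul_assoc] using h2.eq
  obtain ⟨k, hka, hkc, hkne⟩ : ∃ k, Commute k a ∧ Commute (k * z * k⁻¹) z ∧ k * z * k⁻¹ ≠ z := by
    have h := hia
    unfold Iso at h
    push Not at h
    exact h
  set y := k * z * k⁻¹ with hy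
  have hzK : z ∈ C.K0 := C.inner_le (S.J_le_inner S.memJ)
  have hyK : y ∈ C.K0 := C.normal k hka z hzK
  have hzyN : z * y ∈ N := mem_centralizer_iff.2 fun l hl => by
    have h1 : y * l * y⁻¹ = l⁻¹ := by
      have h2 := S.odd_inv (Subgroup.Normal.conj_mem inferInstance l hl k⁻¹)
      calc y * l * y⁻¹ = k * (z * (k⁻¹ * l * k⁻¹⁻¹) * z⁻¹) * k⁻¹ := by rw [hy]; group
        _ = l⁻¹ := by rw [h2]; group
    have h2 : z * y * l * (z * y)⁻¹ = l := by
      rw [show z * y * l * (z * y)⁻¹ = z * (y * l * y⁻¹) * z⁻¹ by group, h1,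
        show z * l⁻¹ * z⁻¹ = (z * l * z⁻¹)⁻¹ by group, S.odd_inv hl, inv_inv]
    exact (mul_inv_eq_iff_eq_mul.1 h2).symm
  let N' : Subgroup ↥C.K0 := N.subgroupOf C.K0
  haveI : N'.Normal := ⟨fun p hp g => hNn g p hp⟩
  haveI := model_simple
  have htop : N'.map C.g0 = ⊤ := by
    refine ((Subgroup.Normal.map inferInstance C.g0 C.surj).eq_bot_or_eq_top).resolve_left fun hb => ?_
    have h1 : C.g0 ⟨z * y, mul_mem hzK hyK⟩ ∈ N'.map C.g0 := ⟨_, hzyN, rfl⟩
    rw [hb, Subgroup.mem_bot] at h1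
    rcases C.ker _ h1 with e | e
    · refine hkne ?_
      show y = z
      rw [← inv_eq_of_mul_eq_one_right (show z * y = 1 from e), S.z_inv]
    · refine S.not_conj_az k ?_
      rw [S.comAz.eq, ← show z * y = a from e, ← mul_assoc, S.z_sq, one_mul]
  have hrep : ∀ p ∈ C.K0, p ∈ N ∨ a * p ∈ N := fun p hp => by
    obtain ⟨n, hnN, e⟩ := htop.symm ▸ Subgroup.mem_top (C.g0 ⟨p, hp⟩)
    rcases C.ker (n⁻¹ * ⟨p, hp⟩) (by rw [map_mul, map_inv, e, inv_mul_cancel]) with h | h
    · exact Or.inl (by rw [show p = n from (inv_mul_eq_one.1 h).symm]; exact hnN)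
    · refine Or.inr ?_
      have e1 : p = (n : G) * a := inv_mul_eq_iff_eq_mul.1 (show (n : G)⁻¹ * p = a from h)
      rw [e1, (C.cent _ n.2).eq, ← mul_assoc, S.sqa, one_mul]
      exact hnN
  have haN : a ∈ N := by
    refine (Subgroup.commutator_le.2 fun p hp q hq => ?_) ha
    rw [commutatorElement_def]
    have kill : ∀ {p q}, p ∈ C.K0 → q ∈ C.K0 → a * p * q * (a * p)⁻¹ * q⁻¹ = p * q * p⁻¹ * q⁻¹ ∧
        p * (a * q) * p⁻¹ * (a * q)⁻¹ = p * q * p⁻¹ * q⁻¹ := fun {p q} hp hq => by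
      constructor
      · calc a * p * q * (a * p)⁻¹ * q⁻¹ = a * (p * q * p⁻¹) * a⁻¹ * q⁻¹ := by group
          _ = _ := by rw [← (C.cent _ (mul_mem (mul_mem hp hq) (inv_mem hp))).eq, mul_inv_cancel_right]
      · calc p * (a * q) * p⁻¹ * (a * q)⁻¹ = (p * a) * (q * p⁻¹ * q⁻¹) * a⁻¹ := by group
          _ = a * (p * q * p⁻¹ * q⁻¹) * a⁻¹ := by rw [(C.cent p hp).eq]; group
          _ = _ := by
            rw [← (C.cent _ (mul_mem (mul_mem (mul_mem hp hq) (inv_mem hp)) (inv_mem hq))).eq, mul_inv_cancel_right]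
    have cm : ∀ {p q}, p ∈ N → q ∈ N → p * q * p⁻¹ * q⁻¹ ∈ N := fun hp hq =>
      mul_mem (mul_mem (mul_mem hp hq) (inv_mem hp)) (inv_mem hq)
    rcases hrep p hp with h1 | h1 <;> rcases hrep q hq with h2 | h2
    · exact cm h1 h2
    · rw [← (kill hp hq).2]; exact cm h1 h2
    · rw [← (kill hp hq).1]; exact cm h1 h2
    · rw [← (kill hp hq).1, ← (kill (mul_mem C.memA hp) hq).2]; exact cm h1 h2
  intro g
  set l := a * g * a⁻¹ * g⁻¹ with hl
  have hlO : l ∈ O := Cfsg.Lib.ZStarApps.zstarProp hIsol g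
  have h1 : a * l * a⁻¹ = l := by
    rw [(mem_centralizer_iff.1 haN l hlO : l * a = a * l).symm, mul_inv_cancel_right]
  have h2 : a * l * a⁻¹ = l⁻¹ := by
    rw [hl]
    simp only [mul_inv_rev, inv_inv, S.a_inv, mul_assoc]
    simp only [← mul_assoc, S.sqa, one_mul]
  have hodd : Odd (orderOf l) := by
    rw [show orderOf l = orderOf (⟨l, hlO⟩ : ↥O) from
      orderOf_injective O.subtype (Subgroup.subtype_injective _) ⟨l, hlO⟩]
    exact (Cfsg.Lib.ZStarApps.odd_card_pPrimeCore (G := G)).of_dvd_nat (orderOf_dvd_natCard _)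
  have hl1 : l = 1 := orderOf_eq_one_iff.1 (Nat.eq_one_of_dvd_coprimes ((Nat.coprime_two_right.2 hodd).pow_right 1)
    dvd_rfl (orderOf_dvd_of_pow_eq_one (by
      rw [pow_one, pow_two]
      exact mul_eq_one_iff_eq_inv.2 (h1.symm.trans h2))))
  exact (mul_inv_eq_iff_eq_mul.1 (mul_inv_eq_one.1 hl1)).symm

end Cover

end Cfsg.Lib.FiTwo
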