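import Cfsg.Agent.FiTwoCentral.Basic

/-!
# The involution isolated under the centralisers of both central involutions
-/

set_option autoImplicit false
set_option Elab.async false
set_option linter.style.haveILetI false
set_option linter.unusedSectionVars false

namespace Cfsg.Lib.FiTwo

open Subgroup

universe u v

variable {G : Type u} [Group G] [Finite G] {P : Type v} [Group P]

theorem conj_sq {z : G} (hz : z * z = 1) (g : G) : g * z * g⁻¹ * (g * z * g⁻¹) = 1 := by
  rw [show g * z * g⁻¹ * (g * z * g⁻¹) = g * (z * z) * g⁻¹ by group, hz]; group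

theorem orderOf_conj {z : G} (hz : orderOf z = 2) (g : G) : orderOf (g * z * g⁻¹) = 2 := by
  rw [← hz]
  exact orderOf_injective (MulAut.conj g).toMonoidHom (MulAut.conj g).injective z

theorem commute_back {z y : G} (g : G) (h : Commute y (g * z * g⁻¹)) : Commute (g⁻¹ * y * g) z :=
  Cfsg.Lib.USixType.Coord.map_commute g h

theorem conj_back {g z : G} (hc : Commute (g * z * g⁻¹) z) : Commute (g⁻¹ * z * g⁻¹⁻¹) z := by
  rw [inv_inv]
  exact commute_back g hc.symm

/-- A commuting conjugate centralising `a`, with the other central involution of its centraliser. -/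
structure Pair (z a : G) (J : Subgroup G) (g : G) : Prop where
  ne : g * z * g⁻¹ ≠ z
  yz : Commute (g * z * g⁻¹) z
  ya : Commute (g * z * g⁻¹) a
  xz : Commute (g * a * g⁻¹) z
  xa : Commute (g * a * g⁻¹) a
  xy : Commute (g * a * g⁻¹) (g * z * g⁻¹)
  cen : ∀ k, Commute k z → Commute k (g * a * g⁻¹) → Commute (g * z * g⁻¹) k
  moves : ∀ r, Commute r (g * z * g⁻¹) →
    r * (g * a * g⁻¹) * r⁻¹ = g * a * g⁻¹ ∨ r * (g * a * g⁻¹) * r⁻¹ = g * a * g⁻¹ * (g * z * g⁻¹)
  outV : g * a * g⁻¹ ≠ a ∧ g * a * g⁻¹ ≠ a * z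

namespace Setting

variable {z a : G} {J E : Subgroup G} (S : Setting z a J E P)
include S

theorem moves (g : G) {r : G} (hr : Commute r (g * z * g⁻¹)) :
    r * (g * a * g⁻¹) * r⁻¹ = g * a * g⁻¹ ∨ r * (g * a * g⁻¹) * r⁻¹ = g * a * g⁻¹ * (g * z * g⁻¹) := by
  have e : r * (g * a * g⁻¹) * r⁻¹ = g * ((g⁻¹ * r * g) * a * (g⁻¹ * r * g)⁻¹) * g⁻¹ := by group
  rcases S.conj_a (commute_back g hr) with h | h <;> rw [h] at e
  · exact Or.inl e
  · exact Or.inr (e.trans (by group))

/-- The centralisers do not share a central involution. -/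
theorem share (hi : Iso z a) {g : G} (hne : g * z * g⁻¹ ≠ z) (hc : Commute (g * z * g⁻¹) z) :
    g * a * g⁻¹ ≠ a ∧ g * a * g⁻¹ ≠ a * z := by
  refine ⟨fun e => hne (hi g (mul_inv_eq_iff_eq_mul.1 e) hc), fun e => ?_⟩
  obtain ⟨S'⟩ := S.swap
  have hcm : Commute (g * z * g⁻¹) (a * z) := by
    rw [← e]
    exact (S.comAz.map (MulAut.conj g).toMonoidHom).symm
  have hiy : Iso (g * z * g⁻¹) (a * z) := e ▸ hi.conj g
  rcases S'.central_a hc (orderOf_conj S.order g) hcm hiy with h | h | h | h
  · exact S.z_ne (conj_eq_one_iff.1 h)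
  · exact hne h
  · exact S.not_conj_az g h
  · exact S.not_conj_a g (by rw [h, mul_assoc, S.z_sq, mul_one])

theorem pair (hia : Iso z a) (hib : Iso z (a * z)) {g : G} (hne : g * z * g⁻¹ ≠ z) (hc : Commute (g * z * g⁻¹) z)
    (hca : Commute (g * z * g⁻¹) a) : Pair z a J g := by
  set y := g * z * g⁻¹ with hy
  set x := g * a * g⁻¹ with hx
  have hy2 : y * y = 1 := conj_sq S.z_sq g
  have hx2 : x * x = 1 := conj_sq S.sqa g
  have hxy : Commute x y := S.comAz.map (MulAut.conj g).toMonoidHom
  have hxi : x⁻¹ = x := inv_eq_of_mul_eq_one_left hx2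
  have hxz : Commute x z := by
    by_contra hn
    have h1 : z * x * z⁻¹ = x * y := (S.moves g hc.symm).resolve_left fun e => hn (mul_inv_eq_iff_eq_mul.1 e).symm
    have h2 : x * z * x⁻¹ = y * z := by
      rw [hxi]
      calc x * z * x = x * (z * x * z⁻¹) * z := by group
        _ = x * x * y * z := by rw [h1]; group
        _ = y * z := by rw [hx2, one_mul]
    have key : ∀ c : G, Commute x c → Iso z c → False := fun c hxc hic => by
      have h3 := hic x hxc (by rw [h2]; exact hc.mul_left (Commute.refl z))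
      rw [h2] at h3
      exact S.z_ne (conj_eq_one_iff.1 (mul_eq_right.1 h3 : y = 1))
    rcases S.moves g hca.symm with h | h
    · exact key a (mul_inv_eq_iff_eq_mul.1 h).symm hia
    · refine key (a * z) ?_ hib
      refine (mul_inv_eq_iff_eq_mul.1 ?_ : a * z * x = x * (a * z)).symm
      calc a * z * x * (a * z)⁻¹ = a * (z * x * z⁻¹) * a⁻¹ := by group
        _ = a * x * a⁻¹ * (a * y * a⁻¹) := by rw [h1]; group
        _ = x := by rw [h, hca.symm.eq, mul_inv_cancel_right, mul_assoc, hy2, mul_one]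
  have hxa : Commute x a := by
    rcases S.conj_a hxz with h | h
    · exact mul_inv_eq_iff_eq_mul.1 h
    exfalso
    have e1 : x * a * x * a = z := by
      rw [hxi] at h
      rw [h, mul_assoc, ← S.comAz.eq, ← mul_assoc, S.sqa, one_mul]
    rcases S.moves g hca.symm with h' | h'
    · refine S.z_ne ?_
      rw [← e1, mul_assoc x a x, (mul_inv_eq_iff_eq_mul.1 h' : a * x = x * a), ← mul_assoc, hx2, one_mul, S.sqa]
    · refine hne ?_
      rw [S.a_inv] at h'
      rw [← e1, mul_assoc (x * a), mul_assoc x, ← mul_assoc a x a, h', ← mul_assoc, hx2, one_mul]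
  have hcen : ∀ k, Commute k z → Commute k x → Commute y k := fun k hk hkx =>
    S.central_part hc (orderOf_conj S.order g) hxz hx2 hxy.symm (hia.conj g) hk hkx
  exact ⟨hne, hc, hca, hxz, hxa, hxy, hcen, fun r hr => S.moves g hr, S.share hia hne hc⟩

/-- If no commuting conjugate centralises `a` then there is no commuting conjugate. -/
theorem isolated_of_no_pair
    (hno : ∀ g : G, g * z * g⁻¹ ≠ z → Commute (g * z * g⁻¹) z → ¬ Commute (g * z * g⁻¹) a) :
    ∀ g : G, Commute (g * z * g⁻¹) z → g * z * g⁻¹ = z := by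
  classical
  intro g hc
  by_contra hne
  have hmove : ∀ {g : G}, g * z * g⁻¹ ≠ z → Commute (g * z * g⁻¹) z → ¬ Commute z (g * a * g⁻¹) := by
    intro g hne hc hcom
    refine hno g⁻¹ (fun e => hne ?_) (conj_back hc) ?_
    · calc g * z * g⁻¹ = g * (g⁻¹ * z * g⁻¹⁻¹) * g⁻¹ := by rw [e]
        _ = z := by group
    · have := hcom.map (MulAut.conj g⁻¹).toMonoidHom
      simpa [mul_assoc] using this
  have two : ∀ (k : G), k * z * k⁻¹ ≠ z → Commute (k * z * k⁻¹) z → ∀ (l : G), l * z * l⁻¹ ≠ z →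
      Commute (l * z * l⁻¹) z → Commute (k * z * k⁻¹) (l * z * l⁻¹) → k * z * k⁻¹ ≠ l * z * l⁻¹ →
      k * z * k⁻¹ * (l * z * l⁻¹) = z := by
    intro k hk hkc l hl hlc hkl hd
    set t := k * z * k⁻¹ with ht
    set t' := l * z * l⁻¹ with ht'
    set x := k * a * k⁻¹ with hx
    have hx2 : x * x = 1 := conj_sq S.sqa k
    have h1 : t' * x * t'⁻¹ = x * t := by
      refine (S.moves k hkl.symm).resolve_left fun e => ?_
      refine hno (k⁻¹ * l) (fun e' => hd ?_) ?_ ?_
      · show k * z * k⁻¹ = l * z * l⁻¹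
        conv_lhs => rw [← e']
        group
      · rw [show k⁻¹ * l * z * (k⁻¹ * l)⁻¹ = k⁻¹ * t' * k by rw [ht']; group]
        exact commute_back k hkl.symm
      · rw [show k⁻¹ * l * z * (k⁻¹ * l)⁻¹ = k⁻¹ * t' * k by rw [ht']; group]
        exact Cfsg.Lib.USixType.Coord.map_commute k (mul_inv_eq_iff_eq_mul.1 e)
    have ht2 : t' * t' = 1 := conj_sq S.z_sq l
    have h2 : x * t' * x⁻¹ = t * t' := by
      rw [inv_eq_of_mul_eq_one_left hx2]
      calc x * t' * x = x * (t' * x * t'⁻¹) * t' := by group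
        _ = x * x * t * t' := by rw [h1]; group
        _ = t * t' := by rw [hx2, one_mul]
    have e : x * l * z * (x * l)⁻¹ = t * t' := by rw [← h2, ht']; group
    by_contra htz
    refine hno (x * l) (e ▸ htz) (e ▸ hkc.mul_left hlc) (e ▸ ?_)
    have m1 : t * a * t⁻¹ = a * z := (S.conj_a hkc).resolve_left fun e => hno k hk hkc (mul_inv_eq_iff_eq_mul.1 e)
    have m2 : t' * a * t'⁻¹ = a * z := (S.conj_a hlc).resolve_left fun e => hno l hl hlc (mul_inv_eq_iff_eq_mul.1 e)
    refine mul_inv_eq_iff_eq_mul.1 ?_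
    calc t * t' * a * (t * t')⁻¹ = t * (t' * a * t'⁻¹) * t⁻¹ := by group
      _ = (t * a * t⁻¹) * (t * z * t⁻¹) := by rw [m2]; group
      _ = a := by rw [m1, hkc.eq, mul_inv_cancel_right, mul_assoc, S.z_sq, mul_one]
  set t := g * z * g⁻¹ with ht
  have ht2 : t * t = 1 := conj_sq S.z_sq g
  have htinv : t⁻¹ = t := inv_eq_of_mul_eq_one_left ht2
  have hsq : ∀ w ∈ J, Commute w t → w * w ≠ z := by
    intro w _ hw e
    refine hmove hne hc ?_
    rw [← e]
    rcases S.moves g hw with h | h
    · have h' : Commute w (g * a * g⁻¹) := mul_inv_eq_iff_eq_mul.1 h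
      exact (h'.mul_left h').symm.symm
    · refine mul_inv_eq_iff_eq_mul.1 ?_
      calc w * w * (g * a * g⁻¹) * (w * w)⁻¹ = w * (w * (g * a * g⁻¹) * w⁻¹) * w⁻¹ := by group
        _ = w * (g * a * g⁻¹ * t) * w⁻¹ := by rw [h]
        _ = (w * (g * a * g⁻¹) * w⁻¹) * (w * t * w⁻¹) := by group
        _ = g * a * g⁻¹ := by rw [h, ← ht, hw.eq, mul_inv_cancel_right, mul_assoc, ht2, mul_one]
  set Ct := J ⊓ centralizer ({t} : Set G)
  have hCt2 : ∀ w ∈ Ct, w * w = 1 := fun w hw =>
    (S.sq hw.1).resolve_right (hsq w hw.1 (mem_centralizer_singleton_iff.1 hw.2))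
  have hCt : Nat.card ↥Ct ≤ 64 := S.abelian_le Ct inf_le_left fun p hp q hq => by
    show p * q = q * p
    calc p * q = (p * q)⁻¹ := eq_inv_of_mul_eq_one_left (hCt2 _ (mul_mem hp hq))
      _ = q * p := by rw [mul_inv_rev, inv_eq_of_mul_eq_one_left (hCt2 p hp), inv_eq_of_mul_eq_one_left (hCt2 q hq)]
  let sh : G → G := fun p => t * p * t * p⁻¹
  have shJ : ∀ {p}, p ∈ J → sh p ∈ J := fun {p} hp => by
    have := mul_mem (S.conj_J hc hp) (inv_mem hp)
    rwa [htinv] at this
  have shrev : ∀ p, t * sh p * t = (sh p)⁻¹ := fun p => by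
    show t * (t * p * t * p⁻¹) * t = (t * p * t * p⁻¹)⁻¹
    simp only [mul_inv_rev, inv_inv, htinv, ← mul_assoc, ht2, one_mul]
  have hsh : ∀ p ∈ J, sh p * sh p = 1 → sh p = 1 ∨ sh p = z := by
    intro p hp h2
    have hcomm : Commute (sh p) t := by
      show sh p * t = t * sh p
      calc sh p * t = t * (t * sh p * t) := by simp only [← mul_assoc, ht2, one_mul]
        _ = t * sh p := by rw [shrev, inv_eq_of_mul_eq_one_left h2]
    by_cases h1 : sh p = 1
    · exact Or.inl h1
    refine Or.inr ?_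
    have e : p * g * z * (p * g)⁻¹ = t * sh p := by
      show _ = t * (t * p * t * p⁻¹)
      simp only [← mul_assoc, ht2, one_mul]
      rw [ht]; group
    have hcz : Commute (t * sh p) z := hc.mul_left (S.commJ (shJ hp))
    have := two g hne hc (p * g) (by
      rw [e]
      intro he
      refine hne ?_
      calc t = p⁻¹ * (p * g * z * (p * g)⁻¹) * p := by rw [ht]; group
        _ = z := by rw [e, he, mul_assoc, ← (S.commJ hp).eq, inv_mul_cancel_left])
      (by rw [e]; exact hcz) (by rw [e]; exact (Commute.refl t).mul_right hcomm.symm)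
      (by rw [e, ← ht]; exact fun he => h1 (mul_eq_left.1 he.symm))
    rw [← ht, e, ← mul_assoc, ht2, one_mul] at this
    exact this
  have hpair : ∀ p ∈ J, ∀ q ∈ J, sh p * sh p = z → sh q * sh q = z → sh q = sh p ∨ sh q = sh p * z := by
    intro p hp q hq ep eq
    have hz' : ∀ {u : G}, u * u = z → u⁻¹ = u * z := fun {u} h => inv_eq_of_mul_eq_one_right (by
      rw [← mul_assoc, h, S.z_sq])
    have e : sh (p * q) = t * p * t * (sh q) * (t * p * t)⁻¹ * sh p := by
      show t * (p * q) * t * (p * q)⁻¹ = t * p * t * (t * q * t * q⁻¹) * (t * p * t)⁻¹ * (t * p * t * p⁻¹)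
      simp only [mul_inv_rev, htinv, ← mul_assoc]
      simp only [mul_assoc, inv_mul_cancel_left, ht2, one_mul]
    have hm : t * p * t ∈ J := by
      have := S.conj_J hc hp
      rwa [htinv] at this
    have h3 : sh (p * q) = sh q * sh p ∨ sh (p * q) = sh q * sh p * z := by
      rcases S.conj_cases hm (shJ hq) with h | h <;> rw [h] at e
      · exact Or.inl e
      · exact Or.inr (by rw [e, mul_assoc, ← (S.commJ (shJ hp)).eq, ← mul_assoc])
    have hrev : t * (sh q * sh p) * t = sh q * sh p := by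
      calc t * (sh q * sh p) * t = (t * sh q * t) * (t * sh p * t) := by
            simp only [mul_assoc, ← mul_assoc t t, ht2, one_mul]
        _ = sh q * sh p := by
          rw [shrev, shrev, hz' ep, hz' eq, mul_assoc, ← mul_assoc z, ← (S.commJ (shJ hp)).eq, mul_assoc (sh p),
            S.z_sq, mul_one]
    have h4 : sh (p * q) * sh (p * q) = 1 := by
      have hr := shrev (p * q)
      have : t * sh (p * q) * t = sh (p * q) := by
        rcases h3 with h | h <;> rw [h]
        · exact hrev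
        · calc t * (sh q * sh p * z) * t = t * (sh q * sh p) * (z * t) := by group
            _ = t * (sh q * sh p) * t * z := by rw [← hc.eq, ← mul_assoc]
            _ = _ := by rw [hrev]
      rw [this] at hr
      nth_rewrite 1 [hr]
      exact inv_mul_cancel _
    have h5 := hsh (p * q) (mul_mem hp hq) h4
    have h6 : sh q * sh p = 1 ∨ sh q * sh p = z := by
      rcases h3 with h | h <;> rw [h] at h5
      · exact h5
      · rcases h5 with h' | h'
        · exact Or.inr (by rw [← S.z_inv]; exact eq_inv_of_mul_eq_one_left h')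
        · exact Or.inl (mul_eq_right.1 h')
    rcases h6 with h | h
    · exact Or.inr (by rw [← hz' ep]; exact eq_inv_of_mul_eq_one_left h)
    · exact Or.inl (mul_right_cancel (h.trans ep.symm))
  let m₁ : G := if h : ∃ p ∈ J, sh p * sh p = z then sh h.choose else 1
  have himg : ∀ p : ↥J, sh p ∈ ({1, z, m₁, m₁ * z} : Finset G) := fun p => by
    simp only [Finset.mem_insert, Finset.mem_singleton]
    rcases S.sq (shJ p.2) with h | h
    · exact (hsh p p.2 h).elim Or.inl fun e => Or.inr (Or.inl e)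
    · have hex : ∃ p ∈ J, sh p * sh p = z := ⟨p, p.2, h⟩
      simp only [m₁, dif_pos hex]
      exact Or.inr (Or.inr (hpair _ hex.choose_spec.1 p p.2 hex.choose_spec.2 h))
  let K := Ct.subgroupOf J
  have hinj : Function.Injective
      (fun c : ↥J ⧸ K => (⟨sh (c.out : ↥J), himg _⟩ : ↥({1, z, m₁, m₁ * z} : Finset G))) := by
    intro c d e
    have e' : sh (c.out : ↥J) = sh (d.out : ↥J) := congrArg Subtype.val e
    rw [← QuotientGroup.out_eq' c, ← QuotientGroup.out_eq' d, QuotientGroup.eq]
    refine ⟨J.mul_mem (J.inv_mem c.out.2) d.out.2, mem_centralizer_singleton_iff.2 ?_⟩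
    set u := ((c.out : ↥J) : G)
    set w := ((d.out : ↥J) : G)
    have e1 : u * t * u⁻¹ = w * t * w⁻¹ := by
      have := congrArg (t * ·) e'
      simpa only [sh, ← mul_assoc, ht2, one_mul] using this
    show u⁻¹ * w * t = t * (u⁻¹ * w)
    calc u⁻¹ * w * t = u⁻¹ * (w * t * w⁻¹) * w := by group
      _ = t * (u⁻¹ * w) := by rw [← e1]; group
  have hle := Nat.card_le_card_of_injective _ hinj
  rw [Nat.card_eq_fintype_card (α := ↥({1, z, m₁, m₁ * z} : Finset G)), Fintype.card_coe] at hle
  have hle4 := hle.trans Finset.card_le_four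
  have hcard := Subgroup.card_eq_card_quotient_mul_card_subgroup K
  rw [S.cardJ, Nat.card_congr (Subgroup.subgroupOfEquivOfLe (inf_le_left : Ct ≤ J)).toEquiv] at hcard
  have := Nat.mul_le_mul hle4 hCt
  rw [← hcard] at this
  norm_num at this

end Setting

end Cfsg.Lib.FiTwo
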