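import Cfsg.Agent.FiTwoCentral.Coords
import Cfsg.Agent.FiTwoCentral.Small

/-!
# With the natural module no commuting conjugate centralises the central involution
-/

set_option autoImplicit false
set_option Elab.async false
set_option maxRecDepth 100000
set_option linter.style.haveILetI false
set_option linter.unusedSectionVars false

namespace Cfsg.Lib.FiTwo

open Subgroup Cfsg.Lib.USixType

universe u v

theorem T0_sep : (grpAKey.all fun n => mulK n n != idK || n == idK || n == T0K ||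
    fix0.any fun v => ev n v != v && fix0.any fun w => ev n w != w && ev n (v + w) != v + w) = true := by
  decide +kernel

theorem T0_cover : ∃ n ∈ grpAKey, fix0.all (fun w => fix0.any fun v => ev n v + v == w) = true :=
  ⟨grpAKey.getD 575 0, by decide +kernel, by decide +kernel⟩

theorem T0_moving : ∃ n ∈ grpAKey, ∀ a : Fin 4, a ≠ 0 → ev n (ev n (sm a.val ⟨5⟩)) ≠ sm a.val ⟨5⟩ :=
  ⟨grpAKey.getD 2 0, by decide +kernel, by decide +kernel⟩

theorem A_commutes : (grpAKey.all fun n => mulK n T0K == mulK T0K n) = true := by decide +kernel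

theorem B_commutes : (grpBKey.all fun n => mulK n R0K == mulK R0K n) = true := by decide +kernel

theorem R0_squares : (grpBKey.all fun n => !((fixR.all fun v => ev n v == v) &&
    grpBKey.all fun m => let m2 := mulK m m; mulK n m2 == mulK m2 n) ||
      n == idK || n == R0K || n == T0K || n == keyOf (tv (ctr d0))) = true := by decide +kernel

theorem onLine_cases : ∀ v : Fin 256, onLine ⟨5⟩ ⟨v⟩ = true → (⟨v⟩ : Vt) = 0 ∨
    ∃ a : Fin 4, a ≠ 0 ∧ (⟨v⟩ : Vt) = sm a.val ⟨5⟩ := by decide +kernel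

theorem onLine_image : ∀ v : Fin 256, onLine ⟨5⟩ ⟨v⟩ = true → ∃ w : Fin 256, tv ⟨5⟩ ⟨w⟩ + ⟨w⟩ = (⟨v⟩ : Vt) := by
  decide +kernel

theorem sm23 : ∀ v : Fin 256, sm 2 (⟨v⟩ : Vt) = sm 3 ⟨v⟩ → (⟨v⟩ : Vt) = 0 := by decide +kernel

theorem Q_zero : Q (0 : Vt) = false := by decide +kernel

theorem Q_image {g : Equiv.Perm Vt} (hg : Lin g) (h2 : g * g = 1) (w : Vt) : Q (g w + w) = false := by
  have hgg : g (g w) = w := congrArg (fun p : Equiv.Perm Vt => p w) h2
  have e1 : h (g w) (g w) = h w w := hg.map_h w w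
  have e2 : h (g w) w = h w (g w) := by
    have := hg.map_h w (g w)
    rwa [hgg] at this
  have key : ∀ a < 4, ∀ b < 4, a ^^^ b ^^^ (b ^^^ a) = 0 := by decide +kernel
  have h0 : h (g w + w) (g w + w) = 0 := by
    rw [h_add_left, h_add_right, h_add_right, e1, e2]
    exact key _ (h_lt _ _) _ (h_lt _ _)
  rw [Q, h0]
  rfl

theorem tv_type (i : Fin 45) : ∃ u ∈ U, tvP i = u * tvP 0 * u⁻¹ :=
  ⟨mv i, mv_mem i, by rw [conj_tvP (mv_mem i), act45_mv]⟩

theorem key_R0 : key R0 = R0K := key_pair 0 d0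

theorem key_T0 : key (tvP 0) = T0K := rfl

theorem fixR_card : {v : Vt | R0 v = v}.ncard ≤ 16 := by
  classical
  refine (Set.ncard_le_ncard (t := (fixR.toFinset : Set Vt)) (fun v hv => ?_) (Set.toFinite _)).trans ?_
  · obtain ⟨i⟩ := v
    have hm : R0 ∈ U := mul_mem (tvP_mem _) (tvP_mem _)
    have hv' : ev R0K ⟨i⟩ = ⟨i⟩ := by rw [← key_R0, ev_key hm]; exact hv
    simp [fixR, hv']
  · rw [Set.ncard_coe_finset]
    exact (List.toFinset_card_le _).trans fix_len.2.le

theorem T0_set : {v : Vt | tvP 0 v = v} = {v | tv ⟨5⟩ v = v} := by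
  ext v; rw [Set.mem_ofPred_eq, Set.mem_ofPred_eq, tvP_apply, ctr_zero.1]

variable {G : Type u} [Group G]

namespace NC

variable {z a : G} {J : Subgroup G} (c : NC z a J)
include c

theorem β_one : c.β 1 = 0 := (c.β_ker 1 (one_mem J)).2 (Or.inl rfl)

theorem β_inv {q : G} (hq : q ∈ J) : c.β q⁻¹ = c.β q := by
  have := c.β_mul q hq q⁻¹ (inv_mem hq)
  rw [mul_inv_cancel, c.β_one] at this
  exact (eq_neg_of_add_eq_zero_right this.symm).trans (Vt.neg_eq _)

theorem π_one : c.π 1 = 1 := (c.π_ker 1 (Commute.one_left z) (Commute.one_left a)).2 (one_mem J)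

/-- The coordinates after an element of the unitary group. -/
def twist (u : Equiv.Perm Vt) (hu : u ∈ U) : NC z a J where
  β q := u (c.β q)
  π h := u * c.π h * u⁻¹
  β_mul p hp q hq := by rw [c.β_mul p hp q hq, (lin_of_mem hu).map_add]
  β_surj v := by
    obtain ⟨q, hq, e⟩ := c.β_surj (u⁻¹ v)
    exact ⟨q, hq, by rw [e]; exact u.apply_symm_apply v⟩
  β_ker q hq := by
    rw [← c.β_ker q hq]
    exact ⟨fun e => u.injective (e.trans (lin_of_mem hu).map_zero.symm), fun e => by rw [e, (lin_of_mem hu).map_zero]⟩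
  sq q hq := by rw [c.sq q hq, Q, Q, (lin_of_mem hu).map_h]
  comm p hp q hq := by rw [c.comm p hp q hq, B, B, (lin_of_mem hu).map_h]
  π_mem h hz ha := (c.π_mem h hz ha).imp (fun e => mul_mem (mul_mem hu e) (inv_mem hu)) fun e =>
    (e.lin_mul (lin_of_mem hu)).mul_lin (lin_of_mem (inv_mem hu))
  π_semi h k hz ha kz ka e e' := by
    have key : ∀ p, u * p * u⁻¹ ∉ U → p ∉ U := fun p hp hp' => hp (mul_mem (mul_mem hu hp') (inv_mem hu))
    exact mul_mem (mul_mem hu (c.π_semi h k hz ha kz ka (key _ e) (key _ e'))) (inv_mem hu)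
  π_mul h k hz ha kz ka := by rw [c.π_mul h k hz ha kz ka]; group
  π_ker h hz ha := by rw [← c.π_ker h hz ha, conj_eq_one_iff]
  π_surj g hg := by
    obtain ⟨h, hz, ha, e⟩ := c.π_surj (u⁻¹ * g * u) (mul_mem (mul_mem (inv_mem hu) hg) hu)
    exact ⟨h, hz, ha, by rw [e]; group⟩
  equiv h hz ha q hq := by
    rw [c.equiv h hz ha q hq]
    simp only [Equiv.Perm.mul_apply, Equiv.Perm.coe_inv, Equiv.symm_apply_apply]

theorem twist_π (u : Equiv.Perm Vt) (hu : u ∈ U) (h : G) : (c.twist u hu).π h = u * c.π h * u⁻¹ := rfl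

/-- An involution fixes what its centraliser in the core gives. -/
theorem fixed {h q : G} (hz : Commute h z) (ha : Commute h a) (hq : q ∈ J) (hc : Commute q h) :
    c.π h (c.β q) = c.β q := by
  rw [← c.equiv h hz ha q hq, ← hc.eq, mul_inv_cancel_right]

theorem π_sq {h : G} (hz : Commute h z) (ha : Commute h a) (h2 : h * h = 1) : c.π h * c.π h = 1 := by
  rw [← c.π_mul h h hz ha hz ha, h2, c.π_one]

end NC

/-- Commuting with both gives commuting with the central elements. -/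
theorem cV {z a x v : G} (xz : Commute x z) (xa : Commute x a) (hv : InV z a v) : Commute x v := by
  rcases hv with e | e | e | e <;> rw [e]
  exacts [Commute.one_right x, xz, xa, xa.mul_right xz]

/-- The data of a pair used with coordinates. -/
structure Ctx (z a : G) (J : Subgroup G) (x y : G) : Prop where
  xz : Commute x z
  xa : Commute x a
  yz : Commute y z
  ya : Commute y a
  xy : Commute x y
  x2 : x * x = 1
  y2 : y * y = 1
  nx : ¬ InV z a x
  nx' : ¬ InV z a (x * y)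
  ny : ¬ InV z a y
  cen : ∀ k, Commute k z → Commute k x → Commute y k
  cen' : ∀ k, Commute k z → Commute k (x * y) → Commute y k
  moves : ∀ r, Commute r y → r * x * r⁻¹ = x ∨ r * x * r⁻¹ = x * y

namespace Ctx

variable {z a : G} {J : Subgroup G} {x y : G} (C : Ctx z a J x y)
include C

theorem swap : Ctx z a J (x * y) y where
  xz := C.xz.mul_left C.yz
  xa := C.xa.mul_left C.ya
  yz := C.yz
  ya := C.ya
  xy := C.xy.mul_left (Commute.refl y)
  x2 := by
    rw [show x * y * (x * y) = x * (y * x) * y by group, ← C.xy.eq, show x * (x * y) * y = x * x * (y * y) by group,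
      C.x2, C.y2, one_mul]
  y2 := C.y2
  nx := C.nx'
  nx' := by rw [mul_assoc, C.y2, mul_one]; exact C.nx
  ny := C.ny
  cen := C.cen'
  cen' := by rw [mul_assoc, C.y2, mul_one]; exact C.cen
  moves r hr := by
    rw [show r * (x * y) * r⁻¹ = (r * x * r⁻¹) * (r * y * r⁻¹) by group, hr.eq, mul_inv_cancel_right]
    rcases C.moves r hr with e | e <;> rw [e]
    · exact Or.inl rfl
    · exact Or.inr rfl

end Ctx

namespace Setting

variable {P : Type v} [Group P] [Finite G] {z a : G} {J E : Subgroup G} (S : Setting z a J E P)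
include S

theorem half_cent {t : G} (ht : t ∈ J) : Nat.card ↥J ≤ 2 * Nat.card ↥(J ⊓ centralizer ({t} : Set G)) := by
  refine Ext.ECoord.card_le_two_cent (s := z) (fun q hq => ?_) fun q hq => S.commJ hq
  exact S.conj_cases ht hq

/-- Few vectors bound the subgroup. -/
theorem card_le_four_mul (c : NC z a J) {K : Subgroup G} (hK : K ≤ J) {T : Set Vt} (hT : ∀ q ∈ K, c.β q ∈ T) :
    Nat.card ↥K ≤ 4 * T.ncard := by
  classical
  let f : ↥K →* Multiplicative Vt :=
    { toFun := fun q => Multiplicative.ofAdd (c.β q)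
      map_one' := congrArg Multiplicative.ofAdd c.β_one
      map_mul' := fun p q => congrArg Multiplicative.ofAdd (c.β_mul p (hK p.2) q (hK q.2)) }
  have h := Subgroup.card_eq_card_quotient_mul_card_subgroup f.ker
  rw [Nat.card_congr (QuotientGroup.quotientKerEquivRange f).toEquiv] at h
  have hker : Nat.card f.ker ≤ 4 := by
    refine (Nat.card_le_card_of_injective (β := ↥({1, z, a, a * z} : Finset G)) (fun q => ⟨q.1.1, ?_⟩)
      fun p q e => Subtype.ext (Subtype.ext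
        (show (p.1 : G) = q.1 from congrArg (fun r : ↥({1, z, a, a * z} : Finset G) => (r : G)) e))).trans ?_
    · simp only [Finset.mem_insert, Finset.mem_singleton]
      exact (c.β_ker _ (hK q.1.2)).1 q.2
    · rw [Nat.card_eq_fintype_card, Fintype.card_coe]
      exact Finset.card_le_four
  have hr : Nat.card f.range ≤ T.ncard := by
    rw [← Nat.card_coe_set_eq]
    refine Nat.card_le_card_of_injective (fun v => ⟨Multiplicative.toAdd v.1, ?_⟩) fun v w e =>
      Subtype.ext (Multiplicative.toAdd.injective (congrArg (fun r : ↥T => (r : Vt)) e))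
    obtain ⟨q, hq⟩ := v.2
    rw [← hq]
    exact hT q q.2
  rw [h, mul_comm 4]
  exact Nat.mul_le_mul hr hker

theorem inV_sq {v : G} (hv : InV z a v) : v * v = 1 := by
  rcases hv with e | e | e | e <;> rw [e]
  · exact one_mul 1
  · exact S.z_sq
  · exact S.sqa
  · rw [show a * z * (a * z) = a * (z * a) * z by group, ← S.comAz.eq, show a * (a * z) * z = a * a * (z * z) by group,
      S.sqa, S.z_sq, one_mul]

theorem inV_comm {v q : G} (hv : InV z a v) (hq : q ∈ J) : Commute q v := by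
  rcases hv with e | e | e | e <;> rw [e]
  · exact Commute.one_right q
  · exact S.commJ hq
  · exact S.commA hq
  · exact (S.commA hq).mul_right (S.commJ hq)

/-- Vectors of an image of an involution are fixed. -/
theorem image_mem (c : NC z a J) {h : G} (hz : Commute h z) (ha : Commute h a) (h2 : h * h = 1) (w : Vt)
    (hQ : Q (c.π h w + w) = false) : ∃ m ∈ J, Commute m h ∧ c.β m = c.π h w + w := by
  obtain ⟨p, hp, rfl⟩ := c.β_surj w
  have hm : h * p * h⁻¹ * p⁻¹ ∈ J := mul_mem (S.conj_J hz hp) (inv_mem hp)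
  have hβ : c.β (h * p * h⁻¹ * p⁻¹) = c.π h (c.β p) + c.β p := by
    rw [c.β_mul _ (S.conj_J hz hp) _ (inv_mem hp), c.equiv h hz ha p hp, c.β_inv hp]
  refine ⟨_, hm, ?_, hβ⟩
  have h1 := c.sq _ hm
  rw [hβ, hQ, zp, if_neg Bool.false_ne_true] at h1
  set m := h * p * h⁻¹ * p⁻¹ with hm'
  have hinv : h * m * h⁻¹ = m := by
    have e3 : h * m * h⁻¹ = m⁻¹ := by
      rw [hm']
      simp only [mul_inv_rev, inv_inv, inv_eq_of_mul_eq_one_left h2, mul_assoc]
      simp only [← mul_assoc, h2, one_mul]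
    rw [e3, inv_eq_of_mul_eq_one_left h1]
  exact (mul_inv_eq_iff_eq_mul.1 hinv).symm

/-- An outer and an inner involution do not have nested centralisers in the core. -/
theorem outer_inner (c : NC z a J) {o h : G} (oz : Commute o z) (oa : Commute o a) (ho : c.π o ∉ U)
    (hz : Commute h z) (ha : Commute h a) (h2 : h * h = 1) (hhU : c.π h ∈ U) (hh : h ∉ J)
    (hsub : ∀ q ∈ J, Commute q h → Commute q o) : False := by
  have hρ := (c.π_mem o oz oa).resolve_left ho
  have hl := lin_of_mem hhU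
  have hne : c.π h ≠ 1 := fun e => hh ((c.π_ker h hz ha).1 e)
  obtain ⟨w, hw⟩ : ∃ w, c.π h w ≠ w := by
    by_contra hh'
    push Not at hh'
    exact hne (Equiv.ext hh')
  have hfix : ∀ w, c.π o (c.π h w + w) = c.π h w + w := fun w => by
    obtain ⟨m, hm, hmh, e⟩ := S.image_mem c hz ha h2 w (Q_image hl (c.π_sq hz ha h2) w)
    rw [← e]
    exact c.fixed oz oa hm (hsub m hm hmh)
  have e1 := hfix (sm 2 w)
  rw [hl.map_sm 2 w (by norm_num), ← sm_add (by norm_num), hρ.map_sm 2 _ (by norm_num), hfix w] at e1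
  refine hw ?_
  have h0 : c.π h w + w = 0 := by
    generalize c.π h w + w = v at e1 ⊢
    obtain ⟨i⟩ := v
    exact sm23 i e1.symm
  calc c.π h w = c.π h w + w + w := by rw [add_assoc, Vt.add_self, add_zero]
    _ = w := by rw [h0, zero_add]

/-- An involution with image a transvection has a centraliser in the core of index two in the fixed vectors. -/
theorem tv_half (c : NC z a J) {x : G} (xz : Commute x z) (xa : Commute x a) (x2 : x * x = 1)
    (hx : c.π x = tvP 0) {q q' : G} (hq : q ∈ J) (hq' : q' ∈ J) (f : tv ⟨5⟩ (c.β q) = c.β q)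
    (f' : tv ⟨5⟩ (c.β q') = c.β q') (n : ¬ Commute q x) (n' : ¬ Commute q' x) : Commute (q * q') x := by
  classical
  have xinv : x⁻¹ = x := inv_eq_of_mul_eq_one_left x2
  have hfix : ∀ {p}, p ∈ J → tv ⟨5⟩ (c.β p) = c.β p → InV z a (x * p * x⁻¹ * p⁻¹) := fun {p} hp hf => by
    refine (c.β_ker _ (mul_mem (S.conj_J xz hp) (inv_mem hp))).1 ?_
    rw [c.β_mul _ (S.conj_J xz hp) _ (inv_mem hp), c.equiv x xz xa p hp, c.β_inv hp, hx, tvP_apply, ctr_zero.1, hf,
      Vt.add_self]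
  obtain ⟨n0, hn0, hcov⟩ := T0_cover
  obtain ⟨g, hg, hgk, hgU⟩ := exists_of_mem_list grpA_ok hn0
  obtain ⟨σ, σz, σa, hσ⟩ := c.π_surj g hgU
  have hgc : g * tvP 0 = tvP 0 * g := key_inj (mul_mem hgU (tvP_mem 0)) (mul_mem (tvP_mem 0) hgU) (by
    rw [key_mul hgU, key_mul (tvP_mem 0), hgk, key_T0]
    exact beq_iff_eq.1 (List.all_eq_true.1 A_commutes _ hn0))
  have hr : x⁻¹ * (σ * x * σ⁻¹) ∈ J := by
    refine (c.π_ker _ (xz.inv_left.mul_left ((σz.mul_left xz).mul_left σz.inv_left))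
      (xa.inv_left.mul_left ((σa.mul_left xa).mul_left σa.inv_left))).1 ?_
    have e : c.π (σ * x * σ⁻¹) * c.π σ = c.π x * c.π σ := by
      rw [← c.π_mul _ _ ((σz.mul_left xz).mul_left σz.inv_left) ((σa.mul_left xa).mul_left σa.inv_left) σz σa,
        inv_mul_cancel_right, c.π_mul _ _ σz σa xz xa, hσ, hx, hgc]
    rw [c.π_mul _ _ xz.inv_left xa.inv_left ((σz.mul_left xz).mul_left σz.inv_left)
      ((σa.mul_left xa).mul_left σa.inv_left), mul_right_cancel e,
      ← c.π_mul _ _ xz.inv_left xa.inv_left xz xa, inv_mul_cancel, c.π_one]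
  have hD : ∀ {p}, p ∈ J → tv ⟨5⟩ (c.β p) = c.β p → ∃ d, (d = 1 ∨ d = z) ∧ x * p * x⁻¹ = p * d := by
    intro p hp hf
    have hm : c.β p ∈ fix0 := by
      generalize c.β p = v at hf ⊢
      obtain ⟨i⟩ := v
      simp [fix0, hf]
    obtain ⟨v, hv, hvw⟩ := List.any_eq_true.1 (List.all_eq_true.1 hcov _ hm)
    obtain ⟨s, hs, rfl⟩ := c.β_surj v
    have hsf : tv ⟨5⟩ (c.β s) = c.β s := by simpa [fix0] using (List.mem_filter.1 hv).2
    obtain ⟨d, hd, hds⟩ : ∃ d, InV z a d ∧ x * s * x⁻¹ = s * d := by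
      refine ⟨_, hfix hs hsf, ?_⟩
      rw [← (S.inV_comm (hfix hs hsf) hs).symm.eq, inv_mul_cancel_right]
    have hs' : σ * s * σ⁻¹ ∈ J := S.conj_J σz hs
    have dσ : σ * d * σ⁻¹ = d := by rw [(cV σz σa hd).eq, mul_inv_cancel_right]
    obtain ⟨d1, hd1, e1⟩ : ∃ d1, (d1 = 1 ∨ d1 = z) ∧
        x⁻¹ * (σ * x * σ⁻¹) * (σ * s * σ⁻¹) * (x⁻¹ * (σ * x * σ⁻¹))⁻¹ = σ * s * σ⁻¹ * d1 := by
      rcases S.conj_cases hr hs' with e | e
      · exact ⟨1, Or.inl rfl, by rw [mul_one]; exact e⟩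
      · exact ⟨z, Or.inr rfl, e⟩
    have hd1V : InV z a d1 := hd1.elim Or.inl fun e => Or.inr (Or.inl e)
    have e2 : x * (σ * s * σ⁻¹) * x⁻¹ = σ * s * σ⁻¹ * d * d1 := by
      have dd : x * d1 * x⁻¹ = d1 := by rw [(cV xz xa hd1V).eq, mul_inv_cancel_right]
      have : σ * s * σ⁻¹ * d = x * (σ * s * σ⁻¹) * x⁻¹ * d1 := by
        calc σ * s * σ⁻¹ * d = σ * s * σ⁻¹ * (σ * d * σ⁻¹) := by rw [dσ]
          _ = σ * (x * s * x⁻¹) * σ⁻¹ := by rw [hds]; group
          _ = x * (x⁻¹ * (σ * x * σ⁻¹) * (σ * s * σ⁻¹) * (x⁻¹ * (σ * x * σ⁻¹))⁻¹) * x⁻¹ := by group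
          _ = x * (σ * s * σ⁻¹) * x⁻¹ * (x * d1 * x⁻¹) := by rw [e1]; group
          _ = _ := by rw [dd]
      rw [this, mul_assoc _ d1 d1, S.inV_sq hd1V, mul_one]
    set k := σ * s * σ⁻¹ * s⁻¹
    have hk : x * k * x⁻¹ = k * d1 := by
      calc x * k * x⁻¹ = (x * (σ * s * σ⁻¹) * x⁻¹) * (x * s * x⁻¹)⁻¹ := by
            show x * (σ * s * σ⁻¹ * s⁻¹) * x⁻¹ = _; group
        _ = σ * s * σ⁻¹ * (d * d1 * d⁻¹) * s⁻¹ := by rw [e2, hds]; group
        _ = σ * s * σ⁻¹ * d1 * s⁻¹ := by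
          rw [(cV (S.comm_z_a hd).1 (S.comm_z_a hd).2 hd1V).eq, mul_inv_cancel_right]
        _ = k * d1 := by
          rw [mul_assoc, (cV (S.commJ hs).inv_left (S.commA hs).inv_left hd1V).symm.eq, ← mul_assoc]
    obtain ⟨b, hb⟩ : ∃ b, InV z a b ∧ p = k * b := by
      refine ⟨k⁻¹ * p, (c.β_ker _ (mul_mem (inv_mem (mul_mem hs' (inv_mem hs))) hp)).1 ?_, (mul_inv_cancel_left k p).symm⟩
      rw [c.β_mul _ (inv_mem (mul_mem hs' (inv_mem hs))) _ hp, c.β_inv (mul_mem hs' (inv_mem hs)),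
        c.β_mul _ hs' _ (inv_mem hs), c.β_inv hs, c.equiv σ σz σa s hs, hσ, ← ev_key hgU, hgk, beq_iff_eq.1 hvw,
        Vt.add_self]
    refine ⟨d1, hd1, ?_⟩
    have xb : x * b * x⁻¹ = b := by rw [(cV xz xa hb.1).eq, mul_inv_cancel_right]
    have hbd : Commute d1 b := cV (S.comm_z_a hd1V).1 (S.comm_z_a hd1V).2 hb.1
    rw [hb.2, show x * (k * b) * x⁻¹ = x * k * x⁻¹ * (x * b * x⁻¹) by group, hk, xb, mul_assoc, hbd.eq, ← mul_assoc]
  obtain ⟨d, hd, e⟩ := hD hq f
  obtain ⟨d', hd', e'⟩ := hD hq' f'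
  rcases hd with hd | hd <;> rw [hd] at e
  · exact absurd (mul_inv_eq_iff_eq_mul.1 (e.trans (mul_one q))).symm n
  rcases hd' with hd' | hd' <;> rw [hd'] at e'
  · exact absurd (mul_inv_eq_iff_eq_mul.1 (e'.trans (mul_one q'))).symm n'
  refine (mul_inv_eq_iff_eq_mul.1 ?_ : x * (q * q') = q * q' * x).symm
  rw [show x * (q * q') * x⁻¹ = (x * q * x⁻¹) * (x * q' * x⁻¹) by group, e, e', mul_assoc, ← mul_assoc z,
    ← (S.commJ hq').eq, mul_assoc q', S.z_sq, mul_one]

/-- A transvection and another inner involution do not have nested centralisers. -/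
theorem tv_inner (c : NC z a J) {x h : G} (xz : Commute x z) (xa : Commute x a) (x2 : x * x = 1)
    (hx : ∃ u ∈ U, c.π x = u * tvP 0 * u⁻¹)
    (hz : Commute h z) (ha : Commute h a) (h2 : h * h = 1) (hhU : c.π h ∈ U) (hh : h ∉ J) (hne : c.π h ≠ c.π x)
    (hxh : Commute x h) (hsub : ∀ q ∈ J, Commute q x → Commute q h) : False := by
  obtain ⟨u, hu, hx⟩ := hx
  let d := c.twist u⁻¹ (inv_mem hu)
  have dx : d.π x = tvP 0 := by rw [NC.twist_π, hx]; group
  have dU : d.π h ∈ U := mul_mem (mul_mem (inv_mem hu) hhU) (inv_mem (inv_mem hu))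
  have dne : d.π h ≠ tvP 0 := fun e => hne (by
    rw [← dx, NC.twist_π, NC.twist_π] at e
    exact mul_left_cancel (mul_right_cancel e))
  have dcom : d.π h * tvP 0 = tvP 0 * d.π h := by
    rw [← dx, ← d.π_mul _ _ hz ha xz xa, ← d.π_mul _ _ xz xa hz ha, hxh.eq]
  have := List.all_eq_true.1 T0_sep _ (commute_tv0 dU dcom)
  simp only [Bool.or_eq_true, bne_iff_ne, ne_eq, beq_iff_eq, ← key_mul dU, d.π_sq hz ha h2, List.any_eq_true,
    Bool.and_eq_true, ev_key dU] at this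
  rcases this with ((h' | h') | h') | ⟨v, hv, hv1, w, hw, hw1, hw2⟩
  · exact h' rfl
  · exact hh ((d.π_ker h hz ha).1 (key_inj dU (one_mem _) h'))
  · exact dne (key_inj dU (tvP_mem 0) h')
  · obtain ⟨p, hp, rfl⟩ := d.β_surj v
    obtain ⟨r, hr, rfl⟩ := d.β_surj w
    have mem : ∀ {v}, v ∈ fix0 → tv ⟨5⟩ v = v := fun {v} hv => by simpa [fix0] using (List.mem_filter.1 hv).2
    by_cases n : Commute p x
    · exact hv1 (d.fixed hz ha hp (hsub p hp n))
    by_cases n' : Commute r x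
    · exact hw1 (d.fixed hz ha hr (hsub r hr n'))
    refine hw2 ?_
    rw [← d.β_mul p hp r hr]
    exact d.fixed hz ha (mul_mem hp hr) (hsub _ (mul_mem hp hr)
      (S.tv_half d xz xa x2 dx hp hr (mem hv) (mem hw) n n'))

/-- The square of a suitable lift commutes with the partner. -/
theorem lift_square (c : NC z a J) {x y : G} (C : Ctx z a J x y) {g : Equiv.Perm Vt} (hg : g ∈ U)
    (hcom : g * c.π x = c.π x * g)
    (himg : ∀ σ, Commute σ z → Commute σ a → c.π σ = g → ∃ w, c.β (x⁻¹ * (σ * x * σ⁻¹)) = c.π x w + w) :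
    ∃ k, Commute k z ∧ Commute k a ∧ c.π k = g * g ∧ Commute y k := by
  obtain ⟨σ, σz, σa, hσ⟩ := c.π_surj g hg
  obtain ⟨w, hw⟩ := himg σ σz σa hσ
  obtain ⟨p, hp, rfl⟩ := c.β_surj w
  have pz := S.commJ hp
  have pa := S.commA hp
  have cz : Commute (σ * x * σ⁻¹) z := (σz.mul_left C.xz).mul_left σz.inv_left
  have ca : Commute (σ * x * σ⁻¹) a := (σa.mul_left C.xa).mul_left σa.inv_left
  have hr : x⁻¹ * (σ * x * σ⁻¹) ∈ J := by
    refine (c.π_ker _ (C.xz.inv_left.mul_left cz) (C.xa.inv_left.mul_left ca)).1 ?_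
    have e : c.π (σ * x * σ⁻¹) * c.π σ = c.π x * c.π σ := by
      rw [← c.π_mul _ _ cz ca σz σa, inv_mul_cancel_right, c.π_mul _ _ σz σa C.xz C.xa, hσ, hcom]
    rw [c.π_mul _ _ C.xz.inv_left C.xa.inv_left cz ca, mul_right_cancel e,
      ← c.π_mul _ _ C.xz.inv_left C.xa.inv_left C.xz C.xa, inv_mul_cancel, c.π_one]
  set r := x⁻¹ * (σ * x * σ⁻¹) with hr'
  have kz : Commute (p * σ) z := pz.mul_left σz
  have ka : Commute (p * σ) a := pa.mul_left σa
  have e : p * σ * x * (p * σ)⁻¹ = x * ((x⁻¹ * p * x) * p⁻¹ * (p * r * p⁻¹)) := by rw [hr']; group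
  set v := x⁻¹ * p * x * p⁻¹ * (p * r * p⁻¹) with hv'
  have hxi : x⁻¹ = x := inv_eq_of_mul_eq_one_left C.x2
  have hxp : x⁻¹ * p * x ∈ J := by
    have := S.conj_J C.xz hp
    rwa [hxi] at this ⊢
  have hv : InV z a v := by
    have hpr : p * r * p⁻¹ ∈ J := mul_mem (mul_mem hp hr) (inv_mem hp)
    refine (c.β_ker _ (mul_mem (mul_mem hxp (inv_mem hp)) hpr)).1 ?_
    rw [c.β_mul _ (mul_mem hxp (inv_mem hp)) _ hpr, c.β_mul _ hxp _ (inv_mem hp), c.β_inv hp,
      c.β_mul _ (mul_mem hp hr) _ (inv_mem hp), c.β_mul _ hp _ hr, c.β_inv hp,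
      show x⁻¹ * p * x = x * p * x⁻¹ by rw [hxi], c.equiv x C.xz C.xa p hp, hw,
      show c.β p + (c.π x (c.β p) + c.β p) + c.β p = c.π x (c.β p) + c.β p by
        rw [add_comm (c.β p), add_assoc, add_assoc, Vt.add_self, add_zero], Vt.add_self]
  have hv2 : v * v = 1 := S.inV_sq hv
  have hkv : p * σ * v * (p * σ)⁻¹ = v := by rw [(cV kz ka hv).eq, mul_inv_cancel_right]
  refine ⟨p * σ * (p * σ), kz.mul_left kz, ka.mul_left ka, ?_, C.cen _ (kz.mul_left kz) ?_⟩
  · rw [c.π_mul _ _ kz ka kz ka, c.π_mul _ _ pz pa σz σa, hσ, (c.π_ker p pz pa).2 hp, one_mul]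
  · refine mul_inv_eq_iff_eq_mul.1 ?_
    calc p * σ * (p * σ) * x * (p * σ * (p * σ))⁻¹ = p * σ * (p * σ * x * (p * σ)⁻¹) * (p * σ)⁻¹ := by group
      _ = p * σ * (x * v) * (p * σ)⁻¹ := by rw [e]
      _ = (p * σ * x * (p * σ)⁻¹) * (p * σ * v * (p * σ)⁻¹) := by group
      _ = x := by rw [e, hkv, mul_assoc, hv2, mul_one]

/-- The shift of a lift is fixed. -/
theorem shift_fixed (c : NC z a J) {x σ : G} (xz : Commute x z) (xa : Commute x a) (x2 : x * x = 1)
    (σz : Commute σ z) (σa : Commute σ a) (hcom : c.π σ * c.π x = c.π x * c.π σ) :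
    x⁻¹ * (σ * x * σ⁻¹) ∈ J ∧ c.π x (c.β (x⁻¹ * (σ * x * σ⁻¹))) = c.β (x⁻¹ * (σ * x * σ⁻¹)) := by
  have cz : Commute (σ * x * σ⁻¹) z := (σz.mul_left xz).mul_left σz.inv_left
  have ca : Commute (σ * x * σ⁻¹) a := (σa.mul_left xa).mul_left σa.inv_left
  have hr : x⁻¹ * (σ * x * σ⁻¹) ∈ J := by
    refine (c.π_ker _ (xz.inv_left.mul_left cz) (xa.inv_left.mul_left ca)).1 ?_
    have e : c.π (σ * x * σ⁻¹) * c.π σ = c.π x * c.π σ := by
      rw [← c.π_mul _ _ cz ca σz σa, inv_mul_cancel_right, c.π_mul _ _ σz σa xz xa, hcom]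
    rw [c.π_mul _ _ xz.inv_left xa.inv_left cz ca, mul_right_cancel e,
      ← c.π_mul _ _ xz.inv_left xa.inv_left xz xa, inv_mul_cancel, c.π_one]
  refine ⟨hr, ?_⟩
  have hxi : x⁻¹ = x := inv_eq_of_mul_eq_one_left x2
  rw [← c.equiv x xz xa _ hr, ← c.β_inv hr]
  congr 1
  rw [hxi, show (x * (σ * x * σ⁻¹))⁻¹ = σ * x⁻¹ * σ⁻¹ * x⁻¹ by group, hxi]
  simp only [← mul_assoc, x2, one_mul]

set_option maxHeartbeats 1000000 in
/-- A partner in the core. -/
theorem in_core (c : NC z a J) {x y : G} (C : Ctx z a J x y) (hy : y ∈ J) : False := by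
  classical
  -- the centraliser of the other is large
  set K := J ⊓ centralizer ({y} : Set G)
  have h1 : Nat.card ↥J ≤ 2 * Nat.card ↥K := S.half_cent hy
  have h2 : Nat.card ↥K ≤ 2 * Nat.card ↥(K ⊓ centralizer ({x} : Set G)) := by
    refine Ext.ECoord.card_le_two_cent (s := y) (fun r hr => ?_) fun r hr => mem_centralizer_singleton_iff.1 hr.2
    have hry : Commute r y := mem_centralizer_singleton_iff.1 hr.2
    rcases C.moves r hry with e | e
    · exact Or.inl (by rw [← (mul_inv_eq_iff_eq_mul.1 e : r * x = x * r), mul_inv_cancel_right])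
    · refine Or.inr ?_
      rw [inv_eq_of_mul_eq_one_left C.x2]
      calc x * r * x = x * (r * x * r⁻¹) * r := by group
        _ = x * x * (y * r) := by rw [e]; group
        _ = r * y := by rw [C.x2, one_mul, hry.eq]
  set Kx := K ⊓ centralizer ({x} : Set G)
  have hKJ : Kx ≤ J := fun q hq => hq.1.1
  have hxq : ∀ q ∈ Kx, Commute q x := fun q hq => mem_centralizer_singleton_iff.1 hq.2
  have hbig : 256 ≤ Nat.card ↥Kx := by
    rw [S.cardJ] at h1
    omega
  by_cases hxJ : x ∈ J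
  · -- both in the core
    have hx' : x * y ∈ J := mul_mem hxJ hy
    have same : ∀ q ∈ J, Commute q x ↔ Commute q (x * y) := fun q hq =>
      ⟨fun h => h.mul_right (C.cen q (S.commJ hq) h).symm, fun h => by
        have := h.mul_right (C.cen' q (S.commJ hq) h).symm
        rwa [mul_assoc, C.y2, mul_one] at this⟩
    refine C.ny ((c.β_ker y hy).1 (by_contra fun hne => ?_))
    obtain ⟨i, hi⟩ := functional_ne (c.β y).code hne
    obtain ⟨q, hq, hqv⟩ := c.β_surj ⟨i⟩
    have k : ∀ {t}, t ∈ J → (Commute q t ↔ B (c.β q) (c.β t) = false) := fun {t} ht => by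
      have e := c.comm q hq t ht
      constructor
      · intro h
        rw [h.eq, mul_inv_cancel_right, mul_inv_cancel] at e
        revert e
        cases B (c.β q) (c.β t) <;> simp [zp, S.z_ne.symm]
      · intro h
        rw [h, zp, if_neg Bool.false_ne_true] at e
        exact mul_inv_eq_iff_eq_mul.1 (mul_inv_eq_one.1 e)
    have h := same q hq
    rw [k hxJ, k hx', c.β_mul x hxJ y hy, B_add_right, Ext.B_comm _ (c.β y), hqv] at h
    rw [show B (c.β y) ⟨i⟩ = true from hi] at h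
    revert h
    cases B ⟨i⟩ (c.β x) <;> simp
  have hπne : c.π x ≠ 1 := fun e => hxJ ((c.π_ker x C.xz C.xa).1 e)
  have h4 : Nat.card ↥Kx ≤ 4 * {v : Vt | c.π x v = v}.ncard :=
    S.card_le_four_mul c hKJ fun q hq => c.fixed C.xz C.xa (hKJ hq) (hxq q hq)
  by_cases hxU : c.π x ∈ U
  swap
  · rw [Ext.fixed_count ((c.π_mem x C.xz C.xa).resolve_left hxU) (c.π_sq C.xz C.xa C.x2)] at h4
    omega
  obtain ⟨u, hu, e | e⟩ := invol_cases hxU (c.π_sq C.xz C.xa C.x2) hπne
  swap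
  · have : {v : Vt | c.π x v = v}.ncard ≤ 16 := by
      refine le_trans (le_of_eq ?_) fixR_card
      rw [← Set.ncard_image_of_injective {v : Vt | R0 v = v} u.injective]
      congr 1
      ext v
      simp only [Set.mem_image, Set.mem_ofPred_eq, e, Equiv.Perm.mul_apply]
      refine ⟨fun h => ⟨u⁻¹ v, u.injective (h.trans (u.apply_symm_apply v).symm), u.apply_symm_apply v⟩, ?_⟩
      rintro ⟨w, hw, rfl⟩
      simp [hw]
    omega
  let d := c.twist u⁻¹ (inv_mem hu)
  have dx : d.π x = tvP 0 := by rw [NC.twist_π, e]; group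
  have hfix : ∀ q ∈ Kx, tv ⟨5⟩ (d.β q) = d.β q := fun q hq => by
    have := d.fixed C.xz C.xa (hKJ hq) (hxq q hq)
    rwa [dx, tvP_apply, ctr_zero.1] at this
  have hset : {v : Vt | ∃ q ∈ Kx, d.β q = v} = {v | tv ⟨5⟩ v = v} := by
    refine Set.eq_of_subset_of_ncard_le (fun v ⟨q, hq, e⟩ => e ▸ hfix q hq) ?_ (Set.toFinite _)
    have h64 : {v : Vt | tv ⟨5⟩ v = v}.ncard ≤ 64 := by
      have := fixed_le (tvP_mem 0) (tvP_sq 0) (fun e => hπne (by
        have := dx.trans e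
        rw [NC.twist_π] at this
        exact conj_eq_one_iff.1 this))
      rwa [T0_set] at this
    have := S.card_le_four_mul d hKJ (T := {v : Vt | ∃ q ∈ Kx, d.β q = v}) fun q hq => ⟨q, hq, rfl⟩
    omega
  -- the vector of y
  have hyK : y ∈ Kx := ⟨⟨hy, mem_centralizer_singleton_iff.2 rfl⟩, mem_centralizer_singleton_iff.2 C.xy.eq.symm⟩
  have perp : ∀ {t}, t ∈ J → (∀ q ∈ Kx, Commute q t) → ∀ w, tv ⟨5⟩ w = w → B (d.β t) w = false := by
    intro t ht htc w hw
    obtain ⟨q, hq, rfl⟩ : w ∈ {v : Vt | ∃ q ∈ Kx, d.β q = v} := hset.symm ▸ hw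
    have e := d.comm q (hKJ hq) t ht
    rw [(htc q hq).eq, mul_inv_cancel_right, mul_inv_cancel] at e
    rw [Ext.B_comm]
    revert e
    cases B (d.β q) (d.β t) <;> simp [zp, S.z_ne.symm]
  have onl : ∀ {t}, t ∈ J → (∀ q ∈ Kx, Commute q t) → tv ⟨5⟩ (d.β t) = d.β t → onLine ⟨5⟩ (d.β t) = true := by
    intro t ht htc htf
    have hm : d.β t ∈ fix0 := by
      generalize d.β t = v at htf ⊢
      obtain ⟨i⟩ := v
      simp [fix0, htf]
    have := List.all_eq_true.1 rad0 _ hm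
    simp only [Bool.or_eq_true, List.any_eq_true] at this
    rcases this with h | ⟨w, hw, h⟩
    · exact h
    · exact absurd h (by
        rw [perp ht htc w (by simpa [fix0] using (List.mem_filter.1 hw).2)]
        exact Bool.false_ne_true)
  have hyl := onl hy (fun q hq => mem_centralizer_singleton_iff.1 hq.1.2) (hfix y hyK)
  have hy0 : d.β y ≠ 0 := fun e => C.ny ((d.β_ker y hy).1 e)
  obtain ⟨n, hn, hmov⟩ := T0_moving
  obtain ⟨g, -, hgk, hgU⟩ := exists_of_mem_list grpA_ok hn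
  have hgc : g * d.π x = d.π x * g := by
    rw [dx]
    exact key_inj (mul_mem hgU (tvP_mem 0)) (mul_mem (tvP_mem 0) hgU) (by
      rw [key_mul hgU, key_mul (tvP_mem 0), hgk, key_T0]
      exact beq_iff_eq.1 (List.all_eq_true.1 A_commutes _ hn))
  have himg : ∀ σ, Commute σ z → Commute σ a → d.π σ = g →
      ∃ w, d.β (x⁻¹ * (σ * x * σ⁻¹)) = d.π x w + w := by
    intro σ σz σa hσ
    obtain ⟨hr, hrf⟩ := S.shift_fixed d C.xz C.xa C.x2 σz σa (by rw [hσ, hgc])
    rw [dx, tvP_apply, ctr_zero.1] at hrf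
    have hl := onl hr (fun q hq => ?_) hrf
    · generalize d.β (x⁻¹ * (σ * x * σ⁻¹)) = v at hl ⊢
      obtain ⟨i⟩ := v
      obtain ⟨w, hw⟩ := onLine_image i hl
      exact ⟨⟨w⟩, by rw [dx, tvP_apply, ctr_zero.1, hw]⟩
    · have hq' : σ⁻¹ * q * σ⁻¹⁻¹ ∈ J := S.conj_J σz.inv_left (hKJ hq)
      have hf : tv ⟨5⟩ (d.β (σ⁻¹ * q * σ⁻¹⁻¹)) = d.β (σ⁻¹ * q * σ⁻¹⁻¹) := by
        rw [d.equiv _ σz.inv_left σa.inv_left q (hKJ hq)]
        have hi : d.π σ⁻¹ = g⁻¹ := eq_inv_of_mul_eq_one_left (by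
          rw [← hσ, ← d.π_mul _ _ σz.inv_left σa.inv_left σz σa, inv_mul_cancel, d.π_one])
        rw [hi, ← ctr_zero.1, ← tvP_apply]
        have hc' : tvP 0 * g⁻¹ = g⁻¹ * tvP 0 := by
          rw [dx] at hgc
          calc tvP 0 * g⁻¹ = g⁻¹ * (g * tvP 0) * g⁻¹ := by group
            _ = g⁻¹ * tvP 0 := by rw [hgc]; group
        have := congrArg (fun p : Equiv.Perm Vt => p (d.β q)) hc'
        simp only [Equiv.Perm.mul_apply] at this
        rw [this, tvP_apply, ctr_zero.1, hfix q hq]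
      obtain ⟨q', hq'K, e'⟩ : d.β (σ⁻¹ * q * σ⁻¹⁻¹) ∈ {v : Vt | ∃ q ∈ Kx, d.β q = v} := hset.symm ▸ hf
      have hxc : Commute (σ⁻¹ * q * σ⁻¹⁻¹) x := by
        have hb : InV z a (q'⁻¹ * (σ⁻¹ * q * σ⁻¹⁻¹)) := (d.β_ker _ (mul_mem (inv_mem (hKJ hq'K)) hq')).1 (by
          rw [d.β_mul _ (inv_mem (hKJ hq'K)) _ hq', d.β_inv (hKJ hq'K), e', Vt.add_self])
        have hbx : Commute (q'⁻¹ * (σ⁻¹ * q * σ⁻¹⁻¹)) x := by
          rcases hb with h | h | h | h <;> rw [h]
          exacts [Commute.one_left x, C.xz.symm, C.xa.symm, C.xa.symm.mul_left C.xz.symm]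
        have := (hxq q' hq'K).mul_left hbx
        rwa [mul_inv_cancel_left] at this
      have h1 : Commute q (σ * x * σ⁻¹) := by
        have := hxc.map (MulAut.conj σ).toMonoidHom
        simpa [mul_assoc] using this
      exact (hxq q hq).inv_right.mul_right h1
  obtain ⟨k, kz, ka, hk, hky⟩ := S.lift_square d C hgU hgc himg
  have hfy : g (g (d.β y)) = d.β y := by
    have := d.fixed kz ka hy hky
    rwa [hk] at this
  rw [← ev_key hgU, ← ev_key hgU, hgk] at hfy
  generalize d.β y = v at hyl hy0 hfy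
  obtain ⟨i⟩ := v
  rcases onLine_cases i hyl with h | ⟨m, hm, h⟩
  · exact hy0 h
  · rw [h] at hfy
    exact hmov m hm hfy

set_option maxHeartbeats 1000000 in
/-- No pair. -/
theorem no_ctx (c : NC z a J) {x y : G} (C : Ctx z a J x y) : False := by
  classical
  by_cases hy : y ∈ J
  · exact S.in_core c C hy
  have hsub : ∀ {x}, Ctx z a J x y → ∀ q ∈ J, Commute q y → Commute q x := fun {x} C q hq hqy => by
    refine mul_inv_eq_iff_eq_mul.1 ((C.moves q hqy).resolve_right fun e => hy ?_)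
    have h1 : x⁻¹ * (q * x * q⁻¹) ∈ J := by
      have := mul_mem (S.conj_J C.xz.inv_left hq) (inv_mem hq)
      rwa [inv_inv, show x⁻¹ * q * x * q⁻¹ = x⁻¹ * (q * x * q⁻¹) by group] at this
    rwa [e, inv_mul_cancel_left] at h1
  -- none of the others is in the core
  have hnJ : ∀ {x}, Ctx z a J x y → x ∉ J := by
    intro x C hxJ
    have h1 := S.half_cent hxJ
    have hπne : c.π y ≠ 1 := fun e => hy ((c.π_ker y C.yz C.ya).1 e)
    have h2 := S.card_le_four_mul c (K := J ⊓ centralizer ({x} : Set G)) inf_le_left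
      (T := {v | c.π y v = v}) fun q hq => c.fixed C.yz C.ya hq.1
        (C.cen q (S.commJ hq.1) (mem_centralizer_singleton_iff.1 hq.2)).symm
    have h3 : {v : Vt | c.π y v = v}.ncard ≤ 64 := by
      by_cases hU : c.π y ∈ U
      · exact fixed_le hU (c.π_sq C.yz C.ya C.y2) hπne
      · rw [Ext.fixed_count ((c.π_mem y C.yz C.ya).resolve_left hU) (c.π_sq C.yz C.ya C.y2)]
        norm_num
    rw [S.cardJ] at h1
    omega
  have hx := hnJ C
  have hx' := hnJ C.swap
  have πxy : c.π (x * y) = c.π x * c.π y := c.π_mul _ _ C.xz C.xa C.yz C.ya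
  have cy : ∀ {x}, Ctx z a J x y → ∀ q ∈ J, Commute q x → Commute q y := fun C q hq h =>
    (C.cen q (S.commJ hq) h).symm
  by_cases hxU : c.π x ∈ U
  swap
  · by_cases hyU : c.π y ∈ U
    · exact S.outer_inner c C.xz C.xa hxU C.yz C.ya C.y2 hyU hy (hsub C)
    · exact S.outer_inner c C.xz C.xa hxU (C.xz.mul_left C.yz) (C.xa.mul_left C.ya) C.swap.x2
        (c.π_semi _ _ C.xz C.xa C.yz C.ya hxU hyU) hx' fun q hq h => hsub C q hq (cy C.swap q hq h)
  by_cases hyU : c.π y ∈ U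
  swap
  · exact S.outer_inner c C.yz C.ya hyU C.xz C.xa C.x2 hxU hx (cy C)
  have hπne : c.π x ≠ 1 := fun e => hx ((c.π_ker x C.xz C.xa).1 e)
  have notT : ∀ {x}, Ctx z a J x y → c.π x ∈ U → x ∉ J → x * y ∉ J → ∀ u ∈ U, c.π x ≠ u * tvP 0 * u⁻¹ := by
    intro x C hxU _ hx' u hu e
    refine S.tv_inner c C.xz C.xa C.x2 ⟨u, hu, e⟩ C.swap.xz C.swap.xa C.swap.x2 ?_ hx' ?_
      ((Commute.refl x).mul_right C.xy) fun q hq h => hsub C.swap q hq (cy C q hq h)
    · rw [c.π_mul _ _ C.xz C.xa C.yz C.ya]; exact mul_mem hxU hyU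
    · intro e'
      rw [c.π_mul _ _ C.xz C.xa C.yz C.ya, mul_eq_left] at e'
      exact hy ((c.π_ker y C.yz C.ya).1 e')
  obtain ⟨u, hu, e | e⟩ := invol_cases hxU (c.π_sq C.xz C.xa C.x2) hπne
  · exact notT C hxU hx hx' u hu e
  let d := c.twist u⁻¹ (inv_mem hu)
  have dx : d.π x = R0 := by rw [NC.twist_π, e]; group
  have dyU : d.π y ∈ U := mul_mem (mul_mem (inv_mem hu) hyU) (inv_mem (inv_mem hu))
  have hR : R0 ∈ U := mul_mem (tvP_mem _) (tvP_mem _)
  have hykey := commute_R0 dyU (by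
    rw [← dx, ← d.π_mul _ _ C.yz C.ya C.xz C.xa, ← d.π_mul _ _ C.xz C.xa C.yz C.ya, C.xy.eq])
  have hfixR : (fixR.all fun v => ev (key (d.π y)) v == v) = true := by
    rw [List.all_eq_true]
    intro v hv
    obtain ⟨w, -, hw⟩ := List.any_eq_true.1 (List.all_eq_true.1 R0_onto v hv)
    rw [beq_iff_eq] at hw ⊢
    rw [← hw, ← key_R0, ev_key hR, ← dx]
    obtain ⟨m, hm, hmx, e⟩ := S.image_mem d C.xz C.xa C.x2 ⟨w⟩
      (Q_image (dx ▸ lin_of_mem hR) (d.π_sq C.xz C.xa C.x2) _)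
    rw [← e, ev_key dyU]
    exact d.fixed C.yz C.ya hm (cy C m hm hmx)
  have hsq : (grpBKey.all fun m => let m2 := mulK m m; mulK (key (d.π y)) m2 == mulK m2 (key (d.π y))) = true := by
    rw [List.all_eq_true]
    intro m hm
    obtain ⟨g, -, hgk, hgU⟩ := exists_of_mem_list grpB_ok hm
    have hgc : g * d.π x = d.π x * g := by
      rw [dx]
      exact key_inj (mul_mem hgU hR) (mul_mem hR hgU) (by
        rw [key_mul hgU, key_mul hR, hgk, key_R0]
        exact beq_iff_eq.1 (List.all_eq_true.1 B_commutes _ hm))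
    obtain ⟨k, kz, ka, hk, hky⟩ := S.lift_square d C hgU hgc fun σ σz σa hσ => by
      obtain ⟨-, hrf⟩ := S.shift_fixed d C.xz C.xa C.x2 σz σa (by rw [hσ, hgc])
      rw [dx, ← ev_key hR, key_R0] at hrf
      generalize d.β (x⁻¹ * (σ * x * σ⁻¹)) = v at hrf ⊢
      obtain ⟨i⟩ := v
      have hmem : (⟨i⟩ : Vt) ∈ fixR := by simp [fixR, hrf]
      obtain ⟨w, -, hw⟩ := List.any_eq_true.1 (List.all_eq_true.1 R0_onto _ hmem)
      exact ⟨⟨w⟩, by rw [dx, ← ev_key hR, key_R0, beq_iff_eq.1 hw]⟩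
    rw [beq_iff_eq, ← hgk, ← key_mul hgU, ← key_mul dyU, ← key_mul (mul_mem hgU hgU), ← hk,
      ← d.π_mul _ _ C.yz C.ya kz ka, ← d.π_mul _ _ kz ka C.yz C.ya, hky.eq]
  have := List.all_eq_true.1 R0_squares _ hykey
  rw [hfixR, hsq, Bool.and_self, Bool.not_true, Bool.false_or] at this
  simp only [Bool.or_eq_true, beq_iff_eq] at this
  have d' : d.π (x * y) = R0 * d.π y := by rw [d.π_mul _ _ C.xz C.xa C.yz C.ya, dx]
  have back : ∀ i, d.π (x * y) = tvP i → False := fun i hi => by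
    obtain ⟨w, hw, ew⟩ := tv_type i
    rw [NC.twist_π, ew] at hi
    refine notT C.swap (by rw [πxy]; exact mul_mem hxU hyU) hx'
      (by rw [mul_assoc, C.y2, mul_one]; exact hx) (u * w) (mul_mem hu hw) ?_
    calc c.π (x * y) = u * (u⁻¹ * c.π (x * y) * u⁻¹⁻¹) * u⁻¹ := by group
      _ = _ := by rw [hi]; group
  rcases this with ((h | h) | h) | h
  · exact hy ((d.π_ker y C.yz C.ya).1 (key_inj dyU (one_mem _) h))
  · have e2 : d.π y = R0 := key_inj dyU hR (h.trans key_R0.symm)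
    refine hx' ((d.π_ker _ C.swap.xz C.swap.xa).1 ?_)
    have h2 := d.π_sq C.xz C.xa C.x2
    rw [dx] at h2
    rw [d', e2, h2]
  · have e2 : d.π y = tvP 0 := key_inj dyU (tvP_mem 0) (h.trans key_T0.symm)
    refine back d0 ?_
    rw [d', e2, R0, mul_assoc, ← (commute_iff 0 d0).2 (Or.inr d0_orth.2), ← mul_assoc, tvP_sq, one_mul]
  · have e2 : d.π y = tvP d0 := key_inj dyU (tvP_mem d0) h
    refine back 0 ?_
    rw [d', e2, R0, mul_assoc, tvP_sq, mul_one]

/-- The data of a pair. -/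
theorem pair_ctx (hia : Iso z a) (hib : Iso z (a * z)) {g : G} (hne : g * z * g⁻¹ ≠ z)
    (hc : Commute (g * z * g⁻¹) z) (hca : Commute (g * z * g⁻¹) a) :
    Ctx z a J (g * a * g⁻¹) (g * z * g⁻¹) := by
  obtain ⟨S'⟩ := S.swap
  have hazz : a * z * z = a := by rw [mul_assoc, S.z_sq, mul_one]
  have p := S.pair hia hib hne hc hca
  have p' := S'.pair hib (by rw [hazz]; exact hia) hne hc (hca.mul_right hc)
  have e : g * (a * z) * g⁻¹ = g * a * g⁻¹ * (g * z * g⁻¹) := by group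
  exact
    { xz := p.xz
      xa := p.xa
      yz := hc
      ya := hca
      xy := p.xy
      x2 := conj_sq S.sqa g
      y2 := conj_sq S.z_sq g
      nx := fun h => by
        rcases h with h | h | h | h
        · exact S.a_ne (conj_eq_one_iff.1 h)
        · refine S.not_conj_a g⁻¹ ?_
          calc g⁻¹ * z * g⁻¹⁻¹ = g⁻¹ * (g * a * g⁻¹) * g⁻¹⁻¹ := by rw [h]
            _ = a := by group
        · exact p.outV.1 h
        · exact p.outV.2 h
      nx' := fun h => by
        rw [← e] at h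
        rcases h with h | h | h | h
        · exact S.az_ne.1 (conj_eq_one_iff.1 h)
        · refine S.not_conj_az g⁻¹ ?_
          calc g⁻¹ * z * g⁻¹⁻¹ = g⁻¹ * (g * (a * z) * g⁻¹) * g⁻¹⁻¹ := by rw [h]
            _ = a * z := by group
        · exact p'.outV.2 (h.trans hazz.symm)
        · exact p'.outV.1 h
      ny := fun h => by
        rcases h with h | h | h | h
        · exact S.z_ne (conj_eq_one_iff.1 h)
        · exact hne h
        · exact S.not_conj_a g h
        · exact S.not_conj_az g h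
      cen := p.cen
      cen' := fun k hk hkx => p'.cen k hk (by rw [e]; exact hkx)
      moves := p.moves }

/-- With the natural module the involution is isolated. -/
theorem isolated_natural (hn : S.NoFix) (hia : Iso z a) (hib : Iso z (a * z)) :
    ∀ g : G, Commute (g * z * g⁻¹) z → g * z * g⁻¹ = z := by
  obtain ⟨c⟩ := S.exists_nc hn
  exact S.isolated_of_no_pair fun g hne hc hca => S.no_ctx c (S.pair_ctx hia hib hne hc hca)

end Setting

end Cfsg.Lib.FiTwo
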