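import Cfsg.Agent.FiTwoCentral.FixBase
import Cfsg.Agent.FiTwoCentral.Natural

/-!
# A fixed vector: the involution is isolated
-/

set_option autoImplicit false
set_option Elab.async false
set_option maxRecDepth 100000
set_option linter.style.haveILetI false
set_option linter.unusedSectionVars false

namespace Cfsg.Lib.FiTwo

open Subgroup Cfsg.Lib.USixType

universe u v w

variable {G : Type u} [Group G] [Finite G] {P : Type v} [Group P]

namespace Setting

variable {z a : G} {J E : Subgroup G} (S : Setting z a J E P) (hn : ¬ S.NoFix)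
include S hn

/-- A partner is outside the fixed part. -/
theorem not_fp {x y : G} (C : Ctx z a J x y) : y ∉ S.fp := by
  intro hy
  have hxr : ∀ r ∈ S.rest, Commute x r := fun r hr => by
    rcases C.moves r ((S.mem_rest.1 hr).2 y hy) with e | e
    · exact (mul_inv_eq_iff_eq_mul.1 e).symm
    · exfalso
      have h1 : x⁻¹ * r * x⁻¹⁻¹ ∈ S.rest := S.mem_rest.2 ⟨S.conj_J C.xz.inv_left hr.1, fun f hf => by
        have h := ((S.mem_rest.1 hr).2 _ (S.conj_fp C.xz hf)).map (MulAut.conj x⁻¹).toMonoidHom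
        simpa [mul_assoc] using h⟩
      have h2 : y ∈ S.rest := by
        have h3 := mul_mem h1 (inv_mem hr)
        rwa [inv_inv, show x⁻¹ * r * x * r⁻¹ = x⁻¹ * (r * x * r⁻¹) by group, e, inv_mul_cancel_left] at h3
      exact C.ny (S.fp_lin hn hy (S.rest_le_lin h2))
  have hx : x ∈ S.fp := S.cent_rest hn C.xz hxr
  have hb : Commute (bar a x) (bar a y) := by
    show bar a x * bar a y = bar a y * bar a x
    rw [← bar_mul C.xa C.ya, ← bar_mul C.ya C.xa, C.xy.eq]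
  have hxz : bar a x ∉ zpowers (bar a z) := fun h => C.nx ((S.bar_zpowers_iff C.xa).1 h)
  have key : bar a (x * y) ∈ zpowers (bar a z) ∨ bar a y ∈ zpowers (bar a z) := by
    have hx2 : bar a x * bar a x = 1 := by rw [← bar_mul C.xa C.xa, C.x2, bar_one]
    rcases (S.fixSetting hn).cent_in_fix ((S.bar_fp_iff hn hx.1).2 hx) ((S.bar_fp_iff hn hy.1).2 hy) hxz hb with
      e | e | e | e
    · exact Or.inr (e ▸ one_mem _)
    · exact Or.inr (e ▸ mem_zpowers _)
    · refine Or.inl ?_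
      rw [bar_mul C.xa C.ya, e, hx2]
      exact one_mem _
    · refine Or.inl ?_
      rw [bar_mul C.xa C.ya, e, ← mul_assoc, hx2, one_mul]
      exact mem_zpowers _
  rcases key with h | h
  · exact C.nx' ((S.bar_zpowers_iff (C.xa.mul_left C.ya)).1 h)
  · exact C.ny ((S.bar_zpowers_iff C.ya).1 h)

theorem conj_not_fp (hia : Iso z a) (hib : Iso z (a * z)) {g : G} (h : g * z * g⁻¹ ∈ S.fp) : g * z * g⁻¹ = z := by
  by_contra hne
  exact S.not_fp hn (S.pair_ctx hia hib hne (S.commJ h.1) (S.commA h.1)) h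

set_option maxHeartbeats 1000000 in
/-- The transfer of an element of the fixed part into an abelian quotient is its value. -/
theorem value (hia : Iso z a) (hib : Iso z (a * z)) {M : Subgroup G} (hLM : S.lin ≤ M) {A : Type w} [CommGroup A]
    (lam : ↥(centralizer ({z} : Set G) ⊓ M) →* A)
    (hlam : ∀ x : ↥(centralizer ({z} : Set G) ⊓ M), (x : G) ∈ S.lin → lam x = 1) :
    ∃ V : ↥M →* A, (∀ l : ↥M, (l : G) ∈ S.lin → V l = 1) ∧
      ∀ (x : ↥M) (hx : (x : G) ∈ S.fp), V x = lam ⟨x, S.le hx.1, x.2⟩ := by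
  classical
  have hzl : z ∈ S.lin := S.rest_le_lin (S.inV_rest (Or.inr (Or.inl rfl)))
  have hal : a ∈ S.lin := S.rest_le_lin (S.inV_rest (Or.inr (Or.inr (Or.inl rfl))))
  let zM : ↥M := ⟨z, hLM hzl⟩
  let C' : Subgroup ↥M := centralizer ({zM} : Set ↥M)
  have hC' : ∀ h : ↥M, h ∈ C' ↔ (h : G) ∈ centralizer ({z} : Set G) := fun h => by
    rw [mem_centralizer_singleton_iff, mem_centralizer_singleton_iff, Subtype.ext_iff]
    rfl
  let lam' : ↥C' →* A := lam.comp
    { toFun := fun h => ⟨(h : ↥M), (hC' h.1).1 h.2, (h : ↥M).2⟩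
      map_one' := rfl
      map_mul' := fun _ _ => rfl }
  let V : ↥M →* A := MonoidHom.transfer lam'
  have hval : ∀ (x : ↥M) (hx : (x : G) ∈ S.fp), V x = lam ⟨x, S.le hx.1, x.2⟩ := by
    intro x hx
    let Q : Subgroup ↥M := S.rest.subgroupOf M
    have hQle : S.rest ≤ M := S.rest_le_lin.trans hLM
    have hJp : IsPGroup 2 ↥S.rest := (IsPGroup.of_card (n := 10) S.cardJ).to_le inf_le_left
    refine (Ext.transfer_eq_value (rfl : C' = _) lam' Q (fun q hq => (hC' q).2 (S.le hq.1))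
      (hJp.of_equiv (Subgroup.subgroupOfEquivOfLe hQle).symm)
      (fun q hq => Subtype.ext ((S.mem_rest.1 hq).2 x hx).eq)
      ((hC' x).2 (S.le hx.1)) (Subtype.ext S.z_sq) ?_ ?_ ?_).trans rfl
    · rcases S.sq hx.1 with e | e
      exacts [Or.inl (Subtype.ext e), Or.inr (Subtype.ext e)]
    · intro Q₁ hQ₁ hcard
      obtain ⟨p, hp, q, hq, e⟩ := S.rest_big hn (Q₁.map M.subtype) (fun y ⟨q, hq, e⟩ => e ▸ hQ₁ hq) (by
        rwa [Subgroup.card_map_of_injective M.subtype_injective,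
          ← Nat.card_congr (Subgroup.subgroupOfEquivOfLe hQle).toEquiv])
      obtain ⟨p', hp', rfl⟩ := hp
      obtain ⟨q', hq', rfl⟩ := hq
      exact ⟨p', hp', q', hq', Subtype.ext e⟩
    · intro g _ hgQ
      have hsz : Commute ((g : G) * z * (g : G)⁻¹) z :=
        congrArg Subtype.val (hgQ zM (S.inV_rest (Or.inr (Or.inl rfl)) : (zM : G) ∈ S.rest)).eq
      exact Or.inl (Subtype.ext (S.conj_not_fp hn hia hib (S.cent_rest hn hsz fun q hq =>
        congrArg Subtype.val (hgQ ⟨q, hQle hq⟩ hq).eq)))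
  refine ⟨V, fun l hl => S.lin_perfect hn (V.comp (Subgroup.inclusion hLM)) ?_ ⟨l, hl⟩, hval⟩
  show V ⟨a, hLM hal⟩ = 1
  rw [hval _ (S.fp_of_inV (Or.inr (Or.inr (Or.inl rfl))))]
  exact hlam _ hal

theorem exists_pair : ∃ p ∈ S.fp, ∃ q ∈ S.fp, p * q * p⁻¹ * q⁻¹ = z ∧ ¬ InV z a p ∧ ¬ InV z a q := by
  obtain ⟨c, hc, hcz, -⟩ : ∃ c ∈ (S.fixSetting hn).fixPart, c ∉ zpowers (bar a z) ∧ True := by
    obtain ⟨p, hp, q, hq, hpq⟩ := (S.fixSetting hn).exists_pair
    exact ⟨p, hp, (S.fixSetting hn).not_zp ((S.fixSetting hn).comm_z ((S.fixSetting hn).memC hq.1)) hpq, trivial⟩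
  obtain ⟨p, hp, rfl⟩ := S.lift_fp hn hc
  have hpV : ¬ InV z a p := fun h => hcz ((S.bar_zpowers_iff (S.commA hp.1)).2 h)
  obtain ⟨q, hq, e⟩ := S.fp_pair hn hp hpV
  refine ⟨p, hp, q, hq, e, hpV, fun h => S.z_ne ?_⟩
  rw [← e, (cV (S.commJ hp.1) (S.commA hp.1) h).eq, mul_inv_cancel_right, mul_inv_cancel]

set_option maxHeartbeats 1000000 in
/-- A character of the centraliser without the linear part separating the fixed part. -/
theorem exists_sign : ∃ lam : ↥(centralizer ({z} : Set G)) →* ℤˣ, ∃ f₁ : ↥(centralizer ({z} : Set G)),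
    (f₁ : G) ∈ S.fp ∧ lam f₁ = -1 ∧ ∀ x : ↥(centralizer ({z} : Set G)), (x : G) ∈ S.lin → lam x = 1 := by
  classical
  set C := centralizer ({z} : Set G)
  let N : Subgroup ↥C := S.lin.subgroupOf C
  haveI : N.Normal := ⟨fun q hq g => S.conj_lin (S.comm_z g.2) hq⟩
  let D : Subgroup (↥C ⧸ N) := (S.inner.subgroupOf C).map (QuotientGroup.mk' N)
  obtain ⟨p, hp, q, hq, hpq, -, -⟩ := S.exists_pair hn
  have hD2 : ∀ d ∈ D, d * d = 1 := by
    rintro _ ⟨h, hh, rfl⟩
    rw [← map_mul, QuotientGroup.mk'_apply, QuotientGroup.eq_one_iff]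
    obtain ⟨f, hf, hl⟩ := S.lin_decomp hn (hh : (h : G) ∈ S.inner)
    show (h : G) * h ∈ S.lin
    rw [show (h : G) * h = (f * (f⁻¹ * h) * f⁻¹) * (f * f) * (f⁻¹ * h) by group]
    refine mul_mem (mul_mem (S.conj_lin (S.commJ hf.1) hl) ?_) hl
    rcases S.sq hf.1 with e | e <;> rw [e]
    exacts [one_mem _, S.rest_le_lin (S.inV_rest (Or.inr (Or.inl rfl)))]
  have hsqI : ∀ h : ↥C, (h : G) * h ∈ S.inner := fun h => by
    by_cases hI : (h : G) ∈ S.inner
    · exact mul_mem hI hI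
    · exact S.two (S.comm_z h.2) (S.comm_z h.2) hI hI
  have hout : ∀ γ : ↥C ⧸ N, γ * γ ∈ D := fun γ => by
    obtain ⟨h, rfl⟩ := QuotientGroup.mk_surjective γ
    exact ⟨h * h, hsqI h, rfl⟩
  have h4 : ∀ γ : ↥C ⧸ N, γ ^ 4 = 1 := fun γ => by
    rw [show 4 = 2 * 2 from rfl, pow_mul, pow_two γ, pow_two]
    exact hD2 _ (hout γ)
  have hP : IsPGroup 2 (↥C ⧸ N) := fun γ => ⟨2, h4 γ⟩
  haveI : Fact (Nat.Prime 2) := ⟨Nat.prime_two⟩
  obtain ⟨n, hn'⟩ := IsPGroup.iff_card.1 hP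
  have hD3 : 3 ≤ Nat.card ↥D := by
    have hm : ∀ x : ↥C, (x : G) ∈ S.fp → (QuotientGroup.mk x : ↥C ⧸ N) ∈ D :=
      fun x hx => ⟨x, S.J_le_inner hx.1, rfl⟩
    let p' : ↥C := ⟨p, S.le hp.1⟩
    let q' : ↥C := ⟨q, S.le hq.1⟩
    have no : ∀ {u w : G}, u ∈ S.lin → w ∈ S.fp → u * w * u⁻¹ * w⁻¹ ≠ z := fun hu hw e => S.z_ne (by
      rw [← e, ((S.mem_lin.1 hu).2 _ hw).eq, mul_inv_cancel_right, mul_inv_cancel])
    let F : Fin 3 → ↥D := ![1, ⟨_, hm p' hp⟩, ⟨_, hm q' hq⟩]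
    have e1 : (⟨_, hm p' hp⟩ : ↥D) ≠ 1 := fun e =>
      no ((QuotientGroup.eq_one_iff p').1 (congrArg Subtype.val e) : p ∈ S.lin) hq hpq
    have e2 : (⟨_, hm q' hq⟩ : ↥D) ≠ 1 := fun e => by
      have h1 : q ∈ S.lin := (QuotientGroup.eq_one_iff q').1 (congrArg Subtype.val e)
      refine S.z_ne ?_
      rw [← hpq, ((S.mem_lin.1 h1).2 p hp).symm.eq, mul_inv_cancel_right, mul_inv_cancel]
    have e3 : (⟨_, hm p' hp⟩ : ↥D) ≠ ⟨_, hm q' hq⟩ := fun e => by
      have h1 : p⁻¹ * q ∈ S.lin :=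
        (QuotientGroup.eq.1 (congrArg Subtype.val e) : (p'⁻¹ * q' : ↥C) ∈ N)
      have h2 := (Commute.refl p).mul_right ((S.mem_lin.1 h1).2 p hp).symm
      rw [mul_inv_cancel_left] at h2
      exact S.z_ne (by rw [← hpq, h2.eq, mul_inv_cancel_right, mul_inv_cancel])
    have : Function.Injective F := by
      intro i j e
      fin_cases i <;> fin_cases j <;> simp [F, e1, e1.symm, e2, e2.symm, e3, e3.symm] at e ⊢
    simpa using Nat.card_le_card_of_injective F this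
  obtain ⟨H, hH2, hHD⟩ : ∃ H : Subgroup (↥C ⧸ N), 2 * Nat.card ↥H ≤ 2 ^ n ∧
      ∀ K : Subgroup (↥C ⧸ N), H ≤ K → D ≤ K → K = ⊤ := by
    by_cases hex : ∀ γ : ↥C ⧸ N, γ ∈ D
    · refine ⟨⊥, ?_, fun K _ hK => eq_top_iff.2 fun γ _ => hK (hex γ)⟩
      rw [Subgroup.card_bot, ← hn']
      exact (show 2 ≤ 3 by norm_num).trans (hD3.trans (Subgroup.card_le_card_group D))
    · push Not at hex
      obtain ⟨o, ho⟩ := hex
      refine ⟨zpowers o, ?_, fun K hoK hK => eq_top_iff.2 fun γ _ => ?_⟩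
      · obtain ⟨h, rfl⟩ := QuotientGroup.mk_surjective o
        have hne : zpowers (QuotientGroup.mk h : ↥C ⧸ N) ≠ ⊤ := fun e => by
          have hsub : ∀ d ∈ D, d = 1 ∨ d = (QuotientGroup.mk h : ↥C ⧸ N) ^ 2 := fun d hd => by
            obtain ⟨j, hj⟩ := Subgroup.mem_zpowers_iff.1 (e ▸ Subgroup.mem_top d)
            have e4 : (QuotientGroup.mk h : ↥C ⧸ N) ^ (4 : ℤ) = 1 := by exact_mod_cast h4 _
            rw [← Int.mul_ediv_add_emod j 4, zpow_add, zpow_mul, e4, one_zpow, one_mul] at hj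
            rw [← hj] at hd ⊢
            have hlt := Int.emod_lt_of_pos j (show (0 : ℤ) < 4 by norm_num)
            have hge := Int.emod_nonneg j (show (4 : ℤ) ≠ 0 by norm_num)
            generalize j % 4 = r at hlt hge hd ⊢
            interval_cases r
            · exact Or.inl (zpow_zero _)
            · exact absurd (by simpa using hd) ho
            · exact Or.inr (by norm_cast)
            · refine absurd ?_ ho
              have h1 : (QuotientGroup.mk h : ↥C ⧸ N) ^ (3 : ℤ) = (QuotientGroup.mk h : ↥C ⧸ N)⁻¹ := by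
                rw [eq_inv_iff_mul_eq_one, ← zpow_add_one]
                exact e4
              rw [h1] at hd
              exact inv_mem_iff.1 hd
          have := Nat.card_le_card_of_surjective
            (fun i : Bool => (if i then ⟨(QuotientGroup.mk h : ↥C ⧸ N) * QuotientGroup.mk h, hout _⟩ else 1 : ↥D))
            (fun d => by
              rcases hsub d d.2 with e' | e'
              · exact ⟨false, Subtype.ext (by simp [e'])⟩
              · exact ⟨true, Subtype.ext (by simp [e', pow_two])⟩)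
          simp at this
          omega
        obtain ⟨j, hj, e⟩ := (Nat.dvd_prime_pow Nat.prime_two).1 (hn' ▸ Subgroup.card_subgroup_dvd_card
          (zpowers (QuotientGroup.mk h : ↥C ⧸ N)))
        have hlt : j < n := lt_of_le_of_ne hj fun e' => hne (Subgroup.eq_top_of_card_eq _ (by rw [e, hn', e']))
        rw [e, show 2 * 2 ^ j = 2 ^ (j + 1) by ring]
        exact Nat.pow_le_pow_right (by norm_num) hlt
      · by_cases hγ : γ ∈ D
        · exact hK hγ
        · obtain ⟨g, rfl⟩ := QuotientGroup.mk_surjective γ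
          obtain ⟨h, rfl⟩ := QuotientGroup.mk_surjective o
          have hgh : (QuotientGroup.mk g : ↥C ⧸ N) * QuotientGroup.mk h ∈ D :=
            ⟨g * h, S.two (S.comm_z g.2) (S.comm_z h.2) (fun e => hγ ⟨g, e, rfl⟩) (fun e => ho ⟨h, e, rfl⟩), rfl⟩
          rw [← mul_inv_cancel_right (QuotientGroup.mk g : ↥C ⧸ N) (QuotientGroup.mk h)]
          exact mul_mem (hK hgh) (inv_mem (hoK (mem_zpowers _)))
  obtain ⟨j, hj⟩ := IsPGroup.iff_card.1 (hP.to_subgroup H)
  have hjn : j + 1 ≤ n := by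
    rw [hj, show 2 * 2 ^ j = 2 ^ (j + 1) by ring] at hH2
    exact (Nat.pow_le_pow_iff_right (by norm_num)).1 hH2
  obtain ⟨K, hK, hHK⟩ := Sylow.exists_subgroup_card_pow_prime_le 2 (m := n - 1)
    (hn' ▸ pow_dvd_pow 2 (Nat.sub_le n 1)) H hj (by omega)
  have hKi : K.index = 2 := by
    have := K.card_mul_index
    rw [hK, hn', show n = n - 1 + 1 by omega, pow_succ] at this
    exact mul_left_cancel₀ (pow_ne_zero _ two_ne_zero) this
  have hnot : ¬ D ≤ K := fun h => by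
    rw [hHD K hHK h, Subgroup.index_top] at hKi
    omega
  obtain ⟨_, ⟨h, hh, rfl⟩, hnK⟩ := SetLike.not_le_iff_exists.1 hnot
  obtain ⟨f, hf, hl⟩ := S.lin_decomp hn (hh : (h : G) ∈ S.inner)
  refine ⟨MonoidHom.mk' (fun g => if (QuotientGroup.mk g : ↥C ⧸ N) ∈ K then 1 else -1) fun p q => ?_,
    ⟨f, S.le hf.1⟩, hf, if_neg fun e => hnK ?_, fun x hx => if_pos ?_⟩
  · have h1 := Subgroup.mul_mem_iff_of_index_two hKi (a := (QuotientGroup.mk p : ↥C ⧸ N)) (b := QuotientGroup.mk q)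
    rw [← QuotientGroup.mk_mul] at h1
    by_cases hp' : (QuotientGroup.mk p : ↥C ⧸ N) ∈ K <;> by_cases hq' : (QuotientGroup.mk q : ↥C ⧸ N) ∈ K <;>
      simp_all [-QuotientGroup.mk_mul]
  · have hl' : (⟨f, S.le hf.1⟩ : ↥C)⁻¹ * h ∈ N := hl
    rw [QuotientGroup.mk'_apply, ← QuotientGroup.eq.2 hl']
    exact e
  · rw [(QuotientGroup.eq_one_iff x).2 (show x ∈ N from hx)]
    exact one_mem K

set_option maxHeartbeats 1000000 in
/-- A subgroup with all conjugates of the involution and meeting the fixed part in the central elements. -/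
theorem exists_levels (hia : Iso z a) (hib : Iso z (a * z)) : ∃ M₁ M₂ : Subgroup G, S.lin ≤ M₂ ∧
    (∀ g ∈ M₁, ∀ x ∈ M₂, g * x * g⁻¹ ∈ M₂) ∧
    (∀ x ∈ S.fp, x ∈ M₂ → InV z a x) ∧
    (∀ g : G, g ∈ M₁ ∨ ∃ f ∈ S.fp, g * f ∈ M₁) := by
  classical
  set C := centralizer ({z} : Set G) with hC
  obtain ⟨lam, f₁, hf₁, hlam, hlaml⟩ := S.exists_sign hn
  obtain ⟨V, hVl, hVf⟩ := S.value hn hia hib (M := ⊤) le_top (lam.comp (Subgroup.inclusion (inf_le_left : C ⊓ ⊤ ≤ C)))
    fun x hx => hlaml _ hx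
  let V₁ : G →* ℤˣ := V.comp Subgroup.topEquiv.symm.toMonoidHom
  have h1l : ∀ l ∈ S.lin, V₁ l = 1 := fun l hl => hVl ⟨l, Subgroup.mem_top l⟩ hl
  have h1f : V₁ f₁ = -1 := by
    show V ⟨(f₁ : G), Subgroup.mem_top _⟩ = -1
    rw [hVf ⟨(f₁ : G), Subgroup.mem_top _⟩ hf₁]
    exact hlam
  set M₁ := V₁.ker with hM₁
  have hmem₁ : ∀ g : G, g ∈ M₁ ∨ g * f₁ ∈ M₁ := fun g => by
    rcases Int.units_eq_one_or (V₁ g) with e | e
    · exact Or.inl e
    · exact Or.inr (by rw [hM₁, MonoidHom.mem_ker, map_mul, e, h1f]; rfl)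
  have hL1 : S.lin ≤ M₁ := h1l
  have hf₁M : (f₁ : G) ∉ M₁ := fun e => absurd ((MonoidHom.mem_ker.1 e).symm.trans h1f) (by decide)
  have hV1 : ∀ {v}, InV z a v → v ∈ M₁ := fun hv => hL1 (S.rest_le_lin (S.inV_rest hv))
  have hVl' : ∀ {v}, InV z a v → v ∈ S.lin := fun hv => S.rest_le_lin (S.inV_rest hv)
  set A4 := S.fp ⊓ M₁ with hA4
  obtain ⟨a₀, ha, haV⟩ : ∃ a₀ ∈ A4, ¬ InV z a a₀ := by
    obtain ⟨p, hp, q, hq, hpq, hpV, hqV⟩ := S.exists_pair hn
    rcases hmem₁ p with h | h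
    · exact ⟨p, ⟨hp, h⟩, hpV⟩
    rcases hmem₁ q with h' | h'
    · exact ⟨q, ⟨hq, h'⟩, hqV⟩
    refine ⟨p * q, ⟨mul_mem hp hq, ?_⟩, fun hV => S.z_ne ?_⟩
    · rw [hM₁, MonoidHom.mem_ker] at h h'
      show V₁ (p * q) = 1
      rw [map_mul, h1f] at h h'
      rw [map_mul, eq_inv_of_mul_eq_one_left h, eq_inv_of_mul_eq_one_left h']
      rfl
    · rw [← hpq]
      have h1 : Commute p (p * q) := cV (S.commJ hp.1) (S.commA hp.1) hV
      have h2 : p * q = q * p := by
        have h3 := h1.eq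
        rw [mul_assoc p q p] at h3
        exact mul_left_cancel h3
      rw [h2, mul_inv_cancel_right, mul_inv_cancel]
  have hA4mem : ∀ x ∈ A4, InV z a x ∨ InV z a (a₀⁻¹ * x) := fun x hx =>
    S.fp_card_le hn (T := A4) inf_le_left hf₁
      ⟨S.fp_of_inV (Or.inr (Or.inr (Or.inl rfl))), hV1 (Or.inr (Or.inr (Or.inl rfl)))⟩
      (fun h => hf₁M h.2) ha hx haV ⟨S.fp_of_inV (Or.inr (Or.inl rfl)), hV1 (Or.inr (Or.inl rfl))⟩
  have hin : ∀ i ∈ S.inner, i ∈ M₁ → i ∈ S.lin ∨ a₀⁻¹ * i ∈ S.lin := by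
    intro i hi hiM
    obtain ⟨f, hf, hl⟩ := S.lin_decomp hn hi
    have hfA : f ∈ A4 := ⟨hf, by
      rw [show f = i * (f⁻¹ * i)⁻¹ by group]
      exact M₁.mul_mem hiM (M₁.inv_mem (hL1 hl))⟩
    rcases hA4mem f hfA with h | h
    · left
      rw [← mul_inv_cancel_left f i]
      exact mul_mem (hVl' h) hl
    · right
      rw [show a₀⁻¹ * i = (a₀⁻¹ * f) * (f⁻¹ * i) by group]
      exact mul_mem (hVl' h) hl
  -- the quotient
  let C₁ := C ⊓ M₁
  let N : Subgroup ↥C₁ := S.lin.subgroupOf C₁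
  haveI : N.Normal := ⟨fun q hq g => S.conj_lin (S.comm_z g.2.1) hq⟩
  let ā : ↥C₁ := ⟨a₀, S.le ha.1.1, ha.2⟩
  have hcen : ∀ (p : ↥C₁), (QuotientGroup.mk p : ↥C₁ ⧸ N) * QuotientGroup.mk ā = QuotientGroup.mk ā * QuotientGroup.mk p := by
    intro p
    have hpz := S.comm_z p.2.1
    have hm : (p : G) * a₀ * (p : G)⁻¹ ∈ A4 :=
      ⟨S.conj_fp hpz ha.1, M₁.mul_mem (M₁.mul_mem p.2.2 ha.2) (M₁.inv_mem p.2.2)⟩
    have hnV : ¬ InV z a ((p : G) * a₀ * (p : G)⁻¹) := fun e => haV (S.central ha.1.1 fun q hq => by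
      have h1 := (S.inV_comm e (S.conj_J hpz hq)).symm.map (MulAut.conj (p : G)⁻¹).toMonoidHom
      simpa [mul_assoc] using h1)
    refine mul_inv_eq_iff_eq_mul.1 ?_
    rw [← QuotientGroup.mk_mul, ← QuotientGroup.mk_inv, ← QuotientGroup.mk_mul, QuotientGroup.eq]
    show ((p : G) * a₀ * (p : G)⁻¹)⁻¹ * a₀ ∈ S.lin
    rw [show ((p : G) * a₀ * (p : G)⁻¹)⁻¹ * a₀ = (a₀⁻¹ * ((p : G) * a₀ * (p : G)⁻¹))⁻¹ by group]
    exact inv_mem (hVl' ((hA4mem _ hm).resolve_left hnV))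
  have hinner : ∀ i : ↥C₁, (i : G) ∈ S.inner → (QuotientGroup.mk i : ↥C₁ ⧸ N) = 1 ∨
      (QuotientGroup.mk i : ↥C₁ ⧸ N) = QuotientGroup.mk ā := fun i hi =>
    (hin i hi i.2.2).imp (fun h => (QuotientGroup.eq_one_iff i).2 h) fun h =>
      (QuotientGroup.eq.2 (show ā⁻¹ * i ∈ N from h)).symm
  have hci : ∀ p i : ↥C₁, (i : G) ∈ S.inner →
      (QuotientGroup.mk p : ↥C₁ ⧸ N) * QuotientGroup.mk i = QuotientGroup.mk i * QuotientGroup.mk p := fun p i hi => by
    rcases hinner i hi with e | e <;> rw [e]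
    · rw [one_mul, mul_one]
    · exact hcen p
  letI : CommGroup (↥C₁ ⧸ N) :=
    { (inferInstance : Group (↥C₁ ⧸ N)) with
      mul_comm := fun x y => by
        obtain ⟨p, rfl⟩ := QuotientGroup.mk_surjective x
        obtain ⟨q, rfl⟩ := QuotientGroup.mk_surjective y
        by_cases hp : (p : G) ∈ S.inner
        · exact (hci q p hp).symm
        by_cases hq : (q : G) ∈ S.inner
        · exact hci p q hq
        have h1 := hci p⁻¹ (p * q) (S.two (S.comm_z p.2.1) (S.comm_z q.2.1) hp hq)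
        rw [QuotientGroup.mk_mul, QuotientGroup.mk_inv, inv_mul_cancel_left] at h1
        conv_rhs => rw [h1]
        rw [inv_mul_cancel_right] }
  obtain ⟨W, hWl, hWf⟩ := S.value hn hia hib (M := M₁) hL1 (QuotientGroup.mk' N)
    fun x hx => (QuotientGroup.eq_one_iff x).2 hx
  refine ⟨M₁, W.ker.map M₁.subtype, fun l hl => ⟨⟨l, hL1 hl⟩, hWl ⟨l, hL1 hl⟩ hl, rfl⟩, ?_, ?_,
    fun g => (hmem₁ g).imp id fun h => ⟨f₁, hf₁, h⟩⟩
  · rintro g hg _ ⟨x, hx, rfl⟩
    exact ⟨⟨g, hg⟩ * x * ⟨g, hg⟩⁻¹, W.normal_ker.conj_mem x hx ⟨g, hg⟩, rfl⟩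
  · rintro _ hxF ⟨x, hx, rfl⟩
    have hk := MonoidHom.mem_ker.1 hx
    rw [hWf x hxF] at hk
    exact S.fp_lin hn hxF ((QuotientGroup.eq_one_iff (⟨(x : G), S.le hxF.1, x.2⟩ : ↥C₁)).1 hk)

/-- An involution of the centraliser without a root of `z` in its centraliser has too few shifts. -/
theorem outer_false
    (hno : ∀ g : G, g * z * g⁻¹ ≠ z → Commute (g * z * g⁻¹) z → g * z * g⁻¹ ∈ S.inner → False)
    {g : G} (hne : g * z * g⁻¹ ≠ z) (hc : Commute (g * z * g⁻¹) z) : False := by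
  classical
  set t := g * z * g⁻¹ with ht
  have ht2 : t * t = 1 := conj_sq S.z_sq g
  have htinv : t⁻¹ = t := inv_eq_of_mul_eq_one_left ht2
  have sqI : ∀ {h}, Commute h z → h * h ∈ S.inner := fun {h} hh => by
    by_cases hI : h ∈ S.inner
    · exact mul_mem hI hI
    · exact S.two hh hh hI hI
  have hroot : ∀ w ∈ J, Commute w t → w * w = 1 := fun w hw hwt =>
    (S.sq hw).resolve_right fun e => by
      refine hno g⁻¹ (fun e' => hne ?_) (conj_back hc) ?_
      · calc t = g * (g⁻¹ * z * g⁻¹⁻¹) * g⁻¹ := by rw [e', ← ht]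
          _ = z := by group
      · have := sqI (commute_back g hwt)
        rwa [show g⁻¹ * w * g * (g⁻¹ * w * g) = g⁻¹ * (w * w) * g⁻¹⁻¹ by group, e] at this
  set Ct := J ⊓ centralizer ({t} : Set G)
  have hCt : Nat.card ↥Ct ≤ 64 := S.abelian_le Ct inf_le_left fun p hp q hq => by
    have h2 : ∀ {w}, w ∈ Ct → w⁻¹ = w := fun hw =>
      inv_eq_of_mul_eq_one_left (hroot _ hw.1 (mem_centralizer_singleton_iff.1 hw.2))
    show p * q = q * p
    rw [← h2 (mul_mem hp hq), mul_inv_rev, h2 hp, h2 hq]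
  let sh : G → G := fun p => t * p * t * p⁻¹
  have shJ : ∀ {p}, p ∈ J → sh p ∈ J := fun {p} hp => by
    have := mul_mem (S.conj_J hc hp) (inv_mem hp)
    rwa [htinv] at this
  have shrev : ∀ p, t * sh p * t = (sh p)⁻¹ := fun p => by
    show t * (t * p * t * p⁻¹) * t = (t * p * t * p⁻¹)⁻¹
    simp only [mul_inv_rev, inv_inv, htinv, ← mul_assoc, ht2, one_mul]
  have hsht : ∀ {p}, p ∈ J → sh p * sh p = 1 → Commute (sh p) t := fun {p} _ h2 => by
    show sh p * t = t * sh p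
    calc sh p * t = t * (t * sh p * t) := by simp only [← mul_assoc, ht2, one_mul]
      _ = t * sh p := by rw [shrev, inv_eq_of_mul_eq_one_left h2]
  have hodd : ∀ p ∈ J, sh p * sh p = 1 → sh p ≠ 1 → g⁻¹ * sh p * g ∉ S.inner := by
    intro p hp h2 h1 hI
    have e : p * g * z * (p * g)⁻¹ = t * sh p := by
      show _ = t * (t * p * t * p⁻¹)
      simp only [← mul_assoc, ht2, one_mul]
      rw [ht]; group
    have e' : g⁻¹ * p * g * z * (g⁻¹ * p * g)⁻¹ = z * (g⁻¹ * sh p * g) := by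
      rw [show g⁻¹ * p * g * z * (g⁻¹ * p * g)⁻¹ = g⁻¹ * (p * g * z * (p * g)⁻¹) * g by group, e, ht]
      group
    refine hno (g⁻¹ * p * g) ?_ ?_ ?_ <;> rw [e']
    · exact fun h => h1 (conj_eq_one_iff.1 (show g⁻¹ * sh p * g⁻¹⁻¹ = 1 by rw [inv_inv]; exact mul_eq_left.1 h))
    · exact (Commute.refl z).mul_left (S.inner_comm hI)
    · exact mul_mem (S.J_le_inner S.memJ) hI
  have shmul : ∀ p q, sh (p * q) = t * p * t * sh q * (t * p * t)⁻¹ * sh p := fun p q => by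
    show t * (p * q) * t * (p * q)⁻¹ = t * p * t * (t * q * t * q⁻¹) * (t * p * t)⁻¹ * (t * p * t * p⁻¹)
    simp only [mul_inv_rev, htinv, ← mul_assoc]
    simp only [mul_assoc, inv_mul_cancel_left, ht2, one_mul]
  have hmJ : ∀ {p}, p ∈ J → t * p * t ∈ J := fun {p} hp => by
    have := S.conj_J hc hp
    rwa [htinv] at this
  -- shifts commute
  have hshc : ∀ {p q}, p ∈ J → q ∈ J → Commute (sh p) (sh q) := fun {p q} hp hq => by
    set c := sh p
    have hcJ : c ∈ J := shJ hp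
    have e1 : c * t * c⁻¹ = t ∨ c * t * c⁻¹ = t * z := by
      have h : c * t * c⁻¹ = t * (c * c)⁻¹ := by
        have : t * c * t = c⁻¹ := shrev p
        calc c * t * c⁻¹ = t * (t * c * t) * c⁻¹ := by simp only [← mul_assoc, ht2, one_mul]
          _ = t * (c⁻¹ * c⁻¹) := by rw [this, mul_assoc]
          _ = _ := congrArg (t * ·) (mul_inv_rev c c).symm
      rw [h]
      rcases S.sq hcJ with e | e <;> rw [e]
      · exact Or.inl (by rw [inv_one, mul_one])
      · exact Or.inr (by rw [S.z_inv])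
    refine mul_inv_eq_iff_eq_mul.1 ?_
    show c * (t * q * t * q⁻¹) * c⁻¹ = t * q * t * q⁻¹
    rw [show c * (t * q * t * q⁻¹) * c⁻¹ = (c * t * c⁻¹) * (c * q * c⁻¹) * (c * t * c⁻¹) * (c * q * c⁻¹)⁻¹ by group]
    have zm : ∀ {u : G}, Commute u z → ∀ w, u * (z * w) = z * (u * w) := fun hu w => by
      rw [← mul_assoc, hu.eq, mul_assoc]
    have zz : ∀ w, z * (z * w) = w := fun w => by rw [← mul_assoc, S.z_sq, one_mul]
    rcases e1 with h | h <;> rcases S.conj_cases hcJ hq with h' | h' <;> rw [h, h'] <;>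
      simp only [mul_inv_rev, S.z_inv, mul_assoc, zm hc, zm (S.commJ hq), zz]
  have hev : ∀ {p q}, p ∈ J → q ∈ J → sh (p * q) = sh q * sh p ∨ sh (p * q) = sh q * sh p * z := fun {p q} hp hq => by
    rw [shmul]
    rcases S.conj_cases (hmJ hp) (shJ hq) with h | h <;> rw [h]
    · exact Or.inl rfl
    · exact Or.inr (by rw [mul_assoc, ← (S.commJ (shJ hp)).eq, ← mul_assoc])
  have hprod : ∀ {p q}, p ∈ J → q ∈ J → sh p * sh p = 1 → sh q * sh q = 1 → sh p ≠ 1 → sh q ≠ 1 → sh q ≠ sh p →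
      p * sh q * p⁻¹ = sh q * z := by
    intro p q hp hq hp2 hq2 hp1 hq1 hne'
    refine (S.conj_cases hp (shJ hq)).resolve_left fun e => ?_
    have hct : t * p * t * sh q * (t * p * t)⁻¹ = sh q := by
      have h := (hsht hq hq2).eq
      calc t * p * t * sh q * (t * p * t)⁻¹ = t * p * (t * sh q * t⁻¹) * p⁻¹ * t⁻¹ := by group
        _ = t * (p * sh q * p⁻¹) * t⁻¹ := by rw [← h, mul_inv_cancel_right]; group
        _ = sh q := by rw [e, ← h, mul_inv_cancel_right]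
    have hs : sh (p * q) = sh q * sh p := by rw [shmul, hct]
    have h2 : sh (p * q) * sh (p * q) = 1 := by
      rw [hs, (hshc hp hq).mul_mul_mul_comm, hq2, hp2, one_mul]
    have h1 : sh (p * q) ≠ 1 := fun h => hne' (by
      rw [hs] at h
      rw [eq_inv_of_mul_eq_one_left h, inv_eq_of_mul_eq_one_left hp2])
    have b1 : ∀ {r}, r ∈ J → sh r * sh r = 1 → Commute (g⁻¹ * sh r * g) z := fun hr h2 =>
      commute_back g (hsht hr h2)
    refine hodd (p * q) (mul_mem hp hq) h2 h1 ?_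
    rw [hs, show g⁻¹ * (sh q * sh p) * g = (g⁻¹ * sh q * g) * (g⁻¹ * sh p * g) by group]
    exact S.two (b1 hq hq2) (b1 hp hp2) (hodd q hq hq2 hq1) (hodd p hp hp2 hp1)
  have hbound : ∃ L : Finset G, L.card ≤ 5 ∧ ∀ p ∈ J, sh p * sh p = 1 → sh p ∈ L := by
    by_cases h1 : ∃ p ∈ J, sh p * sh p = 1 ∧ sh p ≠ 1
    swap
    · push Not at h1
      exact ⟨{1}, by simp, fun p hp h => by rw [h1 p hp h]; exact Finset.mem_singleton_self 1⟩
    obtain ⟨p1, hp1, a1, b1⟩ := h1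
    by_cases h2 : ∃ p ∈ J, sh p * sh p = 1 ∧ sh p ≠ 1 ∧ sh p ≠ sh p1
    swap
    · push Not at h2
      refine ⟨{1, sh p1}, Finset.card_le_two.trans (by norm_num), fun p hp h => ?_⟩
      simp only [Finset.mem_insert, Finset.mem_singleton]
      by_cases h' : sh p = 1
      · exact Or.inl h'
      · exact Or.inr (h2 p hp h h')
    obtain ⟨p2, hp2, a2, b2, c2⟩ := h2
    refine ⟨{1, sh p1, sh p2, sh p2 * z, sh p1 * z * sh p2}, ?_, fun p3 hp3 a3 => ?_⟩
    · exact (Finset.card_insert_le _ _).trans (Nat.add_le_add_right Finset.card_le_four 1)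
    simp only [Finset.mem_insert, Finset.mem_singleton]
    by_cases b3 : sh p3 = 1
    · exact Or.inl b3
    by_cases c3 : sh p3 = sh p1
    · exact Or.inr (Or.inl c3)
    by_cases d3 : sh p3 = sh p2
    · exact Or.inr (Or.inr (Or.inl d3))
    have k2 := hprod hp2 hp1 a2 a1 b2 b1 (fun e => c2 e.symm)
    have k3 := hprod hp3 hp1 a3 a1 b3 b1 (fun e => c3 e.symm)
    have k23 := hprod hp2 hp3 a2 a3 b2 b3 d3
    have hz' : ∀ {r}, r ∈ J → Commute (sh r) z := fun hr => S.commJ (shJ hr)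
    have hsum : sh (p2 * p3) = sh p3 * z * sh p2 := by
      have ht3 : t * sh p3 * t⁻¹ = sh p3 := by rw [← (hsht hp3 a3).eq, mul_inv_cancel_right]
      rw [shmul]
      congr 1
      calc t * p2 * t * sh p3 * (t * p2 * t)⁻¹ = t * p2 * (t * sh p3 * t⁻¹) * p2⁻¹ * t⁻¹ := by group
        _ = t * (p2 * sh p3 * p2⁻¹) * t⁻¹ := by rw [ht3]; group
        _ = (t * sh p3 * t⁻¹) * (t * z * t⁻¹) := by rw [k23]; group
        _ = sh p3 * z := by rw [ht3, hc.eq, mul_inv_cancel_right]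
    have hfix : p2 * p3 * sh p1 * (p2 * p3)⁻¹ = sh p1 := by
      calc p2 * p3 * sh p1 * (p2 * p3)⁻¹ = p2 * (p3 * sh p1 * p3⁻¹) * p2⁻¹ := by group
        _ = (p2 * sh p1 * p2⁻¹) * (p2 * z * p2⁻¹) := by rw [k3]; group
        _ = sh p1 := by rw [k2, (S.commJ hp2).eq, mul_inv_cancel_right, mul_assoc, S.z_sq, mul_one]
    have a23 : sh (p2 * p3) * sh (p2 * p3) = 1 := by
      have h32 : Commute (sh p3 * z) (sh p2) := (hshc hp3 hp2).mul_left (hz' hp2).symm
      rw [hsum, h32.symm.mul_mul_mul_comm, a2, (hz' hp3).symm.mul_mul_mul_comm, a3, S.z_sq, one_mul, mul_one]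
    have h5 : sh (p2 * p3) = 1 ∨ sh (p2 * p3) = sh p1 := by
      by_contra h
      push Not at h
      have := hprod (mul_mem hp2 hp3) hp1 a23 a1 h.1 b1 (fun e => h.2 e.symm)
      rw [hfix] at this
      exact S.z_ne (mul_eq_left.1 this.symm)
    have e3 : sh p3 = sh (p2 * p3) * sh p2 * z := by
      rw [hsum, mul_assoc (sh p3 * z), a2, mul_one, mul_assoc, S.z_sq, mul_one]
    rcases h5 with e | e <;> rw [e] at e3
    · exact Or.inr (Or.inr (Or.inr (Or.inl (by rw [e3, one_mul]))))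
    · exact Or.inr (Or.inr (Or.inr (Or.inr (e3.trans (by rw [mul_assoc (sh p1), (hz' hp2).eq, ← mul_assoc])))))
  obtain ⟨L, hL, hLm⟩ := hbound
  let m₀ : G := if h : ∃ p ∈ J, sh p * sh p = z then sh h.choose else 1
  set T : Finset G := L ∪ (L.image (fun l => l * m₀⁻¹) ∪ L.image (fun l => l * m₀⁻¹ * z)) with hT
  have himg : ∀ p : ↥J, sh p ∈ T := fun p => by
    rw [hT]
    simp only [Finset.mem_union, Finset.mem_image]
    rcases S.sq (shJ p.2) with h | h
    · exact Or.inl (hLm p p.2 h)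
    have hex : ∃ q ∈ J, sh q * sh q = z := ⟨p, p.2, h⟩
    obtain ⟨hq, hqz⟩ := hex.choose_spec
    have hm : m₀ = sh hex.choose := dif_pos hex
    set q := hex.choose
    have hsq : sh (q * p) * sh (q * p) = 1 := by
      have hb : sh p * sh q * (sh p * sh q) = 1 := by
        rw [(hshc hq p.2).mul_mul_mul_comm, h, hqz, S.z_sq]
      rcases hev hq p.2 with e | e <;> rw [e]
      · exact hb
      · rw [(((S.commJ (shJ p.2)).mul_left (S.commJ (shJ hq))).symm).mul_mul_mul_comm, hb, S.z_sq, one_mul]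
    have hl := hLm _ (mul_mem hq p.2) hsq
    rcases hev hq p.2 with e | e
    · exact Or.inr (Or.inl ⟨_, hl, by rw [e, hm, mul_inv_cancel_right]⟩)
    · refine Or.inr (Or.inr ⟨_, hl, ?_⟩)
      rw [e, hm, mul_assoc (sh p * sh q), ← (S.commJ (shJ hq)).inv_left.eq, ← mul_assoc, mul_inv_cancel_right,
        mul_assoc, S.z_sq, mul_one]
  have hTc : T.card ≤ 15 := by
    refine (Finset.card_union_le _ _).trans ?_
    have := Finset.card_union_le (L.image (fun l => l * m₀⁻¹)) (L.image (fun l => l * m₀⁻¹ * z))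
    have := Finset.card_image_le (s := L) (f := fun l => l * m₀⁻¹)
    have := Finset.card_image_le (s := L) (f := fun l => l * m₀⁻¹ * z)
    omega
  let K := Ct.subgroupOf J
  have hinj : Function.Injective (fun c : ↥J ⧸ K => (⟨sh (c.out : ↥J), himg _⟩ : ↥T)) := by
    intro c d e
    have e' : sh (c.out : ↥J) = sh (d.out : ↥J) := congrArg (fun r : ↥T => (r : G)) e
    rw [← QuotientGroup.out_eq' c, ← QuotientGroup.out_eq' d, QuotientGroup.eq]
    refine ⟨J.mul_mem (J.inv_mem c.out.2) d.out.2, mem_centralizer_singleton_iff.2 ?_⟩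
    set u := ((c.out : ↥J) : G)
    set w := ((d.out : ↥J) : G)
    have e1 : u * t * u⁻¹ = w * t * w⁻¹ := by
      have := congrArg (t * ·) e'
      simpa only [sh, ← mul_assoc, ht2, one_mul] using this
    show u⁻¹ * w * t = t * (u⁻¹ * w)
    calc u⁻¹ * w * t = u⁻¹ * (w * t * w⁻¹) * w := by group
      _ = t * (u⁻¹ * w) := by rw [← e1]; group
  have hle := Nat.card_le_card_of_injective _ hinj
  rw [Nat.card_eq_fintype_card (α := ↥T), Fintype.card_coe] at hle
  have hcard := Subgroup.card_eq_card_quotient_mul_card_subgroup K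
  rw [S.cardJ, Nat.card_congr (Subgroup.subgroupOfEquivOfLe (inf_le_left : Ct ≤ J)).toEquiv] at hcard
  have := Nat.mul_le_mul (hle.trans hTc) hCt
  rw [← hcard] at this
  norm_num at this

/-- No inner conjugate. -/
theorem no_inner (hia : Iso z a) (hib : Iso z (a * z)) {g : G} (hne : g * z * g⁻¹ ≠ z)
    (hc : Commute (g * z * g⁻¹) z) (hI : g * z * g⁻¹ ∈ S.inner) : False := by
  obtain ⟨M₁, M₂, hL2, hnorm, hF2, hmem⟩ := S.exists_levels hn hia hib
  obtain ⟨S'⟩ := S.swap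
  suffices h : ∀ g ∈ M₁, g * z * g⁻¹ ≠ z → Commute (g * z * g⁻¹) z → g * z * g⁻¹ ∈ S.inner → False by
    rcases hmem g with hg | ⟨f, hf, hgf⟩
    · exact h g hg hne hc hI
    · have e : g * f * z * (g * f)⁻¹ = g * z * g⁻¹ := by
        rw [show g * f * z * (g * f)⁻¹ = g * (f * z * f⁻¹) * g⁻¹ by group, (S.commJ hf.1).eq, mul_inv_cancel_right]
      exact h (g * f) hgf (e ▸ hne) (e ▸ hc) (e ▸ hI)
  clear hne hc hI g
  intro g hg hne hc hI
  have hzl : z ∈ S.lin := S.rest_le_lin (S.inV_rest (Or.inr (Or.inl rfl)))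
  have hVl : ∀ {v}, InV z a v → v ∈ S.lin := fun hv => S.rest_le_lin (S.inV_rest hv)
  have hlin : ∀ g ∈ M₁, g * z * g⁻¹ ∈ S.inner → g * z * g⁻¹ ∈ S.lin := fun g hg hI => by
    obtain ⟨f, hf, hl⟩ := S.lin_decomp hn hI
    have hfM : f ∈ M₂ := by
      rw [show f = (g * z * g⁻¹) * (f⁻¹ * (g * z * g⁻¹))⁻¹ by group]
      exact mul_mem (hnorm g hg z (hL2 hzl)) (inv_mem (hL2 hl))
    rw [← mul_inv_cancel_left f (g * z * g⁻¹)]
    exact mul_mem (hVl (hF2 f hf hfM)) hl
  have sqI : ∀ {h}, Commute h z → h * h ∈ S.inner := fun {h} hh => by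
    by_cases hI : h ∈ S.inner
    · exact mul_mem hI hI
    · exact S.two hh hh hI hI
  set y := g * z * g⁻¹ with hy
  have hyF : ∀ f ∈ S.fp, Commute f y := fun f hf => ((S.mem_lin.1 (hlin g hg hI)).2 f hf).symm
  have hgi : ∀ {v : G}, g * (g⁻¹ * v * g) * g⁻¹ = v := by intro v; group
  have hne' : g⁻¹ * z * g⁻¹⁻¹ ≠ z := fun e => hne (by
    calc y = g * (g⁻¹ * z * g⁻¹⁻¹) * g⁻¹ := by rw [e]
      _ = z := by group)
  have hroot : g⁻¹ * z * g⁻¹⁻¹ ∈ S.inner := by
    obtain ⟨p, hp, q, hq, hpq, -, -⟩ := S.exists_pair hn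
    obtain ⟨w, hw, hw2⟩ : ∃ w ∈ S.fp, w * w = z := by
      rcases S.sq hp.1 with ep | ep
      swap
      · exact ⟨p, hp, ep⟩
      rcases S.sq hq.1 with eq | eq
      swap
      · exact ⟨q, hq, eq⟩
      refine ⟨p * q, mul_mem hp hq, ?_⟩
      rw [inv_eq_of_mul_eq_one_left ep, inv_eq_of_mul_eq_one_left eq] at hpq
      rw [← hpq]
      simp only [mul_assoc]
    have := sqI (commute_back g (hyF w hw))
    rwa [show g⁻¹ * w * g * (g⁻¹ * w * g) = g⁻¹ * (w * w) * g⁻¹⁻¹ by group, hw2] at this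
  have hFi : ∀ f ∈ S.fp, Commute (g * f * g⁻¹) z := fun f hf => by
    have h1 := ((S.mem_lin.1 (hlin g⁻¹ (inv_mem hg) hroot)).2 f hf).symm
    have h2 := commute_back (g := g⁻¹) (z := z) h1
    rwa [inv_inv] at h2
  have hgF : ∀ f ∈ S.fp, Commute (g⁻¹ * f * g) z := fun f hf => commute_back g (hyF f hf)
  have hzn : ∀ f ∈ S.fp, g * f * g⁻¹ ≠ z := fun f hf e => hne' (S.conj_not_fp hn hia hib (by
    rw [show g⁻¹ * z * g⁻¹⁻¹ = f by rw [← e]; group]
    exact hf))
  have hC := S.pair_ctx hia hib hne hc (S.inner_a hI)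
  have hVcase : ∀ f ∈ S.fp, ∀ u, InV z a u → u ≠ 1 → g * f * g⁻¹ = u → False := by
    intro f hf u hu hu1 e
    rcases hu with hu | hu | hu | hu
    · exact hu1 hu
    · exact hzn f hf (e.trans hu)
    all_goals
      by_cases hfV : InV z a f
      · have huV : InV z a u := by first | exact Or.inr (Or.inr (Or.inl hu)) | exact Or.inr (Or.inr (Or.inr hu))
        rcases hfV with hfV | hfV | hfV | hfV <;> rw [hfV] at e
        · exact hu1 (by rw [← e]; group)
        · first | exact S.not_conj_a g (e.trans hu) | exact S.not_conj_az g (e.trans hu)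
        · exact hC.nx (e ▸ huV)
        · refine hC.nx' ?_
          rw [show g * a * g⁻¹ * (g * z * g⁻¹) = g * (a * z) * g⁻¹ by group, e]
          exact huV
      · obtain ⟨v, hv, efv⟩ := S.fp_pair hn hf hfV
        have hgv := hFi v hv
        have e2 : u * (g * v * g⁻¹) * u⁻¹ * (g * v * g⁻¹)⁻¹ = y := by
          rw [← e, hy, ← efv]; group
        set k := g * v * g⁻¹ with hk
        have huJ : u ∈ J := by
          rw [hu]
          first | exact S.memA | exact mul_mem S.memA S.memJ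
        have huc : ∀ q ∈ J, Commute u q := fun q hq => by
          rw [hu]
          first | exact S.comA q hq | exact (S.comA q hq).mul_left (S.commJ hq).symm
        have hku : k * u * k⁻¹ = u ∨ k * u * k⁻¹ = u * z := by
          rw [hu]
          rcases S.conj_a hgv with h | h
          all_goals
            first
            | exact Or.inl h
            | exact Or.inr h
            | refine Or.inl ?_
              rw [show k * (a * z) * k⁻¹ = (k * a * k⁻¹) * (k * z * k⁻¹) by group, h, hgv.eq, mul_inv_cancel_right]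
              done
            | refine Or.inr ?_
              rw [show k * (a * z) * k⁻¹ = (k * a * k⁻¹) * (k * z * k⁻¹) by group, h, hgv.eq, mul_inv_cancel_right]
              done
        have e3 : y = u * (k * u * k⁻¹)⁻¹ := by rw [← e2]; group
        rcases hku with h | h <;> rw [h] at e3
        · exact hC.ny (Or.inl (e3.trans (mul_inv_cancel u)))
        · refine hne ?_
          rw [e3, mul_inv_rev, S.z_inv, ← mul_assoc, ← (huc z S.memJ).symm.eq, mul_assoc, mul_inv_cancel, mul_one]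
  have hcomm : ∀ f ∈ S.fp, ∀ r ∈ S.fp, Commute (g * f * g⁻¹) r := by
    intro f hf r hr
    set k := g * f * g⁻¹ with hk
    set u := r * k * r⁻¹ * k⁻¹ with hu
    have hu1 : u ∈ S.fp := by
      rw [show u = r * (k * r⁻¹ * k⁻¹) by rw [hu]; group]
      exact mul_mem hr (S.conj_fp (hFi f hf) (inv_mem hr))
    have hu2 : g⁻¹ * u * g ∈ S.fp := by
      rw [show g⁻¹ * u * g = (g⁻¹ * r * g) * f * (g⁻¹ * r * g)⁻¹ * f⁻¹ by rw [hu, hk]; group]
      exact mul_mem (S.conj_fp (hgF r hr) hf) (inv_mem hf)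
    by_cases h1 : u = 1
    · exact (mul_inv_eq_iff_eq_mul.1 (mul_inv_eq_one.1 (hu ▸ h1)) : r * k = k * r).symm
    exfalso
    by_cases hV : InV z a u
    · exact hVcase _ hu2 u hV h1 hgi
    obtain ⟨v, hv, e3⟩ := S.fp_pair hn hu1 hV
    refine hzn _ (mul_mem hu2 (S.conj_fp (hgF v hv) (inv_mem hu2))) ?_
    rw [← e3]; group
  obtain ⟨p, hp, q, hq, hpq, hpV, hqV⟩ := S.exists_pair hn
  obtain ⟨r, hr, hrV, hrI⟩ : ∃ r ∈ S.fp, ¬ InV z a r ∧ g * r * g⁻¹ ∈ S.inner := by
    by_cases h1 : g * p * g⁻¹ ∈ S.inner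
    · exact ⟨p, hp, hpV, h1⟩
    by_cases h2 : g * q * g⁻¹ ∈ S.inner
    · exact ⟨q, hq, hqV, h2⟩
    refine ⟨p * q, mul_mem hp hq, fun hV => S.z_ne ?_, ?_⟩
    · rw [← hpq]
      have h1 : Commute p (p * q) := cV (S.commJ hp.1) (S.commA hp.1) hV
      have h2 : p * q = q * p := by
        have h3 := h1.eq
        rw [mul_assoc p q p] at h3
        exact mul_left_cancel h3
      rw [h2, mul_inv_cancel_right, mul_inv_cancel]
    · rw [show g * (p * q) * g⁻¹ = (g * p * g⁻¹) * (g * q * g⁻¹) by group]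
      exact S.two (hFi p hp) (hFi q hq) h1 h2
  refine hrV (hF2 r hr ?_)
  rw [show r = g⁻¹ * (g * r * g⁻¹) * g⁻¹⁻¹ by group]
  exact hnorm _ (inv_mem hg) _ (hL2 (S.mem_lin.2 ⟨hrI, hcomm r hr⟩))

/-- With a fixed vector the involution is isolated. -/
theorem isolated_fixed (hia : Iso z a) (hib : Iso z (a * z)) :
    ∀ g : G, Commute (g * z * g⁻¹) z → g * z * g⁻¹ = z := by
  intro g hc
  by_contra hne
  exact S.outer_false hn (fun g h1 h2 h3 => S.no_inner hn hia hib h1 h2 h3) hne hc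

omit hn in
/-- Isolated under both central involutions is isolated. -/
theorem isolated_small (hia : Iso z a) (hib : Iso z (a * z)) :
    ∀ g : G, Commute (g * z * g⁻¹) z → g * z * g⁻¹ = z := by
  by_cases h : S.NoFix
  · exact S.isolated_natural h hia hib
  · exact S.isolated_fixed h hia hib

end Setting

end Cfsg.Lib.FiTwo
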