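import Cfsg.Agent.FiTwoCentral.Alpha
import Cfsg.Agent.FiTwoCentral.BetaB
import Cfsg.Agent.FiTwoCentral.FixMain
import Cfsg.Agent.S0814

/-!
# Two times extraspecial core below the automorphisms of the symplectic group
-/

set_option autoImplicit false
set_option Elab.async false
set_option linter.style.haveILetI false
set_option linter.unusedSectionVars false

namespace Cfsg.Lib.FiTwo

open Subgroup Cfsg.Lib.USixType

universe u v w

variable {G : Type u} [Group G] [Finite G]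

/-- The outcome with a conjugate under the centraliser of `a`. -/
theorem large {P : Type v} [Group P] {z a : G} {J E : Subgroup G} (S : Setting z a J E P) (hia : ¬ Iso z a)
    {K : Type w} [Field K] [Fintype K] (hK : Fintype.card K = 4) :
    ((zpowers a).Normal ∧ ∃ (G₀ : Subgroup G) (_ : a ∈ G₀), G₀.index = 2 ∧
      ∃ _ : ((zpowers a).subgroupOf G₀).Normal,
        Nonempty ((↥G₀ ⧸ (zpowers a).subgroupOf G₀) ≃* Cfsg.PSU 6 K 2)) ∨ Cfsg.Spor.IsoFi22 G := by
  obtain ⟨C⟩ := S.exists_cover hia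
  by_cases ha : a ∈ C.L
  · by_cases ht : ∃ t, Commute t z ∧ ¬ Commute t a
    · exact Or.inr (C.fi22_of_moves ha ht)
    · push Not at ht
      exact Or.inl (C.outcome_central (C.central_of_perfect hia ha ht) hK)
  · exact Or.inl (C.outcome_central (C.central_of_split hia ha) hK)

set_option maxHeartbeats 1000000 in
theorem main (z : G) (hz : orderOf z = 2)
    {F : Type v} [Field F] [Fintype F] (hF : Fintype.card F = 3) {K : Type w} [Field K] [Fintype K]
    (hK : Fintype.card K = 4)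
    (A E : Subgroup ↥(centralizer ({z} : Set G)))
    (hAE : Cfsg.IsInternalDirectProduct A E (Cfsg.pCore 2 ↥(centralizer ({z} : Set G)))) (hA : Nat.card ↥A = 2)
    (hE : Cfsg.IsExtraspecial 2 ↥E) (hEc : Nat.card ↥E = 2 ^ 9)
    (zc : ↥(centralizer ({z} : Set G))) (hzc : (zc : G) = z)
    (hJ' : ⁅(Cfsg.pCore 2 ↥(centralizer ({z} : Set G))), (Cfsg.pCore 2 ↥(centralizer ({z} : Set G)))⁆ = zpowers zc)
    (hCJ : centralizer ((Cfsg.pCore 2 ↥(centralizer ({z} : Set G))) : Set ↥(centralizer ({z} : Set G))) ≤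
      Cfsg.pCore 2 ↥(centralizer ({z} : Set G)))
    [(Cfsg.pCore 2 ↥(centralizer ({z} : Set G))).Normal]
    (e : (↥(centralizer ({z} : Set G)) ⧸ Cfsg.pCore 2 ↥(centralizer ({z} : Set G))) ≃* MulAut (Cfsg.PSp 2 F)) :
    centralizer ({z} : Set G) ⊔ Cfsg.oddCore G = ⊤ ∨
      (∃ z₁ : G, orderOf z₁ = 2 ∧ z₁ ∉ zpowers z ∧ (∃ h₁ : z₁ ∈ centralizer ({z} : Set G),
        (⟨z₁, h₁⟩ : ↥(centralizer ({z} : Set G))) ∈ Cfsg.pCore 2 ↥(centralizer ({z} : Set G)) ∧
          ∀ j ∈ Cfsg.pCore 2 ↥(centralizer ({z} : Set G)), j * ⟨z₁, h₁⟩ = ⟨z₁, h₁⟩ * j) ∧ (zpowers z₁).Normal ∧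
        ∃ (G₀ : Subgroup G) (hz₁ : z₁ ∈ G₀), G₀.index = 2 ∧
          ∃ hn : ((zpowers z₁).subgroupOf G₀).Normal,
            Nonempty ((↥G₀ ⧸ (zpowers z₁).subgroupOf G₀) ≃* Cfsg.PSU 6 K 2)) ∨
      Cfsg.Spor.IsoFi22 G := by
  classical
  haveI : Fact (Nat.Prime 2) := ⟨Nat.prime_two⟩
  obtain ⟨hA1, hE1, hcomm, hmeet, hsup⟩ := hAE
  obtain ⟨eU⟩ := Ext.equiv_psp hF
  have hAsq : ∀ x ∈ A, x * x = 1 := fun x hx => by
    have h := pow_card_eq_one' (x := (⟨x, hx⟩ : ↥A))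
    rw [hA, pow_two] at h
    exact congrArg Subtype.val h
  obtain ⟨aC, haA, ha1⟩ : ∃ aC ∈ A, aC ≠ 1 := by
    by_contra h
    push Not at h
    rw [(Subgroup.eq_bot_iff_forall A).2 h, Subgroup.card_bot] at hA
    norm_num at hA
  have hAel : ∀ x ∈ A, x = 1 ∨ x = aC := fun x hx => by
    letI : Fintype ↥A := Fintype.ofFinite _
    have hsub : ({⟨1, one_mem A⟩, ⟨aC, haA⟩} : Finset ↥A) = Finset.univ := by
      refine Finset.eq_univ_of_card _ ?_
      rw [Finset.card_pair (fun e => ha1 (congrArg Subtype.val e).symm), ← Nat.card_eq_fintype_card, hA]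
    have := hsub.symm ▸ Finset.mem_univ (⟨x, hx⟩ : ↥A)
    simp only [Finset.mem_insert, Finset.mem_singleton, Subtype.mk.injEq] at this
    exact this
  have haE : aC ∉ E := fun h => ha1 (Subgroup.mem_bot.1 (hmeet ▸ Subgroup.mem_inf.2 ⟨haA, h⟩))
  let O2 : Subgroup ↥(centralizer ({z} : Set G)) :=
    { carrier := {q | Commute aC q ∧ (q ∈ E ∨ aC * q ∈ E)}
      one_mem' := ⟨Commute.one_right _, Or.inl (one_mem E)⟩
      mul_mem' := fun {x y} hx hy => ⟨hx.1.mul_right hy.1, by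
        rcases hx.2 with h1 | h1 <;> rcases hy.2 with h2 | h2
        · exact Or.inl (mul_mem h1 h2)
        · refine Or.inr ?_
          rw [← mul_assoc, hx.1.eq, mul_assoc]
          exact mul_mem h1 h2
        · refine Or.inr ?_
          rw [← mul_assoc]
          exact mul_mem h1 h2
        · refine Or.inl ?_
          have := mul_mem h1 h2
          rwa [show aC * x * (aC * y) = aC * (x * aC) * y by group, ← hx.1.eq, ← mul_assoc aC aC x, hAsq aC haA,
            one_mul] at this⟩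
      inv_mem' := fun {x} hx => ⟨hx.1.inv_right, hx.2.imp inv_mem fun h => by
        have := inv_mem h
        rwa [mul_inv_rev, inv_eq_of_mul_eq_one_left (hAsq aC haA), ← hx.1.inv_right.eq] at this⟩ }
  have hsplit : ∀ q ∈ (Cfsg.pCore 2 ↥(centralizer ({z} : Set G))), Commute aC q ∧ (q ∈ E ∨ aC * q ∈ E) := fun q hq => by
    have hle : A ⊔ E ≤ O2 := sup_le (fun x hx => by
      rcases hAel x hx with rfl | rfl
      · exact O2.one_mem
      · exact ⟨Commute.refl _, Or.inr (by rw [hAsq _ haA]; exact one_mem E)⟩)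
      fun x hx => ⟨hcomm aC haA x hx, Or.inl hx⟩
    exact hle (hsup.symm ▸ hq)
  have hzE : zc ∈ E := by
    have hle : ⁅(Cfsg.pCore 2 ↥(centralizer ({z} : Set G))), (Cfsg.pCore 2 ↥(centralizer ({z} : Set G)))⁆ ≤ E := Subgroup.commutator_le.2 fun p hp q hq => by
      rw [commutatorElement_def]
      obtain ⟨hpc, hp'⟩ := hsplit p hp
      obtain ⟨hqc, hq'⟩ := hsplit q hq
      have kill : ∀ {p q : ↥(centralizer ({z} : Set G))}, Commute aC p → Commute aC q → aC * p * q * (aC * p)⁻¹ * q⁻¹ = p * q * p⁻¹ * q⁻¹ ∧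
          p * (aC * q) * p⁻¹ * (aC * q)⁻¹ = p * q * p⁻¹ * q⁻¹ := fun {p q} hp hq => by
        constructor
        · calc aC * p * q * (aC * p)⁻¹ * q⁻¹ = aC * (p * q * p⁻¹) * aC⁻¹ * q⁻¹ := by group
            _ = _ := by rw [((hp.mul_right hq).mul_right hp.inv_right).eq, mul_inv_cancel_right]
        · calc p * (aC * q) * p⁻¹ * (aC * q)⁻¹ = (p * aC) * (q * p⁻¹ * q⁻¹) * aC⁻¹ := by group
            _ = aC * (p * q * p⁻¹ * q⁻¹) * aC⁻¹ := by rw [← hp.eq]; group
            _ = _ := by rw [(((hp.mul_right hq).mul_right hp.inv_right).mul_right hq.inv_right).eq, mul_inv_cancel_right]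
      have cm : ∀ {p q : ↥(centralizer ({z} : Set G))}, p ∈ E → q ∈ E → p * q * p⁻¹ * q⁻¹ ∈ E := fun hp hq =>
        mul_mem (mul_mem (mul_mem hp hq) (inv_mem hp)) (inv_mem hq)
      rcases hp' with h1 | h1 <;> rcases hq' with h2 | h2
      · exact cm h1 h2
      · rw [← (kill hpc hqc).2]; exact cm h1 h2
      · rw [← (kill hpc hqc).1]; exact cm h1 h2
      · rw [← (kill hpc hqc).1, ← (kill ((Commute.refl aC).mul_right hpc) hqc).2]; exact cm h1 h2
    exact hle (hJ'.symm ▸ mem_zpowers zc)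
  set J := (Cfsg.pCore 2 ↥(centralizer ({z} : Set G))).map (centralizer ({z} : Set G)).subtype
  set E' := E.map (centralizer ({z} : Set G)).subtype
  set a : G := (aC : G) with hadef
  let eE : ↥E ≃* ↥E' := E.equivMapOfInjective _ (centralizer ({z} : Set G)).subtype_injective
  have hmemE : ∀ q : ↥(centralizer ({z} : Set G)), (q : G) ∈ E' ↔ q ∈ E := fun q =>
    ⟨fun ⟨p, hp, e⟩ => (Subtype.ext e : p = q) ▸ hp, fun h => ⟨q, h, rfl⟩⟩
  let S : Setting z a J E' (Cfsg.PSp 2 F) :=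
    { order := hz
      sqa := congrArg Subtype.val (hAsq aC haA)
      le := Subgroup.map_subtype_le (Cfsg.pCore 2 ↥(centralizer ({z} : Set G)))
      norm := fun h hh => Cfsg.Lib.ZStarApps.mem_normalizer_of_maps fun q hq => by
        obtain ⟨p, hp, rfl⟩ := hq
        exact ⟨⟨h, hh⟩ * p * ⟨h, hh⟩⁻¹, Subgroup.Normal.conj_mem inferInstance p hp ⟨h, hh⟩, rfl⟩
      leE := Subgroup.map_mono hE1
      memA := ⟨aC, hA1 haA, rfl⟩
      notE := fun h => haE ((hmemE aC).1 h)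
      comA := fun q hq => by
        obtain ⟨p, hp, rfl⟩ := hq
        exact congrArg Subtype.val (hsplit p hp).1.eq
      split := fun q hq => by
        obtain ⟨p, hp, rfl⟩ := hq
        exact (hsplit p hp).2.imp (fun h => ⟨p, h, rfl⟩) fun h => ⟨aC * p, h, rfl⟩
      extra := Ext.extraspecial_congr eE hE
      cardE := by rw [← Nat.card_congr eE.toEquiv]; exact hEc
      memE := hzc ▸ (hmemE zc).2 hzE
      self := fun g hg hq => ⟨⟨g, hg⟩, hCJ (Subgroup.mem_centralizer_iff.2 fun p hp =>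
        Subtype.ext (hq _ ⟨p, hp, rfl⟩).symm), rfl⟩
      iso := ⟨eU⟩
      autCard := by
        haveI : Fact (Nat.Prime 3) := ⟨Nat.prime_three⟩
        rw [Cfsg.Agent.S0814.result 3 1 le_rfl (by rw [hF, pow_one]) 2 le_rfl (fun _ => le_rfl),
          ← Nat.card_congr eU.toEquiv, card_U]
        norm_num
      f := e.toMonoidHom.comp (QuotientGroup.mk' (Cfsg.pCore 2 ↥(centralizer ({z} : Set G))))
      surj := e.surjective.comp (QuotientGroup.mk'_surjective (Cfsg.pCore 2 ↥(centralizer ({z} : Set G))))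
      ker := fun h => by
        show e (QuotientGroup.mk h) = 1 ↔ _
        rw [MulEquiv.map_eq_one_iff, QuotientGroup.eq_one_iff]
        exact ⟨fun hh => ⟨h, hh, rfl⟩, fun ⟨p, hp, hpq⟩ => (Subtype.ext hpq : p = h) ▸ hp⟩ }
  have fin : ∀ {b : G}, Setting z b J E' (Cfsg.PSp 2 F) → ¬ Iso z b →
      (∃ z₁ : G, orderOf z₁ = 2 ∧ z₁ ∉ zpowers z ∧ (∃ h₁ : z₁ ∈ centralizer ({z} : Set G), (⟨z₁, h₁⟩ : ↥(centralizer ({z} : Set G))) ∈ (Cfsg.pCore 2 ↥(centralizer ({z} : Set G))) ∧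
          ∀ j ∈ (Cfsg.pCore 2 ↥(centralizer ({z} : Set G))), j * ⟨z₁, h₁⟩ = ⟨z₁, h₁⟩ * j) ∧ (zpowers z₁).Normal ∧
        ∃ (G₀ : Subgroup G) (hz₁ : z₁ ∈ G₀), G₀.index = 2 ∧
          ∃ hn : ((zpowers z₁).subgroupOf G₀).Normal,
            Nonempty ((↥G₀ ⧸ (zpowers z₁).subgroupOf G₀) ≃* Cfsg.PSU 6 K 2)) ∨ Cfsg.Spor.IsoFi22 G := by
    intro b S hi
    refine (large S hi hK).imp (fun h => ⟨b, S.order_a, fun hb => ?_, ⟨S.le S.memA, ?_, ?_⟩, h.1, h.2⟩) id
    · rcases Ext.eq_one_or_of_zpowers S.z_sq hb with e | e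
      · exact S.a_ne e
      · exact S.a_ne_z e
    · obtain ⟨p, hp, hpb⟩ := S.memA
      rwa [show (⟨b, S.le S.memA⟩ : ↥(centralizer ({z} : Set G))) = p from Subtype.ext hpb.symm]
    · exact fun j hj => Subtype.ext (S.commA ⟨j, hj, rfl⟩).eq
  by_cases hia : Iso z a
  · by_cases hib : Iso z (a * z)
    · exact Or.inl (Ext.sup_oddCore ⟨hz, fun g hg => S.isolated_small hia hib g hg.symm⟩)
    · exact Or.inr (fin S.swapped hib)
  · exact Or.inr (fin S hia)

end Cfsg.Lib.FiTwo
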