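import Cfsg.Agent.FiTwoCentral.Coords
import Cfsg.Agent.USixType.Lin.Main

/-!
# The recognition of the unitary group used above and below
-/

set_option autoImplicit false
set_option Elab.async false
set_option linter.style.haveILetI false
set_option linter.unusedSectionVars false

namespace Cfsg.Lib.FiTwo

open Subgroup Cfsg.Lib.USixType

universe u v

variable {Q : Type u} [Group Q]

/-- Commutators lie in subgroups of index at most two. -/
theorem comm_mem_of_index_le [Finite Q] {N : Subgroup Q} (hN : N.index ≤ 2) (x y : Q) :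
    x * y * x⁻¹ * y⁻¹ ∈ N := by
  rcases Nat.lt_or_eq_of_le hN with h | h
  · have : N.index = 1 := by have := Subgroup.index_ne_zero_of_finite (H := N); omega
    rw [Subgroup.index_eq_one] at this
    rw [this]
    exact Subgroup.mem_top _
  · simp only [Subgroup.mul_mem_iff_of_index_two h, inv_mem_iff]
    tauto

theorem card_W : Nat.card ↥W = 9196830720 := by
  obtain ⟨e⟩ := model_psu PrimeGraph.KQuad PrimeGraph.KQuad.card_eq
  rw [Nat.card_congr e.toEquiv, Ext.card_psu_six PrimeGraph.KQuad.card_eq]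

theorem perfect_W : _root_.commutator ↥W = ⊤ := by
  haveI := model_simple
  refine ((inferInstance : (_root_.commutator ↥W).Normal).eq_bot_or_eq_top).resolve_left fun hb => ?_
  have hc : ∀ a b : ↥W, a * b = b * a := fun a b => by
    have hmem : a * b * a⁻¹ * b⁻¹ ∈ _root_.commutator ↥W := by
      rw [commutator_eq_closure]
      exact subset_closure ⟨a, b, rfl⟩
    rw [hb, Subgroup.mem_bot] at hmem
    exact mul_inv_eq_iff_eq_mul.1 (mul_inv_eq_one.1 hmem)
  letI : CommGroup ↥W := { (inferInstance : Group ↥W) with mul_comm := hc }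
  have hp := IsSimpleGroup.prime_card (α := ↥W)
  rw [card_W] at hp
  norm_num at hp

/-- A copy of the model lies in every subgroup containing its commutators. -/
theorem le_of_model {M N : Subgroup Q} (e : ↥M ≃* ↥W)
    (h : ∀ x ∈ M, ∀ y ∈ M, x * y * x⁻¹ * y⁻¹ ∈ N) : M ≤ N := by
  intro x hx
  have hle : _root_.commutator ↥W ≤ ((N.comap M.subtype).map e.toMonoidHom) := by
    rw [commutator_eq_closure, Subgroup.closure_le]
    rintro _ ⟨a, b, rfl⟩
    refine ⟨e.symm a * e.symm b * (e.symm a)⁻¹ * (e.symm b)⁻¹, h _ (e.symm a).2 _ (e.symm b).2, ?_⟩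
    simp [commutatorElement_def]
  obtain ⟨y, hy, hye⟩ := hle (perfect_W ▸ Subgroup.mem_top (e ⟨x, hx⟩))
  have hyx : y = ⟨x, hx⟩ := e.injective hye
  subst hyx
  exact hy

/-- A supplemented centraliser isolates the involution. -/
theorem isolated_of_sup [Finite Q] {z : Q} (hz : orderOf z = 2)
    (h : centralizer ({z} : Set Q) ⊔ Cfsg.oddCore Q = ⊤) (g : Q) (hc : Commute (g * z * g⁻¹) z) :
    g * z * g⁻¹ = z := by
  haveI : (Cfsg.oddCore Q).Normal := inferInstanceAs (Cfsg.pPrimeCore 2 Q).Normal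
  have hg : g ∈ ((Cfsg.oddCore Q ⊔ centralizer ({z} : Set Q) : Subgroup Q) : Set Q) := by
    rw [sup_comm, h]; exact Subgroup.mem_top g
  rw [Subgroup.normal_mul] at hg
  obtain ⟨o, ho, c, hc', rfl⟩ := hg
  have e : o * c * z * (o * c)⁻¹ = o * z * o⁻¹ := by
    rw [show o * c * z * (o * c)⁻¹ = o * (c * z * c⁻¹) * o⁻¹ by group, mem_centralizer_singleton_iff.1 hc',
      mul_inv_cancel_right]
  rw [e] at hc ⊢
  have hz2 : z * z = 1 := by rw [← pow_two, ← hz, pow_orderOf_eq_one]
  set m := z⁻¹ * (o * z * o⁻¹) with hm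
  have hmO : m ∈ Cfsg.oddCore Q := by
    rw [hm, show z⁻¹ * (o * z * o⁻¹) = (z⁻¹ * o * z⁻¹⁻¹) * o⁻¹ by group]
    exact mul_mem (Subgroup.Normal.conj_mem inferInstance _ ho _) (inv_mem ho)
  have hm2 : m ^ 2 = 1 := by
    rw [pow_two, hm, inv_eq_of_mul_eq_one_left hz2]
    rw [hc.mul_mul_mul_comm, hz2, one_mul, show o * z * o⁻¹ * (o * z * o⁻¹) = o * (z * z) * o⁻¹ by group, hz2]
    group
  have hodd : Odd (orderOf m) := by
    rw [show orderOf m = orderOf (⟨m, hmO⟩ : ↥(Cfsg.oddCore Q)) from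
      orderOf_injective (Cfsg.oddCore Q).subtype (Subgroup.subtype_injective _) ⟨m, hmO⟩]
    exact (Cfsg.Lib.ZStarApps.odd_card_pPrimeCore (G := Q)).of_dvd_nat (orderOf_dvd_natCard _)
  have h1 : m = 1 := orderOf_eq_one_iff.1
    (Nat.eq_one_of_dvd_coprimes (Nat.coprime_two_right.2 hodd) dvd_rfl (orderOf_dvd_of_pow_eq_one hm2))
  exact (inv_mul_eq_one.1 h1).symm

variable {P : Type v} [Group P]

set_option maxHeartbeats 1000000 in
/-- The recognition: an extraspecial core with the inner or all automorphisms above it, without fixed vectors. -/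
theorem recognise [Finite Q] {z : Q} {J : Subgroup Q} (iso : Nonempty (↥U ≃* P))
    (autCard : Nat.card (MulAut P) = 2 * 25920) (order : orderOf z = 2) (le : J ≤ centralizer ({z} : Set Q))
    (norm : centralizer ({z} : Set Q) ≤ normalizer (J : Set Q)) (extra : Cfsg.IsExtraspecial 2 ↥J)
    (card : Nat.card ↥J = 2 ^ 9) (mem : z ∈ J)
    (self : ∀ g ∈ centralizer ({z} : Set Q), (∀ q ∈ J, g * q = q * g) → g ∈ J)
    (F : ↥(centralizer ({z} : Set Q)) →* MulAut P) (ker : ∀ h, F h = 1 ↔ (h : Q) ∈ J)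
    (hinn : (MulAut.conj : P →* MulAut P).range ≤ F.range)
    (hfix : ∀ q ∈ J, (∀ h : ↥(centralizer ({z} : Set Q)), F h ∈ (MulAut.conj : P →* MulAut P).range →
      (h : Q) * q * (h : Q)⁻¹ * q⁻¹ ∈ zpowers z) → q ∈ zpowers z)
    (hw : ∃ g : Q, Commute (g * z * g⁻¹) z ∧ g * z * g⁻¹ ≠ z) :
    ∃ M₀ : Subgroup Q, centralizer (M₀ : Set Q) = ⊥ ∧ Nonempty (↥M₀ ≃* ↥W) ∧
      (((∀ h, F h ∈ (MulAut.conj : P →* MulAut P).range) ∧ M₀ = ⊤) ∨
        (M₀.index = 2 ∧ ∃ t, Commute t z ∧ t ∉ M₀ ∧ (t * t = 1 ∨ t * t = z))) := by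
  classical
  obtain ⟨e⟩ := iso
  haveI : Finite P := Finite.of_equiv ↥U e.toEquiv
  have hidx : (MulAut.conj : P →* MulAut P).range.index = 2 := by
    have h1 := (MulAut.conj : P →* MulAut P).range.card_mul_index
    rw [card_inner e, autCard] at h1
    omega
  by_cases hall : ∀ h, F h ∈ (MulAut.conj : P →* MulAut P).range
  · let cr : P ≃* ↥(MulAut.conj : P →* MulAut P).range := MonoidHom.ofInjective (conj_injective e)
    have hS : NatSetting z J :=
      { order := order, le := le, norm := norm, extra := extra, card := card, mem := mem, self := self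
        quot := fun R _ _ hR => by
          obtain ⟨eF⟩ := Ext.equiv_psp hR
          let g : ↥(centralizer ({z} : Set Q)) →* P := cr.symm.toMonoidHom.comp (F.codRestrict _ hall)
          refine ⟨(e.symm.trans eF).toMonoidHom.comp g, fun p => ?_, fun c => ?_⟩
          · obtain ⟨x, hx⟩ := hinn ⟨(e.symm.trans eF).symm p, rfl⟩
            refine ⟨x, ?_⟩
            have hg : g x = (e.symm.trans eF).symm p := cr.symm_apply_eq.2 (Subtype.ext hx)
            show (e.symm.trans eF) (g x) = p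
            rw [hg, MulEquiv.apply_symm_apply]
          · show (e.symm.trans eF) (cr.symm ⟨F c, hall c⟩) = 1 ↔ _
            rw [MulEquiv.map_eq_one_iff, MulEquiv.map_eq_one_iff, Subtype.ext_iff]
            exact ker c
        nofix := fun q hq h => hfix q hq fun c _ => h c c.2 }
    obtain ⟨⟨eW⟩, hc⟩ := coreGoal z J hS hw
    refine ⟨⊤, ?_, ⟨Subgroup.topEquiv.trans eW⟩, Or.inl ⟨hall, rfl⟩⟩
    rw [Subgroup.coe_top, Subgroup.centralizer_univ, hc]
  · push Not at hall
    obtain ⟨h₀, hh₀⟩ := hall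
    have hsurj : Function.Surjective F := fun y => by
      by_cases hy : y ∈ (MulAut.conj : P →* MulAut P).range
      · exact hinn hy
      · obtain ⟨x, hx⟩ := hinn (show y * F h₀ ∈ (MulAut.conj : P →* MulAut P).range by
          rw [Subgroup.mul_mem_iff_of_index_two hidx]; exact iff_of_false hy hh₀)
        exact ⟨x * h₀⁻¹, by rw [map_mul, map_inv, hx, mul_inv_cancel_right]⟩
    let S : Ext.OuterSetting z J P :=
      { order := order, le := le, norm := norm, extra := extra, card := card, mem := mem, self := self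
        iso := ⟨e⟩, autCard := autCard, f := F, surj := hsurj, ker := ker }
    have hn : S.NoFix := fun q hq h => hfix q hq fun c hc => h c ⟨c, hc, rfl⟩
    obtain ⟨c⟩ := Ext.exists_ecoord S hn
    rcases Ext.of_coord (Lin.linearGoal Lin.fixedGoal) c extra self (F := ZMod 3) (ZMod.card 3)
      (K := PrimeGraph.KQuad) PrimeGraph.KQuad.card_eq with ⟨M₀, hM₀, ⟨eP⟩, hc0⟩ | hsup
    swap
    · exfalso
      obtain ⟨g, hg, hne⟩ := hw
      exact hne (isolated_of_sup order hsup g hg)
    obtain ⟨eK⟩ := model_psu PrimeGraph.KQuad PrimeGraph.KQuad.card_eq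
    refine ⟨M₀, hc0, ⟨eP.trans eK.symm⟩, Or.inr ⟨hM₀, ?_⟩⟩
    obtain ⟨M, hM, hMC⟩ := c.exists_index_two
    have hle : M₀ ≤ M := le_of_model (eP.trans eK.symm) fun x _ y _ => comm_mem_of_index_le hM.le x y
    have heq : M₀ = M := by
      refine Subgroup.eq_of_le_of_card_ge hle (le_of_eq ?_)
      have h1 := M.card_mul_index
      have h2 := M₀.card_mul_index
      rw [hM] at h1; rw [hM₀] at h2
      omega
    obtain ⟨t, ht, htU, htt, -⟩ := c.exists_t
    refine ⟨t, ht, fun h => htU ?_, htt⟩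
    exact (hMC ▸ Subgroup.mem_inf.2 ⟨heq ▸ h, mem_centralizer_singleton_iff.2 ht.eq⟩ : t ∈ c.inner).2

end Cfsg.Lib.FiTwo
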