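import Cfsg.Agent.FiTwoCentral.Large
import Cfsg.Agent.USixType.Ext.Fixed.Parity

/-!
# The derived part of the cover avoids `a`: then `a` is central
-/

set_option autoImplicit false
set_option Elab.async false
set_option maxRecDepth 100000
set_option linter.style.haveILetI false
set_option linter.unusedSectionVars false

namespace Cfsg.Lib.FiTwo

open Subgroup Cfsg.Lib.USixType

universe u v

variable {G : Type u} [Group G] [Finite G] {P : Type v} [Group P] {z a : G} {J E : Subgroup G}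

namespace Setting

variable (S : Setting z a J E P)
include S

theorem z_comm : ∃ p ∈ J, ∃ q ∈ J, p * q * p⁻¹ * q⁻¹ = z := by
  by_contra h
  push Not at h
  have := S.abelian_le J le_rfl fun p hp q hq =>
    mul_inv_eq_iff_eq_mul.1 (mul_inv_eq_one.1 ((S.comm hp hq).resolve_right (h p hp q hq)))
  rw [S.cardJ] at this
  omega

theorem big_comm {Q₁ : Subgroup G} (h : Q₁ ≤ J) (hc : Nat.card ↥J ≤ 2 * Nat.card ↥Q₁) :
    ∃ p ∈ Q₁, ∃ q ∈ Q₁, p * q * p⁻¹ * q⁻¹ = z := by
  by_contra hno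
  push Not at hno
  have := S.abelian_le Q₁ h fun p hp q hq =>
    mul_inv_eq_iff_eq_mul.1 (mul_inv_eq_one.1 ((S.comm (h hp) (h hq)).resolve_right (hno p hp q hq)))
  rw [S.cardJ] at hc
  omega

/-- In a normal subgroup supplementing `a` on the core the core is self-centralising. -/
theorem mem_J_of_part {M : Subgroup G} [M.Normal] (hJM : ∀ q ∈ J, q ∈ M ∨ a * q ∈ M) {h : G}
    (hz : Commute h z) (hcent : ∀ q ∈ J, q ∈ M → Commute h q) : h ∈ J := by
  refine (S.fz_eq_one hz).1 (MulEquiv.ext fun p => conj_injective S.iso.some ?_)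
  obtain ⟨i, hiz, hi⟩ := S.fz_surj (MulAut.conj p)
  have hiI : i ∈ S.inner := (S.fz_inner hiz).1 (hi ▸ ⟨p, rfl⟩)
  have hk : h * i * h⁻¹ * i⁻¹ ∈ S.inner := mul_mem (S.conj_inner hz hiI) (inv_mem hiI)
  have hkz : Commute (h * i * h⁻¹ * i⁻¹) z := S.inner_comm hk
  have hall : ∀ q ∈ J, Commute (h * i * h⁻¹ * i⁻¹) q := by
    have hM : ∀ q ∈ J, q ∈ M → Commute (h * i * h⁻¹ * i⁻¹) q := fun q hq hqM => by
      have hq' : i⁻¹ * q * i⁻¹⁻¹ ∈ J := S.conj_J hiz.inv_left hq
      have hqM' : i⁻¹ * q * i⁻¹⁻¹ ∈ M := Subgroup.Normal.conj_mem inferInstance q hqM _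
      have c1 : h⁻¹ * (i⁻¹ * q * i⁻¹⁻¹) * h⁻¹⁻¹ = i⁻¹ * q * i⁻¹⁻¹ := by
        rw [(hcent _ hq' hqM').inv_left.eq, mul_inv_cancel_right]
      refine mul_inv_eq_iff_eq_mul.1 ?_
      calc h * i * h⁻¹ * i⁻¹ * q * (h * i * h⁻¹ * i⁻¹)⁻¹
          = h * (i * (h⁻¹ * (i⁻¹ * q * i⁻¹⁻¹) * h⁻¹⁻¹) * i⁻¹) * h⁻¹ := by group
        _ = h * q * h⁻¹ := by rw [c1]; group
        _ = q := by rw [(hcent q hq hqM).eq, mul_inv_cancel_right]
    intro q hq
    rcases hJM q hq with h' | h'
    · exact hM q hq h'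
    · have := (S.inner_a hk).mul_right (hM _ (mul_mem S.memA hq) h')
      rwa [← mul_assoc, S.sqa, one_mul] at this
  have hkJ : h * i * h⁻¹ * i⁻¹ ∈ J := S.self _ (memC hkz) fun q hq => (hall q hq).eq
  rw [← S.fz_eq_one hkz, S.fz_mul ((hz.mul_left hiz).mul_left hz.inv_left) hiz.inv_left,
    S.fz_mul (hz.mul_left hiz) hz.inv_left, S.fz_mul hz hiz, S.fz_inv hz, S.fz_inv hiz, mul_inv_eq_one, hi] at hkJ
  rw [MulAut.one_apply, show MulAut.conj (S.fz h p) = S.fz h * MulAut.conj p * (S.fz h)⁻¹ from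
    MulEquiv.ext fun q => by simp [MulAut.conj_apply], hkJ]

end Setting

namespace Cover

variable {S : Setting z a J E P} (C : Cover S)
include C

set_option maxHeartbeats 1000000 in
/-- A normal subgroup of the whole group avoiding `a`. -/
theorem exists_part (hn : S.NoFix) (ha : a ∉ C.L) : ∃ M : Subgroup G, M.Normal ∧ a ∉ M ∧ z ∈ M ∧
    (∀ x y : G, x * y * x⁻¹ * y⁻¹ ∈ M) ∧ (∀ i ∈ S.inner, i ∈ M ∨ a * i ∈ M) := by
  classical
  set N : Subgroup G := ⁅S.inner, S.inner⁆ with hN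
  have hNI : N ≤ S.inner := Subgroup.commutator_le.2 fun x hx y hy => by
    rw [commutatorElement_def]
    exact mul_mem (mul_mem (mul_mem hx hy) (inv_mem hx)) (inv_mem hy)
  have hNL : N ≤ C.L := Subgroup.commutator_mono C.inner_le C.inner_le
  have haN : a ∉ N := fun h => ha (hNL h)
  have hcN : ∀ {x y}, x ∈ S.inner → y ∈ S.inner → x * y * x⁻¹ * y⁻¹ ∈ N := fun {x y} hx hy => by
    rw [← commutatorElement_def]
    exact Subgroup.commutator_mem_commutator hx hy
  have hzN : z ∈ N := by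
    obtain ⟨p, hp, q, hq, e⟩ := S.z_comm
    rw [← e]
    exact hcN (S.J_le_inner hp) (S.J_le_inner hq)
  let N2 : Subgroup G :=
    { carrier := {x | x ∈ S.inner ∧ (x ∈ N ∨ a * x ∈ N)}
      one_mem' := ⟨one_mem _, Or.inl (one_mem N)⟩
      mul_mem' := fun {x y} hx hy => ⟨mul_mem hx.1 hy.1, by
        have cx := S.inner_a hx.1
        rcases hx.2 with h1 | h1 <;> rcases hy.2 with h2 | h2
        · exact Or.inl (mul_mem h1 h2)
        · refine Or.inr ?_
          rw [← mul_assoc, ← cx.eq, mul_assoc]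
          exact mul_mem h1 h2
        · refine Or.inr ?_
          rw [← mul_assoc]
          exact mul_mem h1 h2
        · refine Or.inl ?_
          have := mul_mem h1 h2
          rwa [show a * x * (a * y) = a * (x * a) * y by group, cx.eq, ← mul_assoc a a x, S.sqa, one_mul] at this⟩
      inv_mem' := fun {x} hx => ⟨inv_mem hx.1, hx.2.imp inv_mem fun h => by
        have := inv_mem h
        rwa [mul_inv_rev, S.a_inv, (S.inner_a hx.1).inv_left.eq] at this⟩ }
  have hsplit : ∀ i ∈ S.inner, i ∈ N ∨ a * i ∈ N := fun i hi =>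
    (S.inner_gen hn N2 ⟨S.J_le_inner S.memA, Or.inr (by rw [S.sqa]; exact one_mem N)⟩
      (fun x hx y hy => ⟨hNI (hcN hx hy), Or.inl (hcN hx hy)⟩) hi).2
  set H := centralizer ({z} : Set G) with hH
  let N' : Subgroup ↥H := N.subgroupOf H
  haveI hN'n : N'.Normal := ⟨fun x hx g => by
    show (g : G) * (x : G) * (g : G)⁻¹ ∈ N
    have hmap : N.map (MulAut.conj (g : G)).toMonoidHom ≤ N := by
      rw [hN, Subgroup.map_commutator]
      refine Subgroup.commutator_mono ?_ ?_ <;>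
      · rintro _ ⟨i, hi, rfl⟩
        exact S.conj_inner (S.comm_z g.2) hi
    exact hmap ⟨x, hx, rfl⟩⟩
  have haH : a ∈ H := Setting.memC S.comAz
  obtain ⟨t, ht⟩ : ∃ t : ↥H, ∀ h : ↥H, (h : G) ∉ S.inner → (t⁻¹ * h : ↥H).1 ∈ S.inner := by
    by_cases hex : ∃ t : ↥H, (t : G) ∉ S.inner
    · obtain ⟨t, ht⟩ := hex
      exact ⟨t, fun h hh => S.two (S.comm_z t.2).inv_left (S.comm_z h.2) (fun e => ht (inv_mem_iff.1 e)) hh⟩
    · push Not at hex
      exact ⟨1, fun h hh => absurd (hex h) hh⟩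
  let aH : ↥H := ⟨a, haH⟩
  have hrep : ∀ h : ↥H, ∃ b : ↥H, (b = 1 ∨ b = aH ∨ b = t ∨ b = t * aH) ∧
      (QuotientGroup.mk b : ↥H ⧸ N') = QuotientGroup.mk h := fun h => by
    have aux : ∀ i : ↥H, (i : G) ∈ S.inner → ∃ b : ↥H, (b = 1 ∨ b = aH) ∧
        (QuotientGroup.mk b : ↥H ⧸ N') = QuotientGroup.mk i := fun i hi => by
      rcases hsplit i hi with e | e
      · exact ⟨1, Or.inl rfl, by rw [QuotientGroup.eq, inv_one, one_mul]; exact e⟩
      · refine ⟨aH, Or.inr rfl, ?_⟩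
        rw [QuotientGroup.eq]
        show a⁻¹ * (i : G) ∈ N
        rwa [S.a_inv]
    by_cases hh : (h : G) ∈ S.inner
    · obtain ⟨b, hb, e⟩ := aux h hh
      exact ⟨b, hb.elim Or.inl fun e' => Or.inr (Or.inl e'), e⟩
    · obtain ⟨b, hb, e⟩ := aux _ (ht h hh)
      refine ⟨t * b, ?_, ?_⟩
      · rcases hb with rfl | rfl
        · exact Or.inr (Or.inr (Or.inl (mul_one t)))
        · exact Or.inr (Or.inr (Or.inr rfl))
      · rw [QuotientGroup.mk_mul, e, ← QuotientGroup.mk_mul, mul_inv_cancel_left]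
  have hat : Commute (QuotientGroup.mk aH : ↥H ⧸ N') (QuotientGroup.mk t) := by
    show _ * _ = _ * _
    rw [← QuotientGroup.mk_mul, ← QuotientGroup.mk_mul, QuotientGroup.eq]
    show (a * (t : G))⁻¹ * ((t : G) * a) ∈ N
    rw [show (a * (t : G))⁻¹ * ((t : G) * a) = ((t : G)⁻¹ * a⁻¹ * (t : G)⁻¹⁻¹) * a by group, S.a_inv]
    rcases S.conj_a (S.comm_z t.2).inv_left with e | e <;> rw [e]
    · rw [S.sqa]; exact one_mem N
    · rw [show a * z * a = a * (z * a) by group, S.comAz.eq.symm, ← mul_assoc, S.sqa, one_mul]; exact hzN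
  letI : CommGroup (↥H ⧸ N') :=
    { (inferInstance : Group (↥H ⧸ N')) with
      mul_comm := fun p q => by
        obtain ⟨x, rfl⟩ := QuotientGroup.mk_surjective p
        obtain ⟨y, rfl⟩ := QuotientGroup.mk_surjective q
        obtain ⟨b, hb, e⟩ := hrep x
        obtain ⟨d, hd, e'⟩ := hrep y
        rw [← e, ← e']
        show Commute (QuotientGroup.mk b : ↥H ⧸ N') (QuotientGroup.mk d)
        have ca : Commute (QuotientGroup.mk aH : ↥H ⧸ N') (QuotientGroup.mk t * QuotientGroup.mk aH) :=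
          hat.mul_right (Commute.refl _)
        have ct : Commute (QuotientGroup.mk t : ↥H ⧸ N') (QuotientGroup.mk t * QuotientGroup.mk aH) :=
          (Commute.refl _).mul_right hat.symm
        rcases hb with rfl | rfl | rfl | rfl <;> rcases hd with rfl | rfl | rfl | rfl <;>
          (try simp only [QuotientGroup.mk_one, QuotientGroup.mk_mul]) <;>
          first | exact rfl | exact Commute.one_left _ | exact Commute.one_right _ | exact Commute.refl _ | exact hat |
            exact hat.symm | exact ca | exact ca.symm | exact ct | exact ct.symm }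
  let lam : ↥H →* ↥H ⧸ N' := QuotientGroup.mk' N'
  have hval : MonoidHom.transfer lam a = lam ⟨a, haH⟩ := by
    refine Ext.transfer_eq_value hH lam J S.le (IsPGroup.of_card (n := 10) S.cardJ) (fun q hq => S.commA hq) haH
      S.z_sq (Or.inl S.sqa) (fun Q₁ h1 h2 => S.big_comm h1 h2) fun g hg hq => ?_
    rcases S.cent (hq z S.memJ) hq with e | e | e | e
    · exact absurd (conj_eq_one_iff.1 e) S.z_ne
    · exact Or.inl e
    · exact Or.inr (Or.inl e)
    · exact Or.inr (Or.inr e)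
  set τ := MonoidHom.transfer lam
  have hcomm : ∀ x y : G, x * y * x⁻¹ * y⁻¹ ∈ τ.ker := fun x y => by
    rw [MonoidHom.mem_ker, map_mul, map_mul, map_mul, map_inv, map_inv, mul_comm (τ x), mul_assoc (τ y),
      mul_inv_cancel, mul_one, mul_inv_cancel]
  have hNM : N ≤ τ.ker := Subgroup.commutator_le.2 fun x _ y _ => by
    rw [commutatorElement_def]; exact hcomm x y
  refine ⟨τ.ker, MonoidHom.normal_ker _, fun h => haN ?_, hNM hzN, hcomm,
    fun i hi => (hsplit i hi).imp (fun e => hNM e) fun e => hNM e⟩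
  exact (QuotientGroup.eq_one_iff (⟨a, haH⟩ : ↥H)).1 (hval.symm.trans h)

set_option maxHeartbeats 1000000 in
/-- When the derived part of the cover avoids `a`, this is central. -/
theorem central_of_split (hia : ¬ Iso z a) (ha : a ∉ C.L) : ∀ g : G, Commute g a := by
  classical
  have hn := S.noFix_of_witness hia
  obtain ⟨M, hMn, haM, hzM, hcomm, hsplit⟩ := C.exists_part hn ha
  haveI := hMn
  have hJM : ∀ q ∈ J, q ∈ M ∨ a * q ∈ M := fun q hq => hsplit q (S.J_le_inner hq)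
  have hazM : a * z ∉ M := fun e => haM (by
    have := mul_mem e hzM
    rwa [mul_assoc, S.z_sq, mul_one] at this)
  have hVM : ∀ {v}, InV z a v → v ∈ M → v = 1 ∨ v = z := fun hv hvM => by
    rcases hv with e | e | e | e
    · exact Or.inl e
    · exact Or.inr e
    · exact absurd (e ▸ hvM) haM
    · exact absurd (e ▸ hvM) hazM
  let zM : ↥M := ⟨z, hzM⟩
  let JM : Subgroup ↥M := J.subgroupOf M
  let CM := centralizer ({zM} : Set ↥M)
  have hCM : ∀ h : ↥CM, Commute ((h : ↥M) : G) z := fun h =>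
    congrArg Subtype.val (mem_centralizer_singleton_iff.1 h.2)
  let eJ : ↥JM ≃* ↥S.JQ := MulEquiv.ofBijective
    ({ toFun := fun q => ⟨bar a ((q : ↥M) : G), S.bar_mem q.2⟩
       map_one' := Subtype.ext (bar_one a)
       map_mul' := fun p q => Subtype.ext (bar_mul (S.commA p.2) (S.commA q.2)) } : ↥JM →* ↥S.JQ)
    ⟨fun p q e => by
      rcases (bar_eq S.sqa (S.commA p.2) (S.commA q.2)).1 (congrArg Subtype.val e) with h | h
      · exact Subtype.ext (Subtype.ext h.symm)
      · exfalso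
        refine haM ?_
        have h' : ((q : ↥M) : G) = ((p : ↥M) : G) * a := h
        rw [show a = ((p : ↥M) : G)⁻¹ * ((q : ↥M) : G) by rw [h', inv_mul_cancel_left]]
        exact mul_mem (inv_mem p.1.2) q.1.2,
    fun c => by
      obtain ⟨q, hq, e⟩ := S.exists_bar c.2
      rcases hJM q hq with h | h
      · exact ⟨⟨⟨q, h⟩, hq⟩, Subtype.ext e⟩
      · exact ⟨⟨⟨a * q, h⟩, mul_mem S.memA hq⟩, Subtype.ext (by
          show bar a (a * q) = _
          rw [bar_mul (Commute.refl a) (S.commA hq), S.bar_a, one_mul, e])⟩⟩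
  let F : ↥CM →* MulAut P :=
    { toFun := fun h => S.fz ((h : ↥M) : G)
      map_one' := (S.fz_eq_one (Commute.one_left z)).2 (one_mem J)
      map_mul' := fun p q => S.fz_mul (hCM p) (hCM q) }
  have hlift : ∀ i ∈ S.inner, ∃ h : ↥CM, S.fz ((h : ↥M) : G) = S.fz i ∧
      (((h : ↥M) : G) = i ∨ ((h : ↥M) : G) = a * i) := fun i hi => by
    have hiz := S.inner_comm hi
    rcases hsplit i hi with h | h
    · exact ⟨⟨⟨i, h⟩, mem_centralizer_singleton_iff.2 (Subtype.ext hiz.eq)⟩, rfl, Or.inl rfl⟩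
    · refine ⟨⟨⟨a * i, h⟩, mem_centralizer_singleton_iff.2 (Subtype.ext (S.comAz.mul_left hiz).eq)⟩, ?_, Or.inr rfl⟩
      show S.fz (a * i) = _
      rw [S.fz_mul S.comAz hiz, (S.fz_eq_one S.comAz).2 S.memA, one_mul]
  have hwM : ∃ g : ↥M, Commute (g * zM * g⁻¹) zM ∧ g * zM * g⁻¹ ≠ zM := by
    by_contra hno
    push Not at hno
    refine hia fun g _ hc => ?_
    set y := g * z * g⁻¹
    have hy2 : y * y = 1 := conj_sq S.z_sq g
    have hyM : y ∈ M := Subgroup.Normal.conj_mem inferInstance z hzM g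
    let yM : ↥M := ⟨y, hyM⟩
    have hiso : Cfsg.IsIsolatedInvolution yM := by
      refine ⟨orderOf_eq_prime (by rw [pow_two]; exact Subtype.ext hy2) (fun e => S.z_ne
        (conj_eq_one_iff.1 (congrArg Subtype.val e))), fun m hm => Subtype.ext ?_⟩
      have hmem : g⁻¹ * (m : G) * g⁻¹⁻¹ ∈ M := Subgroup.Normal.conj_mem inferInstance _ m.2 _
      have e : (m : G) * y * (m : G)⁻¹ = g * ((g⁻¹ * (m : G) * g⁻¹⁻¹) * z * (g⁻¹ * (m : G) * g⁻¹⁻¹)⁻¹) * g⁻¹ := by
        show (m : G) * (g * z * g⁻¹) * (m : G)⁻¹ = _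
        group
      have h1 : Commute ((m : G) * y * (m : G)⁻¹) y := (congrArg Subtype.val hm : _).symm
      have h2 : Commute ((⟨_, hmem⟩ : ↥M) * zM * (⟨_, hmem⟩ : ↥M)⁻¹) zM := by
        refine Subtype.ext ?_
        have h3 := h1.map (MulAut.conj g⁻¹).toMonoidHom
        rw [e] at h3
        simp only [y, MulEquiv.coe_toMonoidHom, MulAut.conj_apply, inv_inv] at h3
        have h4 := h3.eq
        simp only [mul_assoc, inv_mul_cancel_left, inv_mul_cancel, mul_one] at h4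
        simp only [Subgroup.coe_mul, Subgroup.coe_inv, zM, inv_inv, mul_assoc] at h4 ⊢
        exact h4
      have := congrArg Subtype.val (hno _ h2)
      show (m : G) * y * (m : G)⁻¹ = y
      rw [e]
      show g * _ * g⁻¹ = g * z * g⁻¹
      exact congrArg (fun v => g * v * g⁻¹) this
    have hyc : ∀ q ∈ J, q ∈ M → Commute y q := fun q hq hqM => by
      have h := Cfsg.Lib.ZStarApps.zstarProp hiso ⟨q, hqM⟩
      set r := yM * (⟨q, hqM⟩ : ↥M) * yM⁻¹ * (⟨q, hqM⟩ : ↥M)⁻¹
      have hrJ : (r : G) ∈ J := mul_mem (S.conj_J hc hq) (inv_mem hq)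
      have hodd : Odd (orderOf (r : G)) := by
        rw [show orderOf (r : G) = orderOf (⟨r, h⟩ : ↥(Cfsg.pPrimeCore 2 ↥M)) from
          (orderOf_injective M.subtype M.subtype_injective r).trans
            (orderOf_injective (Cfsg.pPrimeCore 2 ↥M).subtype (Subgroup.subtype_injective _) ⟨r, h⟩)]
        exact (Cfsg.Lib.ZStarApps.odd_card_pPrimeCore (G := ↥M)).of_dvd_nat (orderOf_dvd_natCard _)
      have h1 : (r : G) = 1 := orderOf_eq_one_iff.1 (Nat.eq_one_of_dvd_coprimes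
        ((Nat.coprime_two_right.2 hodd).pow_right 2) dvd_rfl (orderOf_dvd_of_pow_eq_one (S.pow_four hrJ)))
      exact mul_inv_eq_iff_eq_mul.1 (mul_inv_eq_one.1 h1)
    have hyJ := S.mem_J_of_part hJM hc hyc
    have hall : ∀ q ∈ J, Commute y q := fun q hq => by
      rcases hJM q hq with h | h
      · exact hyc q hq h
      · have := (S.commA hyJ).mul_right (hyc _ (mul_mem S.memA hq) h)
        rwa [← mul_assoc, S.sqa, one_mul] at this
    exact (hVM (S.cent hc hall) hyM).resolve_left fun e => S.z_ne (conj_eq_one_iff.1 e)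
  have hordM : orderOf zM = 2 := by rw [← orderOf_injective M.subtype M.subtype_injective]; exact S.order
  have hnormM : centralizer ({zM} : Set ↥M) ≤ normalizer (JM : Set ↥M) := fun h hh =>
    Cfsg.Lib.ZStarApps.mem_normalizer_of_maps fun q hq => S.conj_J (hCM ⟨h, hh⟩) hq
  have hselfM : ∀ g ∈ centralizer ({zM} : Set ↥M), (∀ q ∈ JM, g * q = q * g) → g ∈ JM := fun g hg h =>
    S.mem_J_of_part hJM (hCM ⟨g, hg⟩) fun q hq hqM => congrArg Subtype.val (h ⟨q, hqM⟩ hq)
  obtain ⟨M₀, hM0c, ⟨eW⟩, hcases⟩ := recognise (Q := ↥M) (J := JM) S.iso S.autCard hordM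
    (fun q hq => mem_centralizer_singleton_iff.2 (Subtype.ext (S.commJ hq).eq)) hnormM
    (Ext.extraspecial_congr eJ.symm S.JQ_extra) (by rw [Nat.card_congr eJ.toEquiv, S.JQ_card]) S.memJ hselfM F
    (fun h => S.fz_eq_one (hCM h))
    (fun y hy => by
      obtain ⟨i, hiz, hi⟩ := S.fz_surj y
      obtain ⟨h, e, -⟩ := hlift i ((S.fz_inner hiz).1 (hi ▸ hy))
      exact ⟨h, e.trans hi⟩)
    (fun q hq h => by
      have hqV : InV z a (q : G) := hn _ hq fun i hi => by
        obtain ⟨k, ek, hk⟩ := hlift i hi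
        have h1 := h k (by
          show S.fz _ ∈ _
          rw [ek, S.fz_inner (S.inner_comm hi)]
          exact hi)
        have h2 : ((k : ↥M) : G) * q * ((k : ↥M) : G)⁻¹ * (q : G)⁻¹ = i * q * i⁻¹ * (q : G)⁻¹ := by
          rcases hk with e | e <;> rw [e]
          rw [show a * i * q * (a * i)⁻¹ * (q : G)⁻¹ = a * (i * q * i⁻¹) * a⁻¹ * (q : G)⁻¹ by group,
            (S.comA (i * (q : G) * i⁻¹) (S.conj_J (S.inner_comm hi) hq)).eq, mul_inv_cancel_right]
        rcases Ext.eq_one_or_of_zpowers (Subtype.ext S.z_sq : zM * zM = 1) h1 with e | e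
        · exact Or.inl (h2.symm.trans (congrArg Subtype.val e))
        · exact Or.inr (Or.inl (h2.symm.trans (congrArg Subtype.val e)))
      rcases hVM hqV q.2 with e | e
      · rw [show q = 1 from Subtype.ext e]; exact one_mem _
      · rw [show q = zM from Subtype.ext e]; exact mem_zpowers _)
    hwM
  have hidx : M₀.index ≤ 2 := by
    rcases hcases with ⟨-, h⟩ | ⟨h, -⟩
    · rw [h, Subgroup.index_top]; norm_num
    · exact h.le
  let M1 : Subgroup G := M₀.map M.subtype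
  have hcM1 : ∀ x ∈ M, ∀ y ∈ M, x * y * x⁻¹ * y⁻¹ ∈ M1 := fun x hx y hy =>
    ⟨(⟨x, hx⟩ : ↥M) * ⟨y, hy⟩ * (⟨x, hx⟩ : ↥M)⁻¹ * (⟨y, hy⟩ : ↥M)⁻¹, comm_mem_of_index_le hidx _ _, rfl⟩
  have hLM : C.L ≤ M := C.L_le_of_comm fun x _ y _ => hcomm x y
  have hLM1 : C.L ≤ M1 := C.L_le_of_comm fun x hx y hy => hcM1 x (hLM hx) y (hLM hy)
  have hLcard : Nat.card ↥C.K0 ≤ 2 * Nat.card ↥C.L := by
    let f : Bool × ↥C.L → ↥C.K0 := fun p => if p.1 then ⟨a * p.2.1, mul_mem C.memA (C.L_le p.2.2)⟩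
      else ⟨p.2.1, C.L_le p.2.2⟩
    have hf : Function.Surjective f := fun k => by
      rcases C.L_gen k.2 with h | h
      · exact ⟨(false, ⟨_, h⟩), rfl⟩
      · exact ⟨(true, ⟨_, h⟩), Subtype.ext (by show a * (a * (k : G)) = k; rw [← mul_assoc, S.sqa, one_mul])⟩
    have := Nat.card_le_card_of_surjective f hf
    rwa [Nat.card_prod, show Nat.card Bool = 2 by simp] at this
  have hL1 : C.L = M1 := Subgroup.eq_of_le_of_card_ge hLM1 (by
    rw [Subgroup.card_map_of_injective M.subtype_injective, Nat.card_congr eW.toEquiv, card_W]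
    have := hLcard
    rw [C.card_K0] at this
    omega)
  have hLn : ∀ g : G, ∀ l ∈ C.L, g * l * g⁻¹ ∈ C.L := fun g l hl => by
    have h := C.L_le_of_comm (N := M1.comap (MulAut.conj g).toMonoidHom) (fun x hx y hy => by
      show g * (x * y * x⁻¹ * y⁻¹) * g⁻¹ ∈ M1
      rw [show g * (x * y * x⁻¹ * y⁻¹) * g⁻¹ =
        (g * x * g⁻¹) * (g * y * g⁻¹) * (g * x * g⁻¹)⁻¹ * (g * y * g⁻¹)⁻¹ by group]
      exact hcM1 _ (Subgroup.Normal.conj_mem inferInstance _ (hLM hx) g) _
        (Subgroup.Normal.conj_mem inferInstance _ (hLM hy) g)) hl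
    rw [hL1]
    exact h
  set Z := centralizer (C.L : Set G)
  have hZa : a ∈ Z := mem_centralizer_iff.2 fun l hl => (C.cent l (C.L_le hl)).eq
  have hZn : ∀ g : G, ∀ c ∈ Z, g * c * g⁻¹ ∈ Z := fun g c hc => mem_centralizer_iff.2 fun l hl => by
    have h1 : Commute (g⁻¹ * l * g⁻¹⁻¹) c := mem_centralizer_iff.1 hc _ (hLn g⁻¹ l hl)
    have h2 := h1.map (MulAut.conj g).toMonoidHom
    simpa [mul_assoc] using h2.eq
  have hZM : ∀ x ∈ Z, x ∈ M → x = 1 := fun x hx hxM => by
    have h : (⟨x, hxM⟩ : ↥M) ∈ centralizer (M₀ : Set ↥M) := mem_centralizer_iff.2 fun m hm => Subtype.ext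
      (mem_centralizer_iff.1 hx (m : G) (hL1.symm ▸ ⟨m, hm, rfl⟩))
    rw [hM0c, Subgroup.mem_bot] at h
    exact congrArg Subtype.val h
  intro g
  set c := g * a * g⁻¹ with hc
  have hcZ : c ∈ Z := hZn g a hZa
  have hcM : ∀ m ∈ M, Commute c m := fun m hm => by
    refine mul_inv_eq_iff_eq_mul.1 (mul_inv_eq_one.1 (hZM _ ?_ ?_))
    · rw [show c * m * c⁻¹ * m⁻¹ = c * (m * c⁻¹ * m⁻¹) by group]
      exact mul_mem hcZ (hZn m _ (inv_mem hcZ))
    · exact mul_mem (Subgroup.Normal.conj_mem inferInstance m hm c) (inv_mem hm)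
  have hcz : Commute c z := hcM z hzM
  have hca : Commute c a := by
    rcases S.conj_a hcz with e | e
    · exact mul_inv_eq_iff_eq_mul.1 e
    · exfalso
      have h1 : a * z ∈ Z := e ▸ mul_mem (mul_mem hcZ hZa) (inv_mem hcZ)
      have h2 := mul_mem hZa h1
      rw [← mul_assoc, S.sqa, one_mul] at h2
      exact S.z_ne (hZM z h2 hzM)
  have hcJ : ∀ q ∈ J, Commute c q := fun q hq => by
    rcases hJM q hq with h | h
    · exact hcM q h
    · have := hca.mul_right (hcM _ h)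
      rwa [← mul_assoc, S.sqa, one_mul] at this
  have hca' : c = a := by
    rcases S.cent hcz hcJ with e | e | e | e
    · exact absurd (conj_eq_one_iff.1 e) S.a_ne
    · exact absurd (hZM z (e ▸ hcZ) hzM) S.z_ne
    · exact e
    · exfalso
      have h2 := mul_mem hZa (e ▸ hcZ : a * z ∈ Z)
      rw [← mul_assoc, S.sqa, one_mul] at h2
      exact S.z_ne (hZM z h2 hzM)
  exact mul_inv_eq_iff_eq_mul.1 hca'

end Cover

end Cfsg.Lib.FiTwo
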