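import Cfsg.Agent.FiTwoCentral.Quot

/-!
# Coordinates on the centraliser of both involutions, without a fixed vector
-/

set_option autoImplicit false
set_option Elab.async false
set_option maxRecDepth 100000
set_option linter.style.haveILetI false
set_option linter.unusedSectionVars false

namespace Cfsg.Lib.FiTwo

open Subgroup Cfsg.Lib.USixType

universe u v

variable {G : Type u} [Group G] {P : Type v} [Group P]

/-- Coordinates: the core as a fourfold cover of the vectors. -/
structure NC (z a : G) (J : Subgroup G) where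
  /-- The vector of an element of the core. -/
  β : G → Vt
  /-- The map of an element of both centralisers. -/
  π : G → Equiv.Perm Vt
  β_mul : ∀ p ∈ J, ∀ q ∈ J, β (p * q) = β p + β q
  β_surj : ∀ v, ∃ q ∈ J, β q = v
  β_ker : ∀ q ∈ J, β q = 0 ↔ InV z a q
  sq : ∀ q ∈ J, q * q = zp z (Q (β q))
  comm : ∀ p ∈ J, ∀ q ∈ J, p * q * p⁻¹ * q⁻¹ = zp z (B (β p) (β q))
  π_mem : ∀ h, Commute h z → Commute h a → π h ∈ U ∨ Ext.Semi (π h)
  π_semi : ∀ h k, Commute h z → Commute h a → Commute k z → Commute k a → π h ∉ U → π k ∉ U → π (h * k) ∈ U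
  π_mul : ∀ h k, Commute h z → Commute h a → Commute k z → Commute k a → π (h * k) = π h * π k
  π_ker : ∀ h, Commute h z → Commute h a → (π h = 1 ↔ h ∈ J)
  π_surj : ∀ g ∈ U, ∃ h, Commute h z ∧ Commute h a ∧ π h = g
  equiv : ∀ h, Commute h z → Commute h a → ∀ q ∈ J, β (h * q * h⁻¹) = π h (β q)

namespace Setting

variable {z a : G} {J E : Subgroup G} (S : Setting z a J E P)
include S

/-- Either everything commutes with `a`, or exactly the inner part does. -/
theorem two_cases [Finite G] : (∀ h, Commute h z → Commute h a) ∨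
    ((∃ t, Commute t z ∧ ¬ Commute t a) ∧ ∀ h, Commute h z → Commute h a → h ∈ S.inner) := by
  by_cases hc : ∀ h, Commute h z → Commute h a
  · exact Or.inl hc
  push Not at hc
  obtain ⟨t, htz, hta⟩ := hc
  refine Or.inr ⟨⟨t, htz, hta⟩, fun h hz ha => by_contra fun hn => hta ?_⟩
  have h1 := S.inner_a (S.two htz hz (fun e => hta (S.inner_a e)) hn)
  have := h1.mul_left ha.inv_left
  rwa [mul_inv_cancel_right] at this

theorem zp_bar (b : Bool) : bar a (zp z b) = zp (bar a z) b := by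
  cases b
  · exact bar_one a
  · rfl

theorem eq_zp [Finite G] {w : G} (hw : w = 1 ∨ w = z) {b : Bool} (e : bar a w = zp (bar a z) b) : w = zp z b := by
  rcases hw with rfl | rfl <;> cases b <;> simp only [zp, if_true, Bool.false_eq_true, if_false] at e ⊢
  · exact absurd ((bar_one a).symm.trans e) S.bar_z_ne.symm
  · exact absurd e S.bar_z_ne

/-- Coordinates from coordinates below. -/
theorem nc_of [Finite G] (β : KQ a → Vt) (π : KQ a → Equiv.Perm Vt)
    (β_mul : ∀ p ∈ S.JQ, ∀ q ∈ S.JQ, β (p * q) = β p + β q)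
    (β_surj : ∀ v, ∃ q ∈ S.JQ, β q = v)
    (β_ker : ∀ q ∈ S.JQ, β q = 0 ↔ q = 1 ∨ q = bar a z)
    (sq : ∀ q ∈ S.JQ, q * q = zp (bar a z) (Q (β q)))
    (comm : ∀ p ∈ S.JQ, ∀ q ∈ S.JQ, p * q * p⁻¹ * q⁻¹ = zp (bar a z) (B (β p) (β q)))
    (π_mem : ∀ h, Commute h (bar a z) → π h ∈ U ∨ Ext.Semi (π h))
    (π_semi : ∀ h k, Commute h (bar a z) → Commute k (bar a z) → π h ∉ U → π k ∉ U → π (h * k) ∈ U)
    (π_mul : ∀ h k, Commute h (bar a z) → Commute k (bar a z) → π (h * k) = π h * π k)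
    (π_ker : ∀ h, Commute h (bar a z) → (π h = 1 ↔ h ∈ S.JQ))
    (π_surj : ∀ g ∈ U, ∃ h, Commute h (bar a z) ∧ π h = g)
    (equiv : ∀ h, Commute h (bar a z) → ∀ q ∈ S.JQ, β (h * q * h⁻¹) = π h (β q)) :
    Nonempty (NC z a J) := by
  have hC : ∀ {h : G}, Commute h z → Commute h a → Commute (bar a h) (bar a z) := fun hz ha =>
    (S.bar_commute ha).2 hz
  exact ⟨
    { β := fun q => β (bar a q)
      π := fun h => π (bar a h)
      β_mul := fun p hp q hq => by
        show β (bar a (p * q)) = _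
        rw [bar_mul (S.commA hp) (S.commA hq), β_mul _ (S.bar_mem hp) _ (S.bar_mem hq)]
      β_surj := fun v => by
        obtain ⟨c, hc, e⟩ := β_surj v
        obtain ⟨q, hq, rfl⟩ := S.exists_bar hc
        exact ⟨q, hq, e⟩
      β_ker := fun q hq => by
        show β (bar a q) = 0 ↔ _
        rw [β_ker _ (S.bar_mem hq), ← S.bar_zpowers, S.bar_zpowers_iff (S.commA hq)]
      sq := fun q hq => S.eq_zp (S.sq hq) (by rw [bar_mul (S.commA hq) (S.commA hq), sq _ (S.bar_mem hq)])
      comm := fun p hp q hq => S.eq_zp (S.comm hp hq)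
        (by rw [bar_comm (S.commA hp) (S.commA hq), comm _ (S.bar_mem hp) _ (S.bar_mem hq)])
      π_mem := fun h hz ha => π_mem _ (hC hz ha)
      π_semi := fun h k hz ha kz ka e e' => by
        show π (bar a (h * k)) ∈ U
        rw [bar_mul ha ka]
        exact π_semi _ _ (hC hz ha) (hC kz ka) e e'
      π_mul := fun h k hz ha kz ka => by
        show π (bar a (h * k)) = _
        rw [bar_mul ha ka]
        exact π_mul _ _ (hC hz ha) (hC kz ka)
      π_ker := fun h hz ha => (π_ker _ (hC hz ha)).trans ⟨S.mem_of_bar ha, S.bar_mem⟩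
      π_surj := fun g hg => by
        obtain ⟨c, hc, e⟩ := π_surj g hg
        obtain ⟨x, hxz, hxa, rfl⟩ := S.lift_cent (mem_centralizer_singleton_iff.2 hc.eq)
        exact ⟨x, hxz, hxa, e⟩
      equiv := fun h hz ha q hq => by
        show β (bar a (h * q * h⁻¹)) = _
        rw [bar_conj ha (S.commA hq)]
        exact equiv _ (hC hz ha) _ (S.bar_mem hq) }⟩

theorem fix_of_fix [Finite G] (hn : S.NoFix) {c : KQ a} (hc : c ∈ S.JQ)
    (h : ∀ i ∈ S.inner, bar a i * c * (bar a i)⁻¹ * c⁻¹ ∈ zpowers (bar a z)) : c ∈ zpowers (bar a z) := by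
  obtain ⟨q, hq, rfl⟩ := S.exists_bar hc
  refine (S.bar_zpowers_iff (S.commA hq)).2 (hn q hq fun i hi => ?_)
  have hia := S.inner_a hi
  have hqa := S.commA hq
  refine (S.bar_zpowers_iff (((hia.mul_left hqa).mul_left hia.inv_left).mul_left hqa.inv_left)).1 ?_
  rw [bar_comm hia hqa]
  exact h i hi

/-- The natural module when exactly the inner part centralises `a`. -/
theorem natSetting [Finite G] (hn : S.NoFix) (hA : ∀ h, Commute h z → Commute h a → h ∈ S.inner) :
    NatSetting (bar a z) S.JQ where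
  order := S.bar_z_order
  le := S.JQ_le
  norm := S.JQ_norm
  extra := S.JQ_extra
  card := S.JQ_card
  mem := S.bar_mem S.memJ
  self := S.JQ_self
  quot := fun F _ _ hF => by
    obtain ⟨e⟩ := S.iso
    obtain ⟨eF⟩ := Ext.equiv_psp hF
    let cr : P ≃* ↥(MulAut.conj : P →* MulAut P).range := MonoidHom.ofInjective (conj_injective e)
    have hr : ∀ c, S.fQ c ∈ (MulAut.conj : P →* MulAut P).range := fun c => by
      obtain ⟨x, hxz, hxa, hx⟩ := S.lift_cent c.2
      rw [show c = ⟨bar a x, S.bar_cent hxz hxa⟩ from Subtype.ext hx.symm, S.fQ_bar hxz hxa, S.fz_inner hxz]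
      exact hA x hxz hxa
    let g : ↥(centralizer ({bar a z} : Set (KQ a))) →* P := cr.symm.toMonoidHom.comp (S.fQ.codRestrict _ hr)
    refine ⟨(e.symm.trans eF).toMonoidHom.comp g, fun p => ?_, fun c => ?_⟩
    · obtain ⟨x, hxz, hx⟩ := S.fz_surj (MulAut.conj ((e.symm.trans eF).symm p))
      have hxa : Commute x a := S.inner_a ((S.fz_inner hxz).1 (hx ▸ ⟨_, rfl⟩))
      refine ⟨⟨bar a x, S.bar_cent hxz hxa⟩, ?_⟩
      have hg : g ⟨bar a x, S.bar_cent hxz hxa⟩ = (e.symm.trans eF).symm p :=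
        cr.symm_apply_eq.2 (Subtype.ext ((S.fQ_bar hxz hxa).trans hx))
      show (e.symm.trans eF) (g _) = p
      rw [hg, MulEquiv.apply_symm_apply]
    · show (e.symm.trans eF) (cr.symm ⟨S.fQ c, hr c⟩) = 1 ↔ _
      rw [MulEquiv.map_eq_one_iff, MulEquiv.map_eq_one_iff, Subtype.ext_iff]
      exact S.fQ_ker c
  nofix := fun c hc h => S.fix_of_fix hn hc fun i hi => h _ (S.bar_cent (S.inner_comm hi) (S.inner_a hi))

/-- The hypotheses below when everything centralises `a`. -/
noncomputable def outerSetting [Finite G] (hB : ∀ h, Commute h z → Commute h a) :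
    Ext.OuterSetting (bar a z) S.JQ P where
  order := S.bar_z_order
  le := S.JQ_le
  norm := S.JQ_norm
  extra := S.JQ_extra
  card := S.JQ_card
  mem := S.bar_mem S.memJ
  self := S.JQ_self
  iso := S.iso
  autCard := S.autCard
  f := S.fQ
  surj := fun g => by
    obtain ⟨x, hx, e⟩ := S.fz_surj g
    exact ⟨⟨bar a x, S.bar_cent hx (hB x hx)⟩, (S.fQ_bar hx (hB x hx)).trans e⟩
  ker := S.fQ_ker

theorem outer_noFix [Finite G] (hn : S.NoFix) (hB : ∀ h, Commute h z → Commute h a) : (S.outerSetting hB).NoFix := by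
  intro c hc h
  refine S.fix_of_fix hn hc fun i hi => h _ ⟨⟨bar a i, S.bar_cent (S.inner_comm hi) (S.inner_a hi)⟩, ?_, rfl⟩
  show S.fQ ⟨bar a i, S.bar_cent (S.inner_comm hi) (S.inner_a hi)⟩ ∈ (MulAut.conj : P →* MulAut P).range
  rw [S.fQ_bar (S.inner_comm hi) (S.inner_a hi), S.fz_inner (S.inner_comm hi)]
  exact hi

/-- Coordinates exist. -/
theorem exists_nc [Finite G] (hn : S.NoFix) : Nonempty (NC z a J) := by
  rcases S.two_cases with hB | ⟨-, hA⟩
  · obtain ⟨c⟩ := Ext.exists_ecoord (S.outerSetting hB) (S.outer_noFix hn hB)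
    exact S.nc_of c.β c.π c.β_mul c.β_surj c.β_ker c.sq c.comm c.π_mem c.π_semi c.π_mul c.π_ker c.π_surj c.equiv
  · obtain ⟨c⟩ := exists_coord (S.natSetting hn hA)
    exact S.nc_of c.β c.π c.β_mul c.β_surj c.β_ker c.sq c.comm (fun h hh => Or.inl (c.π_mem h hh))
      (fun h k hh _ e _ => absurd (c.π_mem h hh) e) c.π_mul c.π_ker c.π_surj c.equiv

end Setting

end Cfsg.Lib.FiTwo
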