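import Cfsg.Agent.FiTwoCentral.Coords
import Cfsg.Agent.FiTwoCentral.Small

/-!
# A fixed vector: the fixed part upstairs
-/

set_option autoImplicit false
set_option Elab.async false
set_option linter.style.haveILetI false
set_option linter.unusedSectionVars false

namespace Cfsg.Lib.FiTwo

open Subgroup Cfsg.Lib.USixType

universe u v w

variable {G : Type u} [Group G] [Finite G] {P : Type v} [Group P]

namespace Setting

variable {z a : G} {J E : Subgroup G}

theorem one_or_z_of_bar (S : Setting z a J E P) {w : G} (hw : w = 1 ∨ w = z) (e : bar a w = 1) : w = 1 :=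
  hw.resolve_right fun h => S.bar_z_ne (h ▸ e)

/-- A character of the inner part trivial on the core is trivial. -/
theorem inner_char (S : Setting z a J E P) {A : Type w} [CommGroup A] (χ : ↥S.inner →* A)
    (hJ : ∀ q : ↥S.inner, (q : G) ∈ J → χ q = 1) (i : ↥S.inner) : χ i = 1 := by
  obtain ⟨e⟩ := S.iso
  let cr : P ≃* ↥(MulAut.conj : P →* MulAut P).range := MonoidHom.ofInjective (conj_injective e)
  let g : ↥S.inner →* P := cr.symm.toMonoidHom.comp
    ((S.f.comp (Subgroup.inclusion S.inner_le_C)).codRestrict _ fun q => (S.mem_inner ⟨q, S.inner_le_C q.2⟩).1 q.2)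
  have hg : Function.Surjective g := fun p => by
    obtain ⟨x, hx⟩ := S.surj (MulAut.conj p)
    exact ⟨⟨x, (S.mem_inner x).2 ⟨p, hx.symm⟩⟩, cr.symm_apply_eq.2 (Subtype.ext hx)⟩
  have hle : g.ker ≤ χ.ker := fun q hq => hJ q ((S.ker ⟨q, S.inner_le_C q.2⟩).1
    (congrArg Subtype.val ((map_eq_one_iff cr.symm cr.symm.injective).1 hq)))
  let ψ : P →* A := g.liftOfSurjective hg ⟨χ, hle⟩
  have hψ : ∀ q, ψ (g q) = χ q := fun q => MonoidHom.liftOfRightInverse_comp_apply _ _ _ ⟨χ, hle⟩ q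
  haveI := isSimple e
  have htop : ψ.ker = ⊤ := (ψ.normal_ker.eq_bot_or_eq_top).resolve_left fun hb => by
    have h := (MonoidHom.ker_eq_bot_iff _).1 hb
      (show ψ (e ⟨tvP 0, tvP_mem 0⟩ * e ⟨tvP 1, tvP_mem 1⟩) = ψ (e ⟨tvP 1, tvP_mem 1⟩ * e ⟨tvP 0, tvP_mem 0⟩) by
        rw [map_mul, map_mul, mul_comm])
    rw [← map_mul, ← map_mul] at h
    have h2 := (USixType.commute_iff 0 1).1 (congrArg Subtype.val (e.injective h))
    revert h2
    decide +kernel
  rw [← hψ]
  exact MonoidHom.mem_ker.1 (htop ▸ Subgroup.mem_top _)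

/-- Centralising the core modulo the four central elements gives commutators with the inner part in `{1, z}`. -/
theorem inner_moves (S : Setting z a J E P) {q : G} (hq : q ∈ J)
    (h : ∀ i ∈ S.inner, InV z a (i * q * i⁻¹ * q⁻¹)) :
    ∀ i ∈ S.inner, i * q * i⁻¹ * q⁻¹ = 1 ∨ i * q * i⁻¹ * q⁻¹ = z := by
  classical
  set d : G → G := fun i => i * q * i⁻¹ * q⁻¹
  have hmul : ∀ i ∈ S.inner, ∀ j ∈ S.inner, d (i * j) = d j * d i := by
    intro i hi j hj
    show i * j * q * (i * j)⁻¹ * q⁻¹ = _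
    have e : i * j * q * (i * j)⁻¹ * q⁻¹ = (i * d j * i⁻¹) * d i := by
      show _ = i * (j * q * j⁻¹ * q⁻¹) * i⁻¹ * (i * q * i⁻¹ * q⁻¹)
      group
    have hc : Commute i (d j) := by
      rcases h j hj with e | e | e | e <;> show Commute i (j * q * j⁻¹ * q⁻¹) <;> rw [e]
      exacts [Commute.one_right i, S.inner_comm hi, S.inner_a hi, (S.inner_a hi).mul_right (S.inner_comm hi)]
    rw [e, hc.eq, mul_inv_cancel_right]
  let χ : ↥S.inner →* ℤˣ := MonoidHom.mk' (fun i => if d i = 1 ∨ d i = z then 1 else -1) fun i j => by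
    have hi := h i i.2
    have hj := h j j.2
    have hij : d (i * j : ↥S.inner) = d j * d i := hmul i i.2 j j.2
    rw [hij]
    have n1 : ∀ {v}, v = a ∨ v = a * z → ¬ (v = 1 ∨ v = z) := by
      rintro v (e | e) (e' | e') <;> rw [e] at e'
      exacts [S.a_ne e', S.a_ne_z e', S.az_ne.1 e', S.az_ne.2.1 e']
    have hza : z * a = a * z := S.comAz.eq.symm
    have hazz : a * z * z = a := by rw [mul_assoc, S.z_sq, mul_one]
    have hzaz : z * (a * z) = a := by rw [← mul_assoc, hza, hazz]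
    have haaz : a * (a * z) = z := by rw [← mul_assoc, S.sqa, one_mul]
    have haza : a * z * a = z := by rw [mul_assoc, hza, haaz]
    have h0 : a * z * (a * z) = 1 := by rw [show a * z * (a * z) = a * (z * a) * z by group, ← S.comAz.eq, show a * (a * z) * z = a * a * (z * z) by group, S.sqa, S.z_sq, one_mul]
    rcases (show (d j = 1 ∨ d j = z) ∨ (d j = a ∨ d j = a * z) by
      rcases hj with e | e | e | e
      exacts [Or.inl (Or.inl e), Or.inl (Or.inr e), Or.inr (Or.inl e), Or.inr (Or.inr e)]) with B | B <;>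
      rcases (show (d i = 1 ∨ d i = z) ∨ (d i = a ∨ d i = a * z) by
      rcases hi with e | e | e | e
      exacts [Or.inl (Or.inl e), Or.inl (Or.inr e), Or.inr (Or.inl e), Or.inr (Or.inr e)]) with A | A
    · rw [if_pos A, if_pos B, if_pos]
      · rfl
      · rcases A with e | e <;> rcases B with e' | e' <;> rw [e, e'] <;> simp [S.z_sq]
    · rw [if_neg (n1 A), if_pos B, if_neg (n1 ?_)]
      · rfl
      · rcases A with e | e <;> rcases B with e' | e' <;> rw [e, e'] <;> simp [hza, hzaz]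
    · rw [if_pos A, if_neg (n1 B), if_neg (n1 ?_)]
      · rfl
      · rcases A with e | e <;> rcases B with e' | e' <;> rw [e, e'] <;> simp [hazz]
    · rw [if_neg (n1 A), if_neg (n1 B), if_pos]
      · rfl
      · rcases A with e | e <;> rcases B with e' | e' <;> rw [e, e'] <;> simp [S.sqa, haaz, haza, h0]
  intro i hi
  have := S.inner_char χ (fun k hk => if_pos (S.comm hk hq)) ⟨i, hi⟩
  change (if d i = 1 ∨ d i = z then (1 : ℤˣ) else -1) = 1 at this
  by_contra hn
  rw [if_neg hn] at this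
  exact absurd this (by decide)

/-- The fixed part. -/
def fp (S : Setting z a J E P) : Subgroup G where
  carrier := {q | q ∈ J ∧ ∀ i ∈ S.inner, i * q * i⁻¹ * q⁻¹ = 1 ∨ i * q * i⁻¹ * q⁻¹ = z}
  one_mem' := ⟨one_mem J, fun i _ => Or.inl (by group)⟩
  mul_mem' := fun {p q} hp hq => ⟨mul_mem hp.1 hq.1, fun i hi => by
    rw [show i * (p * q) * i⁻¹ * (p * q)⁻¹ = (i * p * i⁻¹ * p⁻¹) * (p * (i * q * i⁻¹ * q⁻¹) * p⁻¹) by group]
    rcases hp.2 i hi with e | e <;> rcases hq.2 i hi with e' | e' <;> rw [e, e'] <;>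
      simp [(S.commJ hp.1).eq, S.z_sq]⟩
  inv_mem' := fun {q} hq => ⟨inv_mem hq.1, fun i hi => by
    rw [show i * q⁻¹ * i⁻¹ * q⁻¹⁻¹ = q⁻¹ * (i * q * i⁻¹ * q⁻¹)⁻¹ * q by group]
    rcases hq.2 i hi with e | e <;> rw [e]
    · exact Or.inl (by group)
    · refine Or.inr ?_
      rw [S.z_inv, mul_assoc, ← (S.commJ hq.1).eq, inv_mul_cancel_left]⟩

theorem fp_of_inV (S : Setting z a J E P) {v : G} (hv : InV z a v) : v ∈ S.fp := by
  refine ⟨?_, fun i hi => Or.inl ?_⟩
  · rcases hv with e | e | e | e <;> rw [e]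
    exacts [one_mem J, S.memJ, S.memA, mul_mem S.memA S.memJ]
  · have : Commute i v := by
      rcases hv with e | e | e | e <;> rw [e]
      exacts [Commute.one_right i, S.inner_comm hi, S.inner_a hi, (S.inner_a hi).mul_right (S.inner_comm hi)]
    rw [this.eq, mul_inv_cancel_right, mul_inv_cancel]

theorem conj_fp (S : Setting z a J E P) {g q : G} (hg : Commute g z) (hq : q ∈ S.fp) : g * q * g⁻¹ ∈ S.fp := by
  refine ⟨S.conj_J hg hq.1, fun i hi => ?_⟩
  have h := hq.2 (g⁻¹ * i * g⁻¹⁻¹) (S.conj_inner hg.inv_left hi)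
  rw [show i * (g * q * g⁻¹) * i⁻¹ * (g * q * g⁻¹)⁻¹ =
    g * (g⁻¹ * i * g⁻¹⁻¹ * q * (g⁻¹ * i * g⁻¹⁻¹)⁻¹ * q⁻¹) * g⁻¹ by group]
  rcases h with e | e <;> rw [e]
  · exact Or.inl (by group)
  · exact Or.inr (by rw [hg.eq, mul_inv_cancel_right])

/-- The rest of the core. -/
def rest (S : Setting z a J E P) : Subgroup G := J ⊓ centralizer (S.fp : Set G)

/-- The centraliser of the fixed part in the inner part. -/
def lin (S : Setting z a J E P) : Subgroup G := S.inner ⊓ centralizer (S.fp : Set G)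

theorem mem_lin (S : Setting z a J E P) {i : G} : i ∈ S.lin ↔ i ∈ S.inner ∧ ∀ f ∈ S.fp, Commute i f :=
  ⟨fun h => ⟨h.1, fun f hf => (mem_centralizer_iff.1 h.2 f hf).symm⟩,
    fun h => ⟨h.1, mem_centralizer_iff.2 fun f hf => (h.2 f hf).symm⟩⟩

theorem mem_rest (S : Setting z a J E P) {i : G} : i ∈ S.rest ↔ i ∈ J ∧ ∀ f ∈ S.fp, Commute i f :=
  ⟨fun h => ⟨h.1, fun f hf => (mem_centralizer_iff.1 h.2 f hf).symm⟩,
    fun h => ⟨h.1, mem_centralizer_iff.2 fun f hf => (h.2 f hf).symm⟩⟩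

theorem rest_le_lin (S : Setting z a J E P) : S.rest ≤ S.lin := inf_le_inf_right _ S.J_le_inner

theorem inV_rest (S : Setting z a J E P) {v : G} (hv : InV z a v) : v ∈ S.rest := by
  refine S.mem_rest.2 ⟨(S.fp_of_inV hv).1, fun f hf => ?_⟩
  rcases hv with e | e | e | e <;> rw [e]
  exacts [Commute.one_left f, (S.commJ hf.1).symm, S.comA f hf.1, (S.comA f hf.1).mul_left (S.commJ hf.1).symm]

theorem conj_lin (S : Setting z a J E P) {g q : G} (hg : Commute g z) (hq : q ∈ S.lin) : g * q * g⁻¹ ∈ S.lin := by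
  refine S.mem_lin.2 ⟨S.conj_inner hg hq.1, fun f hf => ?_⟩
  have := ((S.mem_lin.1 hq).2 _ (S.conj_fp hg.inv_left hf)).map (MulAut.conj g).toMonoidHom
  simpa [mul_assoc] using this

/-- The hypotheses below with a fixed vector. -/
noncomputable def fixSetting (S : Setting z a J E P) (hn : ¬ S.NoFix) : Ext.FixSetting (bar a z) S.JQ S.IQ where
  order := S.bar_z_order
  card := S.JQ_card
  extra := S.JQ_extra
  mem := S.bar_mem S.memJ
  le := fun c hc => by
    obtain ⟨q, hq, rfl⟩ := S.exists_bar hc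
    exact S.bar_mem_IQ (S.J_le_inner hq)
  inC := S.IQ_le
  norm := S.JQ_norm
  normI := fun c hc => Cfsg.Lib.ZStarApps.mem_normalizer_of_maps fun d hd => by
    obtain ⟨x, hxz, hxa, rfl⟩ := S.lift_cent hc
    obtain ⟨i, hi, rfl⟩ := S.exists_bar_IQ hd
    rw [← bar_conj hxa (S.inner_a hi)]
    exact S.bar_mem_IQ (S.conj_inner hxz hi)
  self := S.JQ_self
  faithful := fun c hc h => by
    obtain ⟨x, hxz, hxa, rfl⟩ := S.lift_cent hc
    refine S.bar_mem ((S.fz_eq_one hxz).1 (MulEquiv.ext fun p => conj_injective S.iso.some ?_))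
    obtain ⟨i, hiz, hi⟩ := S.fz_surj (MulAut.conj p)
    have hiI : i ∈ S.inner := (S.fz_inner hiz).1 (hi ▸ ⟨p, rfl⟩)
    have hia := S.inner_a hiI
    have h1 := h _ (S.bar_mem_IQ hiI)
    rw [← bar_comm hxa hia] at h1
    have h2 := S.mem_of_bar (((hxa.mul_left hia).mul_left hxa.inv_left).mul_left hia.inv_left) h1
    rw [← S.fz_eq_one (((hxz.mul_left hiz).mul_left hxz.inv_left).mul_left hiz.inv_left),
      S.fz_mul ((hxz.mul_left hiz).mul_left hxz.inv_left) hiz.inv_left, S.fz_mul (hxz.mul_left hiz) hxz.inv_left,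
      S.fz_mul hxz hiz, S.fz_inv hxz, S.fz_inv hiz, mul_inv_eq_one, hi] at h2
    rw [MulAut.one_apply, show MulAut.conj (S.fz x p) = S.fz x * MulAut.conj p * (S.fz x)⁻¹ from
      MulEquiv.ext fun q => by simp [MulAut.conj_apply], h2]
  two := fun c hc d hd hc' hd' => by
    obtain ⟨x, hxz, hxa, rfl⟩ := S.lift_cent hc
    obtain ⟨y, hyz, hya, rfl⟩ := S.lift_cent hd
    rw [← bar_mul hxa hya]
    exact S.bar_mem_IQ (S.two hxz hyz (fun h => hc' (S.bar_mem_IQ h)) fun h => hd' (S.bar_mem_IQ h))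
  f := (S.iso.some.symm.toMonoidHom.comp (MonoidHom.ofInjective (conj_injective S.iso.some)).symm.toMonoidHom).comp
    ((S.fQ.comp (Subgroup.inclusion S.IQ_le)).codRestrict _ fun c => by
      obtain ⟨i, hi, e⟩ := S.exists_bar_IQ c.2
      show S.fQ _ ∈ _
      rw [show Subgroup.inclusion S.IQ_le c = ⟨bar a i, S.bar_cent (S.inner_comm hi) (S.inner_a hi)⟩ from
        Subtype.ext e.symm, S.fQ_bar (S.inner_comm hi) (S.inner_a hi), S.fz_inner (S.inner_comm hi)]
      exact hi)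
  surj := fun y => by
    obtain ⟨i, hiz, hi⟩ := S.fz_surj (MulAut.conj (S.iso.some y))
    have hiI : i ∈ S.inner := (S.fz_inner hiz).1 (hi ▸ ⟨_, rfl⟩)
    refine ⟨⟨bar a i, S.bar_mem_IQ hiI⟩, ?_⟩
    refine S.iso.some.symm_apply_eq.2 ((MonoidHom.ofInjective (conj_injective S.iso.some)).symm_apply_eq.2
      (Subtype.ext ?_))
    exact (S.fQ_bar hiz (S.inner_a hiI)).trans hi
  ker := fun c => by
    refine (map_eq_one_iff _ S.iso.some.symm.injective).trans ((map_eq_one_iff _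
      (MonoidHom.ofInjective (conj_injective S.iso.some)).symm.injective).trans ?_)
    rw [Subtype.ext_iff]
    exact S.fQ_ker (Subgroup.inclusion S.IQ_le c)
  fixed := by
    obtain ⟨q, hq, hqi, hqV⟩ : ∃ q ∈ J, (∀ i ∈ S.inner, InV z a (i * q * i⁻¹ * q⁻¹)) ∧ ¬ InV z a q := by
      have h := hn
      unfold Setting.NoFix at h
      push Not at h
      exact h
    refine ⟨bar a q, S.bar_mem hq, fun h => hqV ((S.bar_zpowers_iff (S.commA hq)).1 h), fun c hc => ?_⟩
    obtain ⟨i, hi, rfl⟩ := S.exists_bar_IQ hc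
    rw [← bar_comm (S.inner_a hi) (S.commA hq), S.bar_zpowers_iff
      ((((S.inner_a hi).mul_left (S.commA hq)).mul_left (S.inner_a hi).inv_left).mul_left (S.commA hq).inv_left)]
    exact hqi i hi

section fixed

variable (S : Setting z a J E P) (hn : ¬ S.NoFix)

theorem bar_fp_iff {q : G} (hq : q ∈ J) : bar a q ∈ (S.fixSetting hn).fixPart ↔ q ∈ S.fp := by
  constructor
  · rintro ⟨-, h⟩
    refine ⟨hq, S.inner_moves hq fun i hi => ?_⟩
    rw [← S.bar_zpowers_iff
      ((((S.inner_a hi).mul_left (S.commA hq)).mul_left (S.inner_a hi).inv_left).mul_left (S.commA hq).inv_left),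
      bar_comm (S.inner_a hi) (S.commA hq)]
    exact h _ (S.bar_mem_IQ hi)
  · intro h
    refine ⟨S.bar_mem hq, fun c hc => ?_⟩
    obtain ⟨i, hi, rfl⟩ := S.exists_bar_IQ hc
    rw [← bar_comm (S.inner_a hi) (S.commA hq), S.bar_zpowers_iff
      ((((S.inner_a hi).mul_left (S.commA hq)).mul_left (S.inner_a hi).inv_left).mul_left (S.commA hq).inv_left)]
    exact (h.2 i hi).elim Or.inl fun e => Or.inr (Or.inl e)

include hn in
theorem lift_fp {c : KQ a} (hc : c ∈ (S.fixSetting hn).fixPart) : ∃ q ∈ S.fp, bar a q = c := by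
  obtain ⟨q, hq, rfl⟩ := S.exists_bar hc.1
  exact ⟨q, (S.bar_fp_iff hn hq).1 hc, rfl⟩

include hn in
theorem commute_fp {i f : G} (hi : i ∈ S.inner) (hf : f ∈ S.fp) (h : Commute (bar a i) (bar a f)) : Commute i f := by
  refine mul_inv_eq_iff_eq_mul.1 (mul_inv_eq_one.1 (S.one_or_z_of_bar (hf.2 i hi) ?_))
  rw [bar_comm (S.inner_a hi) (S.commA hf.1), h.eq, mul_inv_cancel_right, mul_inv_cancel]

include hn in
theorem bar_cent_fp {i : G} (hi : i ∈ S.inner) :
    bar a i ∈ centralizer ((S.fixSetting hn).fixPart : Set (KQ a)) ↔ ∀ f ∈ S.fp, Commute i f := by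
  refine ⟨fun h f hf => S.commute_fp hn hi hf (mem_centralizer_iff.1 h _ ((S.bar_fp_iff hn hf.1).2 hf)).symm,
    fun h => mem_centralizer_iff.2 fun c hc => ?_⟩
  obtain ⟨f, hf, rfl⟩ := S.lift_fp hn hc
  rw [← bar_mul (S.commA hf.1) (S.inner_a hi), ← bar_mul (S.inner_a hi) (S.commA hf.1), (h f hf).eq]

include hn in
theorem fp_center {x : G} (hx : x ∈ S.fp) (h : ∀ f ∈ S.fp, Commute x f) : InV z a x := by
  refine (S.bar_zpowers_iff (S.commA hx.1)).1 ((S.fixSetting hn).fixPart_center ((S.bar_fp_iff hn hx.1).2 hx)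
    fun c hc => ?_)
  exact (mem_centralizer_iff.1 ((S.bar_cent_fp hn (S.J_le_inner hx.1)).2 h) c hc).symm

include hn in
theorem fp_pair {x : G} (hx : x ∈ S.fp) (hxV : ¬ InV z a x) : ∃ v ∈ S.fp, x * v * x⁻¹ * v⁻¹ = z := by
  by_contra h
  push Not at h
  exact hxV (S.fp_center hn hx fun f hf => mul_inv_eq_iff_eq_mul.1 (mul_inv_eq_one.1
    ((S.comm hx.1 hf.1).resolve_right (h f hf))))

include hn in
theorem fp_lin {x : G} (hx : x ∈ S.fp) (hl : x ∈ S.lin) : InV z a x := S.fp_center hn hx (S.mem_lin.1 hl).2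

include hn in
theorem lin_decomp {h : G} (hh : h ∈ S.inner) : ∃ f ∈ S.fp, f⁻¹ * h ∈ S.lin := by
  obtain ⟨c, hc, hl⟩ := (S.fixSetting hn).lin_decomp (S.bar_mem_IQ hh)
  obtain ⟨f, hf, rfl⟩ := S.lift_fp hn hc
  have hi : f⁻¹ * h ∈ S.inner := mul_mem (inv_mem (S.J_le_inner hf.1)) hh
  rw [← bar_inv (S.commA hf.1), ← bar_mul (S.commA hf.1).inv_left (S.inner_a hh)] at hl
  exact ⟨f, hf, S.mem_lin.2 ⟨hi, (S.bar_cent_fp hn hi).1 hl.2⟩⟩

include hn in
theorem cent_rest {h : G} (hh : Commute h z) (hc : ∀ q ∈ S.rest, Commute h q) : h ∈ S.fp := by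
  have hha : Commute h a := hc a (S.inV_rest (Or.inr (Or.inr (Or.inl rfl))))
  have hb := (S.fixSetting hn).cent_rest (S.bar_cent hh hha) fun c hc' => ?_
  · have hJ : h ∈ J := S.mem_of_bar hha hb.1
    exact (S.bar_fp_iff hn hJ).1 hb
  · obtain ⟨q, hq, rfl⟩ := S.exists_bar hc'.1
    have := hc q (S.mem_rest.2 ⟨hq, (S.bar_cent_fp hn (S.J_le_inner hq)).1 hc'.2⟩)
    show bar a h * bar a q = bar a q * bar a h
    rw [← bar_mul hha (S.commA hq), ← bar_mul (S.commA hq) hha, this.eq]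

include hn in
theorem rest_big (Q₁ : Subgroup G) (hQ : Q₁ ≤ S.rest) (hcard : Nat.card ↥S.rest ≤ 2 * Nat.card ↥Q₁) :
    ∃ p ∈ Q₁, ∃ q ∈ Q₁, p * q * p⁻¹ * q⁻¹ = z := by
  classical
  have hQJ : Q₁ ≤ J := fun q hq => (hQ hq).1
  let π : ↥S.rest →* KQ a :=
    { toFun := fun q => bar a (q : G)
      map_one' := bar_one a
      map_mul' := fun p q => bar_mul (S.commA p.2.1) (S.commA q.2.1) }
  have hr : π.range = (S.fixSetting hn).rest := by
    refine le_antisymm ?_ fun c hc => ?_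
    · rintro _ ⟨q, rfl⟩
      exact ⟨S.bar_mem q.2.1, (S.bar_cent_fp hn (S.J_le_inner q.2.1)).2 (S.mem_rest.1 q.2).2⟩
    · obtain ⟨q, hq, rfl⟩ := S.exists_bar hc.1
      exact ⟨⟨q, S.mem_rest.2 ⟨hq, (S.bar_cent_fp hn (S.J_le_inner hq)).1 hc.2⟩⟩, rfl⟩
  set T := (Q₁.subgroupOf S.rest).map π
  have hindex : (Q₁.subgroupOf S.rest).index ≤ 2 := by
    have h1 := (Q₁.subgroupOf S.rest).card_mul_index
    rw [Nat.card_congr (Subgroup.subgroupOfEquivOfLe hQ).toEquiv] at h1
    by_contra h2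
    have := Nat.mul_le_mul_left (Nat.card ↥Q₁) (show 3 ≤ (Q₁.subgroupOf S.rest).index by omega)
    have := Nat.card_pos (α := ↥Q₁)
    omega
  have hT : T ≤ (S.fixSetting hn).rest := by
    rw [← hr]
    exact Subgroup.map_le_range π _
  obtain ⟨c, ⟨p, hp, rfl⟩, d, ⟨q, hq, rfl⟩, e⟩ := (S.fixSetting hn).rest_big T hT (by
    rw [← hr]
    have h1 := ((T.subgroupOf π.range)).card_mul_index
    have h2 : (T.subgroupOf π.range).index ≤ 2 := by
      have : T.subgroupOf π.range = (Q₁.subgroupOf S.rest).map π.rangeRestrict := by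
        ext ⟨c, hc⟩
        simp only [T, Subgroup.mem_subgroupOf, Subgroup.mem_map, Subtype.ext_iff, MonoidHom.coe_rangeRestrict]
      rw [this]
      exact (Nat.le_of_dvd (Nat.pos_of_ne_zero Subgroup.index_ne_zero_of_finite)
        (Subgroup.index_map_dvd _ π.rangeRestrict_surjective)).trans hindex
    rw [Nat.card_congr (Subgroup.subgroupOfEquivOfLe (by rw [hr]; exact hT)).toEquiv] at h1
    rw [← h1, mul_comm]
    exact Nat.mul_le_mul_right _ h2)
  refine ⟨p, hp, q, hq, (S.comm p.2.1 q.2.1).resolve_left fun e1 => S.bar_z_ne ?_⟩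
  rw [← e]
  show bar a (p : G) * bar a (q : G) * (bar a (p : G))⁻¹ * (bar a (q : G))⁻¹ = 1
  rw [← bar_comm (S.commA p.2.1) (S.commA q.2.1), e1, bar_one]

include hn in
theorem lin_perfect {A : Type w} [CommGroup A] (φ : ↥S.lin →* A)
    (ha : φ ⟨a, S.rest_le_lin (S.inV_rest (Or.inr (Or.inr (Or.inl rfl))))⟩ = 1) (l : ↥S.lin) : φ l = 1 := by
  let π : ↥S.lin →* ↥(S.fixSetting hn).lin :=
    { toFun := fun l => ⟨bar a (l : G), S.bar_mem_IQ l.2.1, (S.bar_cent_fp hn l.2.1).2 (S.mem_lin.1 l.2).2⟩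
      map_one' := Subtype.ext (bar_one a)
      map_mul' := fun p q => Subtype.ext (bar_mul (S.inner_a p.2.1) (S.inner_a q.2.1)) }
  have hπ : Function.Surjective π := fun c => by
    obtain ⟨i, hi, e⟩ := S.exists_bar_IQ c.2.1
    refine ⟨⟨i, S.mem_lin.2 ⟨hi, (S.bar_cent_fp hn hi).1 ?_⟩⟩, Subtype.ext e⟩
    rw [e]
    exact c.2.2
  have hle : π.ker ≤ φ.ker := fun k hk => by
    rcases (bar_eq_one S.sqa (S.inner_a k.2.1)).1 (congrArg Subtype.val hk) with e | e
    · rw [show k = 1 from Subtype.ext e]; exact one_mem _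
    · rw [MonoidHom.mem_ker, ← ha]
      exact congrArg φ (Subtype.ext e)
  let ψ := π.liftOfSurjective hπ ⟨φ, hle⟩
  rw [show φ l = ψ (π l) from (MonoidHom.liftOfRightInverse_comp_apply _ _ _ ⟨φ, hle⟩ l).symm]
  exact (S.fixSetting hn).lin_perfect ψ _

include hn in
theorem fp_card_le {T : Subgroup G} (hT : T ≤ S.fp) {f₁ : G} (hf₁ : f₁ ∈ S.fp)
    (haT : a ∈ T) (hf₁T : f₁ ∉ T) {p q : G} (hp : p ∈ T) (hq : q ∈ T) (hpV : ¬ InV z a p)
    (hzT : z ∈ T) : InV z a q ∨ InV z a (p⁻¹ * q) := by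
  classical
  by_contra hne
  push Not at hne
  set F := (S.fixSetting hn).fixPart
  have cA : ∀ {t}, t ∈ T → Commute t a := fun ht => S.commA (hT ht).1
  have hval : ∀ {r}, r ∈ T → bar a f₁ ≠ bar a r := fun {r} hr e => hf₁T (by
    rcases (bar_eq S.sqa (cA hr) (S.commA hf₁.1)).1 e.symm with h | h <;> rw [h]
    exacts [hr, mul_mem hr haT])
  let L : List G := [1, z, p, p * z, q, f₁, f₁ * z, f₁ * p, f₁ * (p * z)]
  have hp2 : ∀ {r s}, r ∈ T → s ∈ T → ¬ InV z a (r⁻¹ * s) → bar a r ≠ bar a s ∧ bar a r ≠ bar a (s * z) := by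
    intro r s hr hs hV
    constructor <;> intro e <;> refine hV ?_
    · rw [← S.bar_zpowers_iff ((cA hr).inv_left.mul_left (cA hs)), bar_mul (cA hr).inv_left (cA hs),
        bar_inv (cA hr), e, inv_mul_cancel]
      exact one_mem _
    · rw [← S.bar_zpowers_iff ((cA hr).inv_left.mul_left (cA hs)), bar_mul (cA hr).inv_left (cA hs),
        bar_inv (cA hr), e, bar_mul (cA hs) S.comAz.symm, mul_inv_rev, inv_mul_cancel_right]
      exact inv_mem (mem_zpowers _)
  have hnd : (L.map (bar a)).Nodup := by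
    have h1 : ∀ {r}, r ∈ T → bar a r ≠ bar a (r * z) := fun {r} hr e => S.bar_z_ne (by
      rw [bar_mul (cA hr) S.comAz.symm] at e
      exact mul_eq_left.1 e.symm)
    have pq := hp2 hp hq hne.2
    have op := hp2 (one_mem T) hp (by rwa [inv_one, one_mul])
    have oq := hp2 (one_mem T) hq (by rw [inv_one, one_mul]; exact hne.1)
    have zp' : bar a z ≠ bar a p ∧ bar a z ≠ bar a (p * z) := by
      have hpz : p * z * z = p := by rw [mul_assoc, S.z_sq, mul_one]
      constructor <;> intro e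
      · refine op.2 ?_
        rw [bar_mul (cA hp) S.comAz.symm, ← e, ← bar_mul S.comAz.symm S.comAz.symm, S.z_sq, bar_one]
      · refine op.1 ?_
        rw [bar_mul (cA hp) S.comAz.symm] at e
        rw [bar_one]
        exact (right_eq_mul.1 e).symm
    have zq : bar a z ≠ bar a q := fun e => oq.2 (by
      rw [bar_mul (cA hq) S.comAz.symm, ← e, ← bar_mul S.comAz.symm S.comAz.symm, S.z_sq, bar_one])
    have pzq : bar a (p * z) ≠ bar a q := fun e => pq.2 (by
      rw [bar_mul (cA hq) S.comAz.symm, ← e, ← bar_mul ((cA hp).mul_left S.comAz.symm) S.comAz.symm, mul_assoc,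
        S.z_sq, mul_one])
    have o1 : bar a (1 : G) ≠ bar a z := fun e => S.bar_z_ne ((bar_one a) ▸ e.symm)
    have hz1 := h1 hp
    have hmix : ∀ {r s}, r ∈ T → s ∈ T → bar a r ≠ bar a (f₁ * s) := fun {r s} hr hs e => hval
      (mul_mem hr (inv_mem hs)) (by
        rw [bar_mul (S.commA hf₁.1) (cA hs)] at e
        rw [bar_mul (cA hr) (cA hs).inv_left, bar_inv (cA hs), e, mul_inv_cancel_right])
    have hshift : ∀ {r s}, r ∈ T → s ∈ T → bar a r ≠ bar a s → bar a (f₁ * r) ≠ bar a (f₁ * s) :=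
      fun {r s} hr hs hd e => hd (by
        rw [bar_mul (S.commA hf₁.1) (cA hr), bar_mul (S.commA hf₁.1) (cA hs)] at e
        exact mul_left_cancel e)
    have m1 := fun {r : G} (hr : r ∈ T) => hmix hr (one_mem T)
    simp only [mul_one] at m1
    have s1 := fun {r : G} (hr : r ∈ T) => hshift (one_mem T) hr
    simp only [mul_one] at s1
    simp only [L, List.map_cons, List.map_nil, List.nodup_cons, List.mem_cons, List.not_mem_nil, or_false, not_or,
      List.nodup_nil, not_false_iff, and_true]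
    have ts := mul_mem hp hzT
    exact ⟨⟨o1, op.1, op.2, oq.1, m1 (one_mem T), hmix (one_mem T) hzT, hmix (one_mem T) hp, hmix (one_mem T) ts⟩,
      ⟨zp'.1, zp'.2, zq, m1 hzT, hmix hzT hzT, hmix hzT hp, hmix hzT ts⟩,
      ⟨hz1, pq.1, m1 hp, hmix hp hzT, hmix hp hp, hmix hp ts⟩,
      ⟨pzq, m1 ts, hmix ts hzT, hmix ts hp, hmix ts ts⟩,
      ⟨m1 hq, hmix hq hzT, hmix hq hp, hmix hq ts⟩,
      ⟨s1 hzT o1, s1 hp op.1, s1 ts op.2⟩, ⟨hshift hzT hp zp'.1, hshift hzT ts zp'.2⟩, hshift hp ts hz1⟩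
  have hsub : ∀ c ∈ L.map (bar a), c ∈ (F : Set (KQ a)) := by
    intro c hc
    obtain ⟨r, hr, rfl⟩ := List.mem_map.1 hc
    have hrF : r ∈ S.fp := by
      have hzF := hT hzT
      simp only [L, List.mem_cons, List.not_mem_nil, or_false] at hr
      rcases hr with e | e | e | e | e | e | e | e | e <;> rw [e]
      exacts [one_mem _, hzF, hT hp, mul_mem (hT hp) hzF, hT hq, hf₁, mul_mem hf₁ hzF, mul_mem hf₁ (hT hp),
        mul_mem hf₁ (mul_mem (hT hp) hzF)]
    exact (S.bar_fp_iff hn hrF.1).2 hrF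
  have := Set.ncard_le_ncard (s := ((L.map (bar a)).toFinset : Set (KQ a))) (t := (F : Set (KQ a)))
    (fun c hc => hsub c (List.mem_toFinset.1 hc))
  rw [Set.ncard_coe_finset, List.toFinset_card_of_nodup hnd, List.length_map, ← Nat.card_coe_set_eq] at this
  have h8 := (S.fixSetting hn).fix_facts.1
  change Nat.card ↥(F : Set (KQ a)) = 8 at h8
  rw [h8] at this
  simp [L] at this

end fixed

end Setting

end Cfsg.Lib.FiTwo
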