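import Cfsg.Agent.FiTwoCentral.Recog
import Cfsg.Agent.FiTwoCentral.FixBase
import Cfsg.Agent.FiTwoCentral.Natural

/-!
# A conjugate under the centraliser of `a`: the cover of the unitary group
-/

set_option autoImplicit false
set_option Elab.async false
set_option maxRecDepth 100000
set_option linter.style.haveILetI false
set_option linter.unusedSectionVars false

namespace Cfsg.Lib.FiTwo

open Subgroup Cfsg.Lib.USixType

universe u v w

variable {G : Type u} [Group G] [Finite G] {P : Type v} [Group P] {z a : G} {J E : Subgroup G}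

namespace Setting

variable (S : Setting z a J E P)
include S

theorem bar_witness (hia : ¬ Iso z a) :
    ∃ g : KQ a, Commute (g * bar a z * g⁻¹) (bar a z) ∧ g * bar a z * g⁻¹ ≠ bar a z := by
  unfold Iso at hia
  push Not at hia
  obtain ⟨k, hka, hc, hne⟩ := hia
  have hy : Commute (k * z * k⁻¹) a := (hka.mul_left S.comAz.symm).mul_left hka.inv_left
  refine ⟨bar a k, ?_, ?_⟩ <;> rw [← bar_conj hka S.comAz.symm]
  · exact (S.bar_commute hy).2 hc
  · intro e
    rcases (bar_eq S.sqa hy S.comAz.symm).1 e with h | h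
    · exact hne h.symm
    · refine S.not_conj_az k ?_
      calc k * z * k⁻¹ = k * z * k⁻¹ * (a * a) := by rw [S.sqa, mul_one]
        _ = z * a := by rw [← mul_assoc, ← h]
        _ = a * z := S.comAz.eq.symm

/-- A witness excludes fixed vectors. -/
theorem noFix_of_witness (hia : ¬ Iso z a) : S.NoFix := by
  by_contra hn
  obtain ⟨g, hg, hne⟩ := S.bar_witness hia
  exact hne ((S.fixSetting hn).no_fusion g hg)

theorem comm_inner {h k : G} (hh : Commute h z) (hk : Commute k z) : h * k * h⁻¹ * k⁻¹ ∈ S.inner := by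
  by_cases h1 : h ∈ S.inner
  · rw [show h * k * h⁻¹ * k⁻¹ = h * (k * h⁻¹ * k⁻¹) by group]
    exact mul_mem h1 (S.conj_inner hk (inv_mem h1))
  by_cases h2 : k ∈ S.inner
  · exact mul_mem (S.conj_inner hh h2) (inv_mem h2)
  rw [show h * k * h⁻¹ * k⁻¹ = (h * k) * (h⁻¹ * k⁻¹) by group]
  exact mul_mem (S.two hh hk h1 h2)
    (S.two hh.inv_left hk.inv_left (fun e => h1 (inv_mem_iff.1 e)) fun e => h2 (inv_mem_iff.1 e))

theorem π_of_inner (c : NC z a J) {i : G} (hi : i ∈ S.inner) : c.π i ∈ U := by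
  classical
  let χ : ↥S.inner →* ℤˣ := MonoidHom.mk' (fun i => if c.π i ∈ U then 1 else -1) fun p q => by
    have pz := S.inner_comm p.2
    have pa := S.inner_a p.2
    have qz := S.inner_comm q.2
    have qa := S.inner_a q.2
    rw [Subgroup.coe_mul]
    by_cases h1 : c.π p ∈ U <;> by_cases h2 : c.π q ∈ U <;> simp only [h1, h2, if_true, if_false]
    · rw [if_pos (by rw [c.π_mul _ _ pz pa qz qa]; exact mul_mem h1 h2)]; rfl
    · rw [if_neg (fun e => h2 (by
        rw [c.π_mul _ _ pz pa qz qa] at e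
        have := mul_mem (inv_mem h1) e
        rwa [inv_mul_cancel_left] at this))]; rfl
    · rw [if_neg (fun e => h1 (by
        rw [c.π_mul _ _ pz pa qz qa] at e
        have := mul_mem e (inv_mem h2)
        rwa [mul_inv_cancel_right] at this))]; rfl
    · rw [if_pos (c.π_semi _ _ pz pa qz qa h1 h2)]; rfl
  have := S.inner_char χ (fun q hq => if_pos (by rw [(c.π_ker q (S.commJ hq) (S.commA hq)).2 hq]; exact one_mem U))
    ⟨i, hi⟩
  change (if c.π i ∈ U then (1 : ℤˣ) else -1) = 1 at this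
  by_contra hn
  rw [if_neg hn] at this
  exact absurd this (by decide)

/-- The inner part maps onto the unitary group. -/
theorem π_lift (c : NC z a J) {g : Equiv.Perm Vt} (hg : g ∈ U) : ∃ i ∈ S.inner, c.π i = g := by
  let T : Subgroup ↥U :=
    { carrier := {g | ∃ i ∈ S.inner, c.π i = g.1}
      one_mem' := ⟨1, one_mem _, (c.π_ker 1 (Commute.one_left z) (Commute.one_left a)).2 (one_mem J)⟩
      mul_mem' := by
        rintro p q ⟨i, hi, ep⟩ ⟨j, hj, eq'⟩
        exact ⟨i * j, mul_mem hi hj, by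
          rw [c.π_mul _ _ (S.inner_comm hi) (S.inner_a hi) (S.inner_comm hj) (S.inner_a hj), ep, eq']; rfl⟩
      inv_mem' := by
        rintro p ⟨i, hi, ep⟩
        refine ⟨i⁻¹, inv_mem hi, ?_⟩
        show c.π i⁻¹ = (p.1)⁻¹
        refine eq_inv_of_mul_eq_one_left ?_
        rw [← ep, ← c.π_mul _ _ (S.inner_comm hi).inv_left (S.inner_a hi).inv_left (S.inner_comm hi) (S.inner_a hi),
          inv_mul_cancel, c.π_one] }
  have hT : _root_.commutator ↥U ≤ T := by
    rw [commutator_eq_closure, Subgroup.closure_le]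
    rintro _ ⟨p, q, rfl⟩
    obtain ⟨x, xz, xa, ex⟩ := c.π_surj _ p.2
    obtain ⟨y, yz, ya, ey⟩ := c.π_surj _ q.2
    refine ⟨x * y * x⁻¹ * y⁻¹, S.comm_inner xz yz, ?_⟩
    have inv : ∀ {h}, Commute h z → Commute h a → c.π h⁻¹ = (c.π h)⁻¹ := fun hz ha =>
      eq_inv_of_mul_eq_one_left (by rw [← c.π_mul _ _ hz.inv_left ha.inv_left hz ha, inv_mul_cancel, c.π_one])
    rw [c.π_mul _ _ ((xz.mul_left yz).mul_left xz.inv_left) ((xa.mul_left ya).mul_left xa.inv_left) yz.inv_left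
      ya.inv_left, c.π_mul _ _ (xz.mul_left yz) (xa.mul_left ya) xz.inv_left xa.inv_left,
      c.π_mul _ _ xz xa yz ya, inv xz xa, inv yz ya, ex, ey]
    rfl
  haveI := simple_U
  have htop : _root_.commutator ↥U = ⊤ := by
    rcases (inferInstance : (_root_.commutator ↥U).Normal).eq_bot_or_eq_top with e | e
    · exfalso
      have h1 : (⟨tvP 0, tvP_mem 0⟩ : ↥U) * ⟨tvP 1, tvP_mem 1⟩ * (⟨tvP 0, tvP_mem 0⟩ : ↥U)⁻¹ *
          (⟨tvP 1, tvP_mem 1⟩ : ↥U)⁻¹ ∈ _root_.commutator ↥U := by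
        rw [commutator_eq_closure]
        exact subset_closure ⟨_, _, rfl⟩
      rw [e, Subgroup.mem_bot, mul_inv_eq_one, mul_inv_eq_iff_eq_mul] at h1
      have h2 := (USixType.commute_iff 0 1).1 (congrArg Subtype.val h1)
      revert h2
      decide +kernel
    · exact e
  exact hT (htop ▸ Subgroup.mem_top (⟨g, hg⟩ : ↥U))

theorem π_mem_iff (c : NC z a J) {h : G} (hz : Commute h z) (ha : Commute h a) : c.π h ∈ U ↔ h ∈ S.inner := by
  refine ⟨fun hh => ?_, S.π_of_inner c⟩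
  obtain ⟨i, hi, e⟩ := S.π_lift c hh
  have hJ : i⁻¹ * h ∈ J := (c.π_ker _ ((S.inner_comm hi).inv_left.mul_left hz)
    ((S.inner_a hi).inv_left.mul_left ha)).1 (by
      rw [c.π_mul _ _ (S.inner_comm hi).inv_left (S.inner_a hi).inv_left hz ha, ← e,
        ← c.π_mul _ _ (S.inner_comm hi).inv_left (S.inner_a hi).inv_left (S.inner_comm hi) (S.inner_a hi),
        inv_mul_cancel, c.π_one])
  rw [← mul_inv_cancel_left i h]
  exact mul_mem hi (S.J_le_inner hJ)

/-- The inner part is generated by its commutators and `a`. -/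
theorem inner_gen (hn : S.NoFix) (N : Subgroup G) (ha : a ∈ N)
    (hN : ∀ x ∈ S.inner, ∀ y ∈ S.inner, x * y * x⁻¹ * y⁻¹ ∈ N) : S.inner ≤ N := by
  classical
  obtain ⟨c⟩ := S.exists_nc hn
  have hz : z ∈ N := by
    obtain ⟨p, hp, q, hq, hpq⟩ : ∃ p ∈ J, ∃ q ∈ J, ¬ Commute p q := by
      by_contra h
      push Not at h
      have := S.abelian_le J le_rfl h
      rw [S.cardJ] at this
      omega
    rw [← (S.comm hp hq).resolve_left fun e => hpq (mul_inv_eq_iff_eq_mul.1 (mul_inv_eq_one.1 e))]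
    exact hN p (S.J_le_inner hp) q (S.J_le_inner hq)
  have hV : ∀ {v}, InV z a v → v ∈ N := fun hv => by
    rcases hv with e | e | e | e <;> rw [e]
    exacts [one_mem N, hz, ha, mul_mem ha hz]
  have key : ∀ v, ∃ q ∈ J, q ∈ N ∧ c.β q = v := by
    have hsm : ∀ i : Fin 45, ∀ b : Fin 4, ∃ q ∈ J, q ∈ N ∧ c.β q = sm b.val (ctr i) := fun i b => by
      obtain ⟨v, hv⟩ := Ext.moves i b
      obtain ⟨x, hx, ex⟩ := S.π_lift c (tvP_mem i)
      obtain ⟨p, hp, ep⟩ := c.β_surj ⟨v⟩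
      refine ⟨x * p * x⁻¹ * p⁻¹, mul_mem (S.conj_J (S.inner_comm hx) hp) (inv_mem hp),
        hN x hx p (S.J_le_inner hp), ?_⟩
      rw [c.β_mul _ (S.conj_J (S.inner_comm hx) hp) _ (inv_mem hp), c.β_inv hp,
        c.equiv x (S.inner_comm hx) (S.inner_a hx) p hp, ex, ep, tvP_apply, hv]
    intro v
    induction v using induct_bas with
    | h0 => exact ⟨1, one_mem J, one_mem N, c.β_one⟩
    | hadd u w hu hw =>
      obtain ⟨p, hp, p1, rfl⟩ := hu
      obtain ⟨q, hq, q1, rfl⟩ := hw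
      exact ⟨p * q, mul_mem hp hq, mul_mem p1 q1, c.β_mul p hp q hq⟩
    | hb k =>
      obtain ⟨i, b, j, d, e⟩ := Ext.span_iso k
      obtain ⟨p, hp, p1, ep⟩ := hsm i b
      obtain ⟨q, hq, q1, eq'⟩ := hsm j d
      exact ⟨p * q, mul_mem hp hq, mul_mem p1 q1, by rw [c.β_mul p hp q hq, ep, eq', e]⟩
  have hJN : J ≤ N := fun q hq => by
    obtain ⟨p, hp, p1, e⟩ := key (c.β q)
    have := mul_mem p1 (hV ((c.β_ker _ (mul_mem (inv_mem hp) hq)).1 (by
      rw [c.β_mul _ (inv_mem hp) q hq, c.β_inv hp, e, Vt.add_self])))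
    rwa [mul_inv_cancel_left] at this
  let N' : Subgroup ↥S.inner := N.subgroupOf S.inner
  have hc : _root_.commutator ↥S.inner ≤ N' := by
    rw [commutator_eq_closure, Subgroup.closure_le]
    rintro _ ⟨x, y, rfl⟩
    exact hN x x.2 y y.2
  haveI : N'.Normal := ⟨fun n hn g => by
    rw [show g * n * g⁻¹ = (g * n * g⁻¹ * n⁻¹) * n by group]
    exact mul_mem (hN g g.2 n n.2 : g * n * g⁻¹ * n⁻¹ ∈ N') hn⟩
  letI : CommGroup (↥S.inner ⧸ N') :=
    { (inferInstance : Group (↥S.inner ⧸ N')) with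
      mul_comm := fun p q => by
        induction p using QuotientGroup.induction_on with
        | _ x =>
        induction q using QuotientGroup.induction_on with
        | _ y =>
        rw [← QuotientGroup.mk_mul, ← QuotientGroup.mk_mul, QuotientGroup.eq]
        refine hc ?_
        rw [commutator_eq_closure]
        refine subset_closure ⟨y⁻¹, x⁻¹, ?_⟩
        rw [commutatorElement_def]
        group }
  intro i hi
  exact (QuotientGroup.eq_one_iff (⟨i, hi⟩ : ↥S.inner)).1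
    (S.inner_char (QuotientGroup.mk' N') (fun q hq => (QuotientGroup.eq_one_iff q).2 (hJN hq)) ⟨i, hi⟩)

end Setting

/-- The cover of the unitary group in the centraliser of `a`. -/
structure Cover (S : Setting z a J E P) where
  /-- The cover. -/
  K0 : Subgroup G
  /-- Its map to the model. -/
  g0 : ↥K0 →* ↥W
  cent : ∀ x ∈ K0, Commute x a
  memA : a ∈ K0
  inner_le : S.inner ≤ K0
  surj : Function.Surjective g0
  ker : ∀ x, g0 x = 1 → (x : G) = 1 ∨ (x : G) = a
  kerA : g0 ⟨a, memA⟩ = 1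
  normal : ∀ h, Commute h a → ∀ x ∈ K0, h * x * h⁻¹ ∈ K0
  cases : ((∀ h, Commute h z → Commute h a → h ∈ S.inner) ∧ ∀ h, Commute h a → h ∈ K0) ∨
    ((∀ h, Commute h z → Commute h a) ∧ (∀ h k, Commute h a → Commute k a → h ∉ K0 → k ∉ K0 → h * k ∈ K0) ∧
      ∃ t, Commute t z ∧ Commute t a ∧ t ∉ S.inner ∧ t ∉ K0 ∧ InV z a (t * t))

set_option maxHeartbeats 1000000 in
theorem Setting.exists_cover (S : Setting z a J E P) (hia : ¬ Iso z a) : Nonempty (Cover S) := by
  classical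
  have hn := S.noFix_of_witness hia
  obtain ⟨M₀, hM0c, ⟨eW⟩, hcases⟩ := recognise (Q := KQ a) S.iso S.autCard S.bar_z_order S.JQ_le S.JQ_norm S.JQ_extra
    S.JQ_card (S.bar_mem S.memJ) S.JQ_self S.fQ S.fQ_ker (fun y hy => by
      obtain ⟨i, hiz, hi⟩ := S.fz_surj y
      have hia : Commute i a := S.inner_a ((S.fz_inner hiz).1 (hi ▸ hy))
      exact ⟨⟨bar a i, S.bar_cent hiz hia⟩, (S.fQ_bar hiz hia).trans hi⟩)
    (fun c hc h => S.fix_of_fix hn hc fun i hi => h ⟨bar a i, S.bar_cent (S.inner_comm hi) (S.inner_a hi)⟩ (by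
      rw [S.fQ_bar (S.inner_comm hi) (S.inner_a hi), S.fz_inner (S.inner_comm hi)]; exact hi))
    (S.bar_witness hia)
  have hidx : M₀.index ≤ 2 := by
    rcases hcases with ⟨-, h⟩ | ⟨h, -⟩
    · rw [h, Subgroup.index_top]; norm_num
    · exact h.le
  haveI hM0n : M₀.Normal := ⟨fun n hn g => by
    rw [show g * n * g⁻¹ = (g * n * g⁻¹ * n⁻¹) * n by group]
    exact mul_mem (comm_mem_of_index_le hidx g n) hn⟩
  let C := centralizer ({a} : Set G)
  let K0 : Subgroup G := (M₀.comap (QuotientGroup.mk' ((zpowers a).subgroupOf C))).map C.subtype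
  have hmem : ∀ x, x ∈ K0 ↔ Commute x a ∧ bar a x ∈ M₀ := fun x => by
    constructor
    · rintro ⟨y, hy, rfl⟩
      have hya : Commute (y : G) a := mem_centralizer_singleton_iff.1 y.2
      refine ⟨hya, ?_⟩
      show bar a (y : G) ∈ M₀
      rw [bar_def hya]
      exact hy
    · rintro ⟨hx, hb⟩
      rw [bar_def hx] at hb
      exact ⟨⟨x, mem_centralizer_singleton_iff.2 hx.eq⟩, hb, rfl⟩
  have haK : a ∈ K0 := (hmem a).2 ⟨Commute.refl a, by rw [S.bar_a]; exact one_mem _⟩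
  have hinner : S.inner ≤ K0 := S.inner_gen hn K0 haK fun x hx y hy => by
    refine (hmem _).2 ⟨(((S.inner_a hx).mul_left (S.inner_a hy)).mul_left (S.inner_a hx).inv_left).mul_left
      (S.inner_a hy).inv_left, ?_⟩
    rw [bar_comm (S.inner_a hx) (S.inner_a hy)]
    exact comm_mem_of_index_le hidx _ _
  let g0 : ↥K0 →* ↥W := eW.toMonoidHom.comp
    { toFun := fun x => ⟨bar a x, ((hmem x).1 x.2).2⟩
      map_one' := Subtype.ext (bar_one a)
      map_mul' := fun x y => Subtype.ext (bar_mul ((hmem x).1 x.2).1 ((hmem y).1 y.2).1) }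
  refine ⟨{
    K0 := K0, g0 := g0
    cent := fun x hx => ((hmem x).1 hx).1
    memA := haK
    inner_le := hinner
    surj := fun w => ?_
    ker := fun x hx => ?_
    kerA := ?_
    normal := fun h hh x hx => ?_
    cases := ?_ }⟩
  · obtain ⟨⟨c, hc⟩, rfl⟩ := eW.surjective w
    obtain ⟨x, hxa, e⟩ := bar_surj a c
    exact ⟨⟨x, (hmem x).2 ⟨hxa, e ▸ hc⟩⟩, congrArg eW (Subtype.ext e)⟩
  · have := (map_eq_one_iff eW eW.injective).1 hx
    exact (bar_eq_one S.sqa ((hmem x).1 x.2).1).1 (congrArg Subtype.val this)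
  · exact (map_eq_one_iff eW eW.injective).2 (Subtype.ext S.bar_a)
  · obtain ⟨hxa, hxb⟩ := (hmem x).1 hx
    refine (hmem _).2 ⟨(hh.mul_left hxa).mul_left hh.inv_left, ?_⟩
    rw [bar_conj hh hxa]
    exact hM0n.conj_mem _ hxb _
  · rcases hcases with ⟨hall, htop⟩ | ⟨hi2, t, ht, htM, htt⟩
    · refine Or.inl ⟨fun h hz ha => ?_, fun h ha => (hmem h).2 ⟨ha, htop ▸ Subgroup.mem_top _⟩⟩
      have := hall ⟨bar a h, S.bar_cent hz ha⟩
      rwa [S.fQ_bar hz ha, S.fz_inner hz] at this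
    · obtain ⟨x, hxz, hxa, rfl⟩ := S.lift_cent (mem_centralizer_singleton_iff.2 ht.eq)
      have hxK : x ∉ K0 := fun h => htM ((hmem x).1 h).2
      have hxI : x ∉ S.inner := fun h => hxK (hinner h)
      refine Or.inr ⟨S.two_cases.resolve_right fun h => hxI (h.2 x hxz hxa), fun h k ha ka hh hk => ?_,
        x, hxz, hxa, hxI, hxK, ?_⟩
      · refine (hmem _).2 ⟨ha.mul_left ka, ?_⟩
        rw [bar_mul ha ka, Subgroup.mul_mem_iff_of_index_two hi2]
        exact iff_of_false (fun e => hh ((hmem h).2 ⟨ha, e⟩)) fun e => hk ((hmem k).2 ⟨ka, e⟩)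
      · refine (S.bar_zpowers_iff (hxa.mul_left hxa)).1 (S.bar_zpowers.2 ?_)
        rw [bar_mul hxa hxa]
        exact htt

namespace Cover

variable {S : Setting z a J E P} (C : Cover S)
include C

/-- The derived part. -/
def L : Subgroup G := ⁅C.K0, C.K0⁆

theorem L_le : C.L ≤ C.K0 := Subgroup.commutator_le.2 fun x hx y hy => by
  rw [commutatorElement_def]
  exact mul_mem (mul_mem (mul_mem hx hy) (inv_mem hx)) (inv_mem hy)

theorem L_gen {x : G} (hx : x ∈ C.K0) : x ∈ C.L ∨ a * x ∈ C.L := by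
  have hmap : (_root_.commutator ↥C.K0).map C.g0 = ⊤ := by
    rw [commutator_def, Subgroup.map_commutator, Subgroup.map_top_of_surjective _ C.surj, ← commutator_def, perfect_W]
  obtain ⟨y, hy, e⟩ := hmap.symm ▸ Subgroup.mem_top (C.g0 ⟨x, hx⟩)
  have hyL : (y : G) ∈ C.L := by
    show (y : G) ∈ ⁅C.K0, C.K0⁆
    rw [← Subgroup.map_subtype_commutator]
    exact ⟨y, hy, rfl⟩
  rcases C.ker (y⁻¹ * ⟨x, hx⟩) (by rw [map_mul, map_inv, e, inv_mul_cancel]) with h | h
  · exact Or.inl (by rw [show x = y from (inv_mul_eq_one.1 h).symm]; exact hyL)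
  · refine Or.inr ?_
    have h' : (y : G)⁻¹ * x = a := h
    have e1 : x = (y : G) * a := inv_mul_eq_iff_eq_mul.1 h'
    rw [e1, (C.cent _ y.2).eq, ← mul_assoc, S.sqa, one_mul]
    exact hyL

theorem comm_L {x y : G} (hx : x ∈ C.K0) (hy : y ∈ C.K0) : x * y * x⁻¹ * y⁻¹ ∈ C.L := by
  rw [← commutatorElement_def]
  exact Subgroup.commutator_mem_commutator hx hy

/-- The derived part is perfect. -/
theorem L_le_of_comm {N : Subgroup G} (h : ∀ x ∈ C.L, ∀ y ∈ C.L, x * y * x⁻¹ * y⁻¹ ∈ N) : C.L ≤ N := by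
  refine Subgroup.commutator_le.2 fun x hx y hy => ?_
  rw [commutatorElement_def]
  have kill : ∀ {p q}, p ∈ C.K0 → q ∈ C.K0 → a * p * q * (a * p)⁻¹ * q⁻¹ = p * q * p⁻¹ * q⁻¹ ∧
      p * (a * q) * p⁻¹ * (a * q)⁻¹ = p * q * p⁻¹ * q⁻¹ := fun {p q} hp hq => by
    constructor
    · calc a * p * q * (a * p)⁻¹ * q⁻¹ = a * (p * q * p⁻¹) * a⁻¹ * q⁻¹ := by group
        _ = _ := by rw [← (C.cent _ (mul_mem (mul_mem hp hq) (inv_mem hp))).eq, mul_inv_cancel_right]
    · calc p * (a * q) * p⁻¹ * (a * q)⁻¹ = (p * a) * (q * p⁻¹ * q⁻¹) * a⁻¹ := by group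
        _ = a * (p * q * p⁻¹ * q⁻¹) * a⁻¹ := by rw [(C.cent p hp).eq]; group
        _ = _ := by rw [← (C.cent _ (mul_mem (mul_mem (mul_mem hp hq) (inv_mem hp)) (inv_mem hq))).eq, mul_inv_cancel_right]
  rcases C.L_gen hx with h1 | h1 <;> rcases C.L_gen hy with h2 | h2
  · exact h x h1 y h2
  · rw [← (kill hx hy).2]; exact h x h1 _ h2
  · rw [← (kill hx hy).1]; exact h _ h1 y h2
  · rw [← (kill hx hy).1, ← (kill (mul_mem C.memA hx) hy).2]; exact h _ h1 _ h2

theorem card_K0 : Nat.card ↥C.K0 = 2 * 9196830720 := by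
  classical
  have h := Subgroup.card_eq_card_quotient_mul_card_subgroup C.g0.ker
  rw [Nat.card_congr (QuotientGroup.quotientKerEquivOfSurjective C.g0 C.surj).toEquiv, card_W] at h
  have hk : C.g0.ker = zpowers (⟨a, C.memA⟩ : ↥C.K0) := by
    refine le_antisymm (fun x hx => ?_) (zpowers_le.2 C.kerA)
    rcases C.ker x hx with e | e
    · rw [show x = 1 from Subtype.ext e]; exact one_mem _
    · rw [show x = ⟨a, C.memA⟩ from Subtype.ext e]; exact mem_zpowers _
  rw [hk, Nat.card_zpowers] at h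
  have h2 : orderOf (⟨a, C.memA⟩ : ↥C.K0) = 2 := by
    rw [← orderOf_injective C.K0.subtype C.K0.subtype_injective]
    exact orderOf_eq_prime (by rw [pow_two]; exact S.sqa) S.a_ne
  rw [h2] at h
  omega

/-- A central `a` gives the second conclusion. -/
theorem outcome_central (hc : ∀ g : G, Commute g a) {K : Type w} [Field K] [Fintype K] (hK : Fintype.card K = 4) :
    (zpowers a).Normal ∧ ∃ (G₀ : Subgroup G) (_ : a ∈ G₀), G₀.index = 2 ∧
      ∃ _ : ((zpowers a).subgroupOf G₀).Normal,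
        Nonempty ((↥G₀ ⧸ (zpowers a).subgroupOf G₀) ≃* Cfsg.PSU 6 K 2) := by
  have hk : (zpowers a).subgroupOf C.K0 = C.g0.ker := by
    ext x
    rw [mem_subgroupOf, MonoidHom.mem_ker]
    refine ⟨fun h => ?_, fun h => ?_⟩
    · rcases Ext.eq_one_or_of_zpowers S.sqa h with e | e
      · rw [show x = 1 from Subtype.ext e, map_one]
      · rw [show x = ⟨a, C.memA⟩ from Subtype.ext e, C.kerA]
    · rcases C.ker x h with e | e <;> rw [e]
      · exact one_mem _
      · exact mem_zpowers a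
  haveI hn : ((zpowers a).subgroupOf C.K0).Normal := by rw [hk]; exact MonoidHom.normal_ker _
  refine ⟨⟨fun x hx g => ?_⟩, C.K0, C.memA, ?_, hn, ?_⟩
  · obtain ⟨n, rfl⟩ := hx
    show g * a ^ n * g⁻¹ ∈ zpowers a
    rw [((hc g).zpow_right n).eq, mul_inv_cancel_right]
    exact ⟨n, rfl⟩
  · rcases C.cases with ⟨hA, -⟩ | ⟨-, htwo, t, -, -, -, htK, -⟩
    · exfalso
      obtain ⟨y, hy⟩ : ∃ y : MulAut P, y ∉ (MulAut.conj : P →* MulAut P).range := by
        by_contra h
        push Not at h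
        have := S.range_index
        rw [(Subgroup.eq_top_iff' _).2 h, Subgroup.index_top] at this
        omega
      obtain ⟨x, hx, rfl⟩ := S.fz_surj y
      exact hy ((S.fz_inner hx).2 (hA x hx (hc x)))
    · refine Subgroup.index_eq_two_iff.2 ⟨t, fun b => ?_⟩
      by_cases hb : b ∈ C.K0
      · exact Or.inr ⟨hb, fun e => htK (by have := mul_mem (inv_mem hb) e; rwa [inv_mul_cancel_left] at this)⟩
      · exact Or.inl ⟨htwo b t (hc b) (hc t) hb htK, hb⟩
  · obtain ⟨eK⟩ := model_psu K hK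
    exact ⟨((QuotientGroup.quotientMulEquivOfEq hk).trans
      (QuotientGroup.quotientKerEquivOfSurjective C.g0 C.surj)).trans eK⟩

end Cover

end Cfsg.Lib.FiTwo
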