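import Cfsg.Agent.FiTwoCentral.Fusion

/-!
# The transfer of the outer character
-/

set_option autoImplicit false
set_option Elab.async false
set_option maxRecDepth 100000
set_option linter.style.haveILetI false
set_option linter.unusedSectionVars false

namespace Cfsg.Lib.FiTwo

open Subgroup MulAction Cfsg.Lib.USixType

universe u v

variable {G : Type u} [Group G] [Finite G] {P : Type v} [Group P] {z a : G} {J E : Subgroup G}

namespace Setting

variable (S : Setting z a J E P)
include S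

open _root_.Classical in
/-- Inner or not. -/
noncomputable def sgn : ↥(centralizer ({z} : Set G)) →* ℤˣ :=
  MonoidHom.mk' (fun h => if (h : G) ∈ S.inner then 1 else -1) fun p q => by
    rw [Subgroup.coe_mul]
    by_cases h1 : (p : G) ∈ S.inner <;> by_cases h2 : (q : G) ∈ S.inner <;> simp only [h1, h2, if_true, if_false]
    · rw [if_pos (mul_mem h1 h2)]; rfl
    · rw [if_neg (fun e => h2 (by have := mul_mem (inv_mem h1) e; rwa [inv_mul_cancel_left] at this))]; rfl
    · rw [if_neg (fun e => h1 (by have := mul_mem e (inv_mem h2); rwa [mul_inv_cancel_right] at this))]; rfl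
    · rw [if_pos (S.two (S.comm_z p.2) (S.comm_z q.2) h1 h2)]; rfl

theorem sgn_eq_neg {h : ↥(centralizer ({z} : Set G))} : S.sgn h = -1 ↔ (h : G) ∉ S.inner := by
  classical
  show (if (h : G) ∈ S.inner then (1 : ℤˣ) else -1) = -1 ↔ _
  split <;> simp_all

theorem sgn_eq_one {h : ↥(centralizer ({z} : Set G))} (hh : (h : G) ∈ S.inner) : S.sgn h = 1 := by
  classical
  exact if_pos hh

variable (hB : ∀ h, Commute h z → Commute h a)
include hB

set_option maxHeartbeats 1000000 in
/-- The transfer takes an outer element to minus one. -/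
theorem transfer_neg (c : NC z a J) {x : G} (hxz : Commute x z) (hxI : x ∉ S.inner) (hV : InV z a (x * x))
    (hm : x * x = 1 ∨ ∀ h, Commute h z → h ∉ S.inner → h * h ≠ 1)
    (hQ : (∀ q ∈ J, c.π x (c.β q) = c.β q → Q (c.β q) = false) ∨
      ∀ g, Commute (g * z * g⁻¹) z → g * z * g⁻¹ ∈ S.inner)
    (hs : ∀ g, Commute (g * z * g⁻¹) z → c.π (g * z * g⁻¹) = c.π x → g * z * g⁻¹ ∈ S.inner) :
    MonoidHom.transfer S.sgn x = -1 := by
  classical
  set C := centralizer ({z} : Set G) with hC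
  have hxa := hB x hxz
  have hxU : c.π x ∉ U := fun e => hxI ((S.π_mem_iff c hxz hxa).1 e)
  have hρ := (c.π_mem x hxz hxa).resolve_left hxU
  have hVJ : x * x ∈ J := by
    rcases hV with e | e | e | e <;> rw [e]
    exacts [one_mem J, S.memJ, S.memA, mul_mem S.memA S.memJ]
  have hρ2 : c.π x * c.π x = 1 := by
    rw [← c.π_mul x x hxz hxa hxz hxa, c.π_ker _ (hxz.mul_left hxz) (hxa.mul_left hxa)]
    exact hVJ
  letI : Fintype (Quotient (orbitRel (zpowers x) (G ⧸ C))) := Fintype.ofFinite _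
  rw [MonoidHom.transfer_eq_prod_quotient_orbitRel_zpowers_quot]
  set f : Quotient (orbitRel (zpowers x) (G ⧸ C)) → ℤˣ := fun q =>
    S.sgn ⟨q.out.out⁻¹ * x ^ Function.minimalPeriod (x • ·) q.out * q.out.out,
      QuotientGroup.out_conj_pow_minimalPeriod_mem C x q.out⟩
  set T₀ : Set (G ⧸ C) := {p | x • p = p ∧ p.out⁻¹ * x * p.out ∉ S.inner}
  have hx4 : x ^ 4 = 1 := by rw [show 4 = 2 * 2 from rfl, pow_mul, pow_two x, pow_two, S.inV_sq hV]
  have hone : ∀ q, f q = -1 → Function.minimalPeriod (x • ·) q.out = 1 ∧ q.out ∈ T₀ := by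
    intro q hq
    have hn : Function.minimalPeriod (x • ·) q.out ∣ 4 :=
      pow_smul_eq_iff_minimalPeriod_dvd.1 (by rw [hx4, one_smul])
    have hneg := (S.sgn_eq_neg).1 hq
    simp only at hneg
    have hm' := QuotientGroup.out_conj_pow_minimalPeriod_mem C x q.out
    have hfix := pow_smul_eq_iff_minimalPeriod_dvd.2 (dvd_refl (Function.minimalPeriod (x • ·) q.out))
    generalize Function.minimalPeriod (x • ·) q.out = n at hn hneg hm' hfix ⊢
    have hcases : n = 1 ∨ n = 2 ∨ n = 4 := by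
      have := Nat.le_of_dvd (by norm_num) hn
      interval_cases n <;> revert hn <;> decide
    rcases hcases with rfl | rfl | rfl
    · rw [pow_one] at hfix hneg
      exact ⟨rfl, hfix, hneg⟩
    · exfalso
      rw [pow_two] at hneg hm'
      rcases hm with e | e
      · exact hneg (by rw [e, mul_one, inv_mul_cancel]; exact one_mem _)
      · refine e _ (S.comm_z hm') hneg ?_
        rw [show q.out.out⁻¹ * (x * x) * q.out.out * (q.out.out⁻¹ * (x * x) * q.out.out) =
          q.out.out⁻¹ * ((x * x) * (x * x)) * q.out.out by group, S.inV_sq hV, mul_one, inv_mul_cancel]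
    · exfalso
      rw [hx4, mul_one, inv_mul_cancel] at hneg
      exact hneg (one_mem _)
  have hback : ∀ p ∈ T₀, ∃ q, f q = -1 ∧ q.out = p := fun p hp => by
    refine ⟨Quotient.mk'' p, ?_⟩
    have hout : (Quotient.mk'' p : Quotient (orbitRel (zpowers x) (G ⧸ C))).out = p := by
      have hr := Quotient.mk_out (s := orbitRel (zpowers x) (G ⧸ C)) p
      obtain ⟨⟨_, n, rfl⟩, e⟩ := hr
      rw [← e]
      exact mem_stabilizer_iff.1 (zpow_mem (mem_stabilizer_iff.2 hp.1) n)
    refine ⟨(S.sgn_eq_neg).2 ?_, hout⟩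
    simp only
    rw [hout, (Function.minimalPeriod_eq_one_iff_isFixedPt (f := (x • ·)) (x := p)).2 hp.1, pow_one]
    exact hp.2
  have hcard : (Finset.univ.filter fun q => f q = -1).card = Nat.card T₀ := by
    haveI : Fintype T₀ := Fintype.ofFinite _
    rw [Nat.card_eq_fintype_card, ← Finset.card_univ (α := T₀)]
    refine Finset.card_bij (fun q hq => ⟨q.out, (hone q (Finset.mem_filter.1 hq).2).2⟩) (fun _ _ => Finset.mem_univ _)
      (fun a _ b _ e => Quotient.out_injective (congrArg Subtype.val e)) fun p _ => ?_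
    obtain ⟨q, hq, e⟩ := hback p p.2
    exact ⟨q, Finset.mem_filter.2 ⟨Finset.mem_univ _, hq⟩, Subtype.ext e⟩
  -- an element nearly centralising `x` moves the points
  have hmove : ∀ (y e : G), y⁻¹ * x * y = x * e → ∀ p ∈ T₀, e • p = p →
      p.out⁻¹ * e * p.out ∈ S.inner → y • p ∈ T₀ := by
    intro y e hye p hp hep hei
    have hxp : x • (y • p) = y • p := by
      rw [smul_smul, show x * y = y * (x * e) by rw [← hye]; group, mul_smul, mul_smul, hep, hp.1]
    refine ⟨hxp, fun hin => hp.2 ?_⟩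
    obtain ⟨k, hk⟩ : ∃ k : ↥C, (y • p).out = y * p.out * k := by
      have e : ((y • p).out : G ⧸ C) = ((y * p.out : G) : G ⧸ C) := by
        rw [QuotientGroup.out_eq', ← smul_eq_mul, ← Quotient.coe_smul_out]
      exact ⟨⟨_, QuotientGroup.eq.1 e.symm⟩, (mul_inv_cancel_left _ _).symm⟩
    rw [hk, show (y * p.out * k)⁻¹ * x * (y * p.out * k) =
      (k : G)⁻¹ * (p.out⁻¹ * (y⁻¹ * x * y) * p.out) * k by group, hye] at hin
    have h1 := S.conj_inner (S.comm_z k.2) hin
    rw [show (k : G) * ((k : G)⁻¹ * (p.out⁻¹ * (x * e) * p.out) * k) * (k : G)⁻¹ =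
      (p.out⁻¹ * x * p.out) * (p.out⁻¹ * e * p.out) by group] at h1
    have := mul_mem h1 (inv_mem hei)
    rwa [mul_inv_cancel_right] at this
  have hsmul : ∀ (y : G) (p : G ⧸ C), y • p = p → Commute y (p.out * z * p.out⁻¹) := fun y p hy => by
    have e : ((y * p.out : G) : G ⧸ C) = (p.out : G ⧸ C) := by
      rw [← smul_eq_mul, ← MulAction.Quotient.smul_coe, QuotientGroup.out_eq', hy]
    have := mem_centralizer_singleton_iff.1 (QuotientGroup.eq.1 e)
    set g := p.out
    show y * (g * z * g⁻¹) = g * z * g⁻¹ * y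
    have e2 : (y * g)⁻¹ * g * z = z * ((y * g)⁻¹ * g) := this
    calc y * (g * z * g⁻¹) = y * g * (z * ((y * g)⁻¹ * g)) * g⁻¹ * y := by group
      _ = y * g * ((y * g)⁻¹ * g * z) * g⁻¹ * y := by rw [e2]
      _ = _ := by group
  -- reduction to the points fixed by the involution
  letI : MulAction ↥(zpowers z) T₀ :=
    { smul := fun y p => ⟨(y : G) • p.1, hmove y 1 (by
        obtain ⟨n, hn⟩ := y.2
        rw [mul_one, mul_assoc, show x * (y : G) = y * x by rw [← hn]; exact (hxz.zpow_right n).eq,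
          inv_mul_cancel_left]) p.1 p.2 (one_smul G p.1) (by simp [one_mem])⟩
      one_smul := fun p => Subtype.ext (one_smul G p.1)
      mul_smul := fun y y' p => Subtype.ext (mul_smul (y : G) y' p.1) }
  haveI : Fact (Nat.Prime 2) := ⟨Nat.prime_two⟩
  have hzp : IsPGroup 2 ↥(zpowers z) := IsPGroup.of_card (n := 1) (by rw [Nat.card_zpowers, S.order, pow_one])
  have hmod1 := hzp.card_modEq_card_fixedPoints T₀
  set T₁ : Set (G ⧸ C) := {p | p ∈ T₀ ∧ z • p = p}
  have hT1 : Nat.card (fixedPoints ↥(zpowers z) T₀) = Nat.card T₁ := Nat.card_congr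
    { toFun := fun p => ⟨p.1.1, p.1.2, congrArg Subtype.val (p.2 ⟨z, mem_zpowers z⟩)⟩
      invFun := fun p => ⟨⟨p.1, p.2.1⟩, fun y => by
        obtain ⟨_, n, rfl⟩ := y
        exact Subtype.ext (mem_stabilizer_iff.1 (zpow_mem (mem_stabilizer_iff.2 p.2.2) n))⟩
      left_inv := fun _ => rfl
      right_inv := fun _ => rfl }
  -- parity
  let Q0 : Subgroup G :=
    { carrier := {q | q ∈ J ∧ c.π x (c.β q) = c.β q}
      one_mem' := ⟨one_mem J, by rw [c.β_one]; exact hρ.map_zero⟩
      mul_mem' := fun {a b} ha hb => ⟨mul_mem ha.1 hb.1, by rw [c.β_mul a ha.1 b hb.1, hρ.map_add, ha.2, hb.2]⟩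
      inv_mem' := fun {a} ha => ⟨inv_mem ha.1, by rw [c.β_inv ha.1, ha.2]⟩ }
  have hinv1 : ∀ q : ↥Q0, ∀ p ∈ T₁, (q : G) • p ∈ T₁ := by
    intro q p hp
    refine ⟨?_, by rw [smul_smul, ← (S.commJ q.2.1).eq, ← smul_smul, hp.2]⟩
    have hsh := S.shift c hxz hxa hρ hV q.2.1 q.2.2
    have hd : ∀ b, Commute x (zp z b) := fun b => Coord.zp_comm hxz b
    refine hmove q (zp z (Q (c.β q))) ?_ p hp.1 ?_ ?_
    · rw [(hd _).eq, show (q : G)⁻¹ * x * q = ((q : G)⁻¹ * (x * q * x⁻¹)) * x by group, hsh, inv_mul_cancel_left]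
    · cases Q (c.β q)
      · exact one_smul G p
      · exact hp.2
    · rcases hQ with h | h
      · rw [h q q.2.1 q.2.2]
        simp [zp, one_mem]
      · cases Q (c.β q)
        · simp [zp, one_mem]
        · show p.out⁻¹ * z * p.out ∈ S.inner
          have hmem : Commute (p.out⁻¹ * z * p.out⁻¹⁻¹) z := by
            rw [inv_inv]
            exact commute_back _ (hsmul z p hp.2)
          have := h p.out⁻¹ hmem
          rwa [inv_inv] at this
  letI : MulAction ↥Q0 T₁ :=
    { smul := fun q p => ⟨(q : G) • p.1, hinv1 q p.1 p.2⟩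
      one_smul := fun p => Subtype.ext (one_smul G p.1)
      mul_smul := fun a b p => Subtype.ext (mul_smul (a : G) b p.1) }
  have hp : IsPGroup 2 ↥Q0 := S.J_two.to_le (fun q hq => hq.1)
  have hmod := hp.card_modEq_card_fixedPoints T₁
  have hone' : ((1 : G) : G ⧸ C) ∈ T₁ := by
    have hfix : ∀ y ∈ C, y • ((1 : G) : G ⧸ C) = ((1 : G) : G ⧸ C) := fun y hy => by
      show ((y • (1 : G) : G) : G ⧸ C) = _
      rw [smul_eq_mul, mul_one, QuotientGroup.eq, mul_one]
      exact C.inv_mem hy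
    refine ⟨⟨hfix x (Setting.memC hxz), ?_⟩, hfix z (S.le S.memJ)⟩
    obtain ⟨k, hk⟩ : ∃ k : ↥C, ((1 : G) : G ⧸ C).out = k :=
      ⟨⟨_, by
        have := QuotientGroup.eq.1 (QuotientGroup.out_eq' ((1 : G) : G ⧸ C)).symm
        rwa [inv_one, one_mul] at this⟩, rfl⟩
    rw [hk]
    intro hin
    have := S.conj_inner (S.comm_z k.2) hin
    rw [show (k : G) * ((k : G)⁻¹ * x * k) * (k : G)⁻¹ = x by group] at this
    exact hxI this
  have hfp : fixedPoints ↥Q0 T₁ = {⟨_, hone'⟩} := by
    ext p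
    constructor
    · intro hp'
      refine Set.mem_singleton_iff.2 (Subtype.ext ?_)
      set g := p.1.out with hg
      have hq : ∀ q : ↥Q0, Commute (q : G) (g * z * g⁻¹) := fun q =>
        hsmul q p.1 (congrArg Subtype.val (hp' q))
      have hsz : Commute (g * z * g⁻¹) z := (hsmul z p.1 p.2.2).symm
      have hsx : Commute x (g * z * g⁻¹) := hsmul x p.1 p.2.1.1
      have hsa := hB _ hsz
      have hfixr : ∀ r, c.π x r = r → c.π (g * z * g⁻¹) r = r := fun r hr => by
        obtain ⟨q, hqJ, rfl⟩ := c.β_surj r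
        exact c.fixed hsz hsa hqJ (hq ⟨q, hqJ, hr⟩)
      have hs2 := c.π_sq hsz hsa (conj_sq S.z_sq g)
      have hin : g * z * g⁻¹ ∈ S.inner := by
        by_contra hn
        have hsU : c.π (g * z * g⁻¹) ∉ U := fun e => hn ((S.π_mem_iff c hsz hsa).1 e)
        refine hn (hs g hsz ?_)
        have h1 : c.π (g * z * g⁻¹) * c.π x = 1 := Ext.ext_lin hρ hρ2
          (((c.π_mem _ hsz hsa).resolve_left hsU).mul_semi hρ) fun r hr => by
            rw [Equiv.Perm.mul_apply, hr, hfixr r hr]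
        exact (eq_inv_of_mul_eq_one_left h1).trans (inv_eq_of_mul_eq_one_left hρ2)
      have h1 : c.π (g * z * g⁻¹) = 1 := Ext.ext_lin hρ hρ2 (lin_of_mem (S.π_of_inner c hin)) hfixr
      have hgz := S.z_in_J hB c ((c.π_ker _ hsz hsa).1 h1)
      rw [← QuotientGroup.out_eq' p.1, ← hg, QuotientGroup.eq, mul_one]
      exact C.inv_mem (Setting.memC (mul_inv_eq_iff_eq_mul.1 hgz))
    · intro hp'
      rw [Set.mem_singleton_iff.1 hp']
      intro q
      refine Subtype.ext ?_
      show (((q : G) • (1 : G) : G) : G ⧸ C) = _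
      rw [smul_eq_mul, mul_one, QuotientGroup.eq, mul_one]
      exact C.inv_mem (S.le q.2.1)
  have hodd : Odd (Nat.card T₀) := by
    rw [Nat.card_coe_set_eq (fixedPoints ↥Q0 T₁), hfp, Set.ncard_singleton] at hmod
    rw [hT1] at hmod1
    exact Nat.odd_iff.2 (hmod1.trans hmod)
  have hprod : ∏ q, f q = (-1 : ℤˣ) ^ (Finset.univ.filter fun q => f q = -1).card := by
    rw [← Finset.prod_filter_mul_prod_filter_not Finset.univ (fun q => f q = -1), Finset.prod_eq_one
      (s := Finset.univ.filter fun q => ¬f q = -1) (fun q hq =>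
        (Int.units_eq_one_or (f q)).resolve_right (Finset.mem_filter.1 hq).2), mul_one,
      Finset.prod_congr rfl (fun q hq => (Finset.mem_filter.1 hq).2), Finset.prod_const]
  show ∏ q, f q = -1
  rw [hprod, hcard, hodd.neg_one_pow]

/-- An element with non-trivial transfer. -/
theorem exists_neg (c : NC z a J) (C : Cover S) :
    ∃ x, Commute x z ∧ x ∉ S.inner ∧ MonoidHom.transfer S.sgn x = -1 := by
  by_cases hX : ∃ h, Commute h z ∧ h ∉ S.inner ∧ h * h = 1 ∧ Alt (c.π h)
  · obtain ⟨x, hxz, hxI, hx2, halt⟩ := hX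
    exact ⟨x, hxz, hxI, S.transfer_neg hB c hxz hxI (Or.inl hx2) (Or.inl hx2) (Or.inl fun q _ hq => halt _ hq)
      fun g hg e => S.no_outer_z hB c hg (Or.inl (e ▸ halt))⟩
  push Not at hX
  have hno : ∀ g, Commute (g * z * g⁻¹) z → g * z * g⁻¹ ∈ S.inner := fun g hg =>
    S.no_outer_z hB c hg (Or.inr hX)
  by_cases hinv : ∃ h, Commute h z ∧ h ∉ S.inner ∧ h * h = 1
  · obtain ⟨x, hxz, hxI, hx2⟩ := hinv
    exact ⟨x, hxz, hxI, S.transfer_neg hB c hxz hxI (Or.inl hx2) (Or.inl hx2) (Or.inr hno) fun g hg _ => hno g hg⟩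
  push Not at hinv
  obtain ⟨t, htz, hta, htI, -, htV⟩ : ∃ t, Commute t z ∧ Commute t a ∧ t ∉ S.inner ∧ t ∉ C.K0 ∧ InV z a (t * t) := by
    rcases C.cases with ⟨hA, -⟩ | ⟨-, -, h⟩
    · obtain ⟨y, hy⟩ : ∃ y : MulAut P, y ∉ (MulAut.conj : P →* MulAut P).range := by
        by_contra h
        push Not at h
        have := S.range_index
        rw [(Subgroup.eq_top_iff' _).2 h, Subgroup.index_top] at this
        omega
      obtain ⟨x, hx, rfl⟩ := S.fz_surj y
      exact absurd ((S.fz_inner hx).2 (hA x hx (hB x hx))) hy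
    · exact h
  exact ⟨t, htz, htI, S.transfer_neg hB c htz htI htV (Or.inr hinv) (Or.inr hno) fun g hg _ => hno g hg⟩

end Setting

end Cfsg.Lib.FiTwo
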