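import Cfsg.Agent.FiTwoCentral.Basic

/-!
# The centraliser of the central involution modulo it
-/

set_option autoImplicit false
set_option Elab.async false
set_option linter.style.haveILetI false
set_option linter.unusedSectionVars false

namespace Cfsg.Lib.FiTwo

open Subgroup Cfsg.Lib.USixType

universe u v

variable {G : Type u} [Group G] {P : Type v} [Group P]

instance normal_zpowers_cent (a : G) : ((zpowers a).subgroupOf (centralizer ({a} : Set G))).Normal :=
  ⟨fun x hx g => by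
    rw [mem_subgroupOf] at hx ⊢
    obtain ⟨n, hn⟩ := hx
    refine ⟨n, ?_⟩
    show a ^ n = (g : G) * x * (g : G)⁻¹
    rw [← show a ^ n = (x : G) from hn,
      ((show Commute (g : G) a from mem_centralizer_singleton_iff.1 g.2).zpow_right n).eq, mul_inv_cancel_right]⟩

/-- The centraliser of `a` modulo `a`. -/
abbrev KQ (a : G) : Type u :=
  ↥(centralizer ({a} : Set G)) ⧸ (zpowers a).subgroupOf (centralizer ({a} : Set G))

open _root_.Classical in
/-- The image of an element. -/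
noncomputable def bar (a x : G) : KQ a :=
  if h : x ∈ centralizer ({a} : Set G) then QuotientGroup.mk (⟨x, h⟩ : ↥(centralizer ({a} : Set G))) else 1

theorem bar_def {a x : G} (h : Commute x a) :
    bar a x = QuotientGroup.mk (⟨x, mem_centralizer_singleton_iff.2 h.eq⟩ : ↥(centralizer ({a} : Set G))) :=
  dif_pos (mem_centralizer_singleton_iff.2 h.eq)

theorem bar_surj (a : G) (c : KQ a) : ∃ x, Commute x a ∧ bar a x = c := by
  obtain ⟨x, rfl⟩ := QuotientGroup.mk_surjective c
  exact ⟨x, mem_centralizer_singleton_iff.1 x.2, bar_def (mem_centralizer_singleton_iff.1 x.2)⟩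

theorem bar_mul {a x y : G} (hx : Commute x a) (hy : Commute y a) : bar a (x * y) = bar a x * bar a y := by
  rw [bar_def (hx.mul_left hy), bar_def hx, bar_def hy]
  rfl

theorem bar_inv {a x : G} (hx : Commute x a) : bar a x⁻¹ = (bar a x)⁻¹ := by
  rw [bar_def hx.inv_left, bar_def hx]
  rfl

theorem bar_one (a : G) : bar a (1 : G) = 1 := by
  rw [bar_def (Commute.one_left a)]
  rfl

theorem bar_comm {a x y : G} (hx : Commute x a) (hy : Commute y a) :
    bar a (x * y * x⁻¹ * y⁻¹) = bar a x * bar a y * (bar a x)⁻¹ * (bar a y)⁻¹ := by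
  rw [bar_mul ((hx.mul_left hy).mul_left hx.inv_left) hy.inv_left, bar_mul (hx.mul_left hy) hx.inv_left,
    bar_mul hx hy, bar_inv hx, bar_inv hy]

theorem bar_conj {a x y : G} (hx : Commute x a) (hy : Commute y a) :
    bar a (x * y * x⁻¹) = bar a x * bar a y * (bar a x)⁻¹ := by
  rw [bar_mul (hx.mul_left hy) hx.inv_left, bar_mul hx hy, bar_inv hx]

theorem bar_eq_one {a x : G} (ha : a * a = 1) (hx : Commute x a) : bar a x = 1 ↔ x = 1 ∨ x = a := by
  rw [bar_def hx, QuotientGroup.eq_one_iff, mem_subgroupOf]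
  refine ⟨fun h => Ext.eq_one_or_of_zpowers ha h, fun h => ?_⟩
  rcases h with rfl | rfl
  · exact one_mem _
  · exact mem_zpowers _

theorem bar_eq {a x y : G} (ha : a * a = 1) (hx : Commute x a) (hy : Commute y a) :
    bar a x = bar a y ↔ y = x ∨ y = x * a := by
  rw [← inv_mul_eq_one, ← bar_inv hx, ← bar_mul hx.inv_left hy, bar_eq_one ha (hx.inv_left.mul_left hy)]
  exact or_congr (inv_mul_eq_one.trans eq_comm) inv_mul_eq_iff_eq_mul

namespace Setting

variable {z a : G} {J E : Subgroup G}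

/-- The core modulo `a`. -/
noncomputable def JQ (_S : Setting z a J E P) : Subgroup (KQ a) :=
  (J.subgroupOf (centralizer ({a} : Set G))).map (QuotientGroup.mk' _)

variable (S : Setting z a J E P)
include S

theorem commA {q : G} (hq : q ∈ J) : Commute q a := (S.comA q hq).symm

theorem bar_a : bar a a = 1 := (bar_eq_one S.sqa (Commute.refl a)).2 (Or.inr rfl)

theorem bar_mem {q : G} (hq : q ∈ J) : bar a q ∈ S.JQ :=
  ⟨⟨q, mem_centralizer_singleton_iff.2 (S.commA hq).eq⟩, hq, (bar_def (S.commA hq)).symm⟩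

theorem exists_bar {c : KQ a} (hc : c ∈ S.JQ) : ∃ q ∈ J, bar a q = c := by
  obtain ⟨q, hq, rfl⟩ := hc
  exact ⟨q, hq, bar_def (mem_centralizer_singleton_iff.1 q.2)⟩

theorem mem_of_bar {x : G} (hx : Commute x a) (h : bar a x ∈ S.JQ) : x ∈ J := by
  obtain ⟨q, hq, e⟩ := S.exists_bar h
  rcases (bar_eq S.sqa (S.commA hq) hx).1 e with rfl | rfl
  · exact hq
  · exact mul_mem hq S.memA

theorem bar_z_ne : bar a z ≠ 1 := fun e => by
  rcases (bar_eq_one S.sqa S.comAz.symm).1 e with h | h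
  · exact S.z_ne h
  · exact S.a_ne_z h.symm

theorem bar_z_order : orderOf (bar a z) = 2 :=
  orderOf_eq_prime (by rw [pow_two, ← bar_mul S.comAz.symm S.comAz.symm, S.z_sq, bar_one]) S.bar_z_ne

theorem bar_zpowers {c : KQ a} : c ∈ zpowers (bar a z) ↔ c = 1 ∨ c = bar a z := by
  refine ⟨fun h => Ext.eq_one_or_of_zpowers ?_ h, fun h => ?_⟩
  · rw [← bar_mul S.comAz.symm S.comAz.symm, S.z_sq, bar_one]
  · rcases h with rfl | rfl
    · exact one_mem _
    · exact mem_zpowers _

theorem comm_z_a {h : G} (hh : InV z a h) : Commute h z ∧ Commute h a := by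
  rcases hh with rfl | rfl | rfl | rfl
  · exact ⟨Commute.one_left _, Commute.one_left _⟩
  · exact ⟨Commute.refl _, S.comAz.symm⟩
  · exact ⟨S.comAz, Commute.refl _⟩
  · exact ⟨S.comAz.mul_left (Commute.refl _), (Commute.refl a).mul_left S.comAz.symm⟩

/-- Vanishing in the double quotient. -/
theorem bar_zpowers_iff {x : G} (hx : Commute x a) : bar a x ∈ zpowers (bar a z) ↔ InV z a x := by
  rw [S.bar_zpowers, bar_eq_one S.sqa hx, eq_comm (a := bar a x), bar_eq S.sqa S.comAz.symm hx,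
    show z * a = a * z from S.comAz.eq.symm]
  unfold InV
  tauto

theorem bar_commute [Finite G] {x : G} (hx : Commute x a) : Commute (bar a x) (bar a z) ↔ Commute x z := by
  refine ⟨fun h => ?_, fun h => ?_⟩
  · have e : bar a z = bar a (x * z * x⁻¹) := by
      rw [bar_conj hx S.comAz.symm, h.eq, mul_inv_cancel_right]
    rcases (bar_eq S.sqa S.comAz.symm ((hx.mul_left S.comAz.symm).mul_left hx.inv_left)).1 e with h' | h'
    · exact mul_inv_eq_iff_eq_mul.1 h'
    · exact absurd (h'.trans S.comAz.eq.symm) (S.not_conj_az x)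
  · show bar a x * bar a z = bar a z * bar a x
    rw [← bar_mul hx S.comAz.symm, ← bar_mul S.comAz.symm hx, h.eq]

theorem lift_cent [Finite G] {c : KQ a} (hc : c ∈ centralizer ({bar a z} : Set (KQ a))) :
    ∃ x, Commute x z ∧ Commute x a ∧ bar a x = c := by
  obtain ⟨x, hx, rfl⟩ := bar_surj a c
  exact ⟨x, (S.bar_commute hx).1 (mem_centralizer_singleton_iff.1 hc), hx, rfl⟩

theorem bar_cent [Finite G] {x : G} (hxz : Commute x z) (hxa : Commute x a) :
    bar a x ∈ centralizer ({bar a z} : Set (KQ a)) :=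
  mem_centralizer_singleton_iff.2 ((S.bar_commute hxa).2 hxz).eq

open _root_.Classical in
/-- The automorphism of an element. -/
noncomputable def fz (x : G) : MulAut P :=
  if h : x ∈ centralizer ({z} : Set G) then S.f ⟨x, h⟩ else 1

theorem fz_def {x : G} (h : Commute x z) : S.fz x = S.f ⟨x, memC h⟩ := dif_pos (memC h)

theorem fz_mul {x y : G} (hx : Commute x z) (hy : Commute y z) : S.fz (x * y) = S.fz x * S.fz y := by
  rw [S.fz_def (hx.mul_left hy), S.fz_def hx, S.fz_def hy, ← map_mul]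
  rfl

theorem fz_inv {x : G} (hx : Commute x z) : S.fz x⁻¹ = (S.fz x)⁻¹ := by
  rw [S.fz_def hx.inv_left, S.fz_def hx, ← map_inv]
  rfl

theorem fz_eq_one {x : G} (hx : Commute x z) : S.fz x = 1 ↔ x ∈ J := by
  rw [S.fz_def hx]
  exact S.ker _

theorem fz_inner {x : G} (hx : Commute x z) : S.fz x ∈ (MulAut.conj : P →* MulAut P).range ↔ x ∈ S.inner := by
  rw [S.fz_def hx]
  exact (S.mem_inner ⟨x, memC hx⟩).symm

theorem fz_surj (g : MulAut P) : ∃ x, Commute x z ∧ S.fz x = g := by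
  obtain ⟨⟨x, hx⟩, rfl⟩ := S.surj g
  exact ⟨x, S.comm_z hx, S.fz_def (S.comm_z hx)⟩

theorem fz_bar {x y : G} (hx : Commute x z) (hy : Commute y z) (hxa : Commute x a) (hya : Commute y a)
    (e : bar a x = bar a y) : S.fz x = S.fz y := by
  rcases (bar_eq S.sqa hxa hya).1 e with rfl | rfl
  · rfl
  · rw [S.fz_mul hx S.comAz, (S.fz_eq_one S.comAz).2 S.memA, mul_one]

/-- The map to the automorphisms below. -/
noncomputable def fQ [Finite G] : ↥(centralizer ({bar a z} : Set (KQ a))) →* MulAut P where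
  toFun c := S.fz (S.lift_cent c.2).choose
  map_one' := by
    obtain ⟨h1, h2, h3⟩ := (S.lift_cent (one_mem (centralizer ({bar a z} : Set (KQ a))))).choose_spec
    rw [S.fz_bar h1 (Commute.one_left z) h2 (Commute.one_left a) (h3.trans (bar_one a).symm),
      (S.fz_eq_one (Commute.one_left z)).2 (one_mem J)]
  map_mul' c d := by
    obtain ⟨h1, h2, h3⟩ := (S.lift_cent c.2).choose_spec
    obtain ⟨k1, k2, k3⟩ := (S.lift_cent d.2).choose_spec
    obtain ⟨l1, l2, l3⟩ := (S.lift_cent (mul_mem c.2 d.2)).choose_spec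
    rw [← S.fz_mul h1 k1]
    exact S.fz_bar l1 (h1.mul_left k1) l2 (h2.mul_left k2) (l3.trans (by rw [bar_mul h2 k2, h3, k3]))

theorem fQ_bar [Finite G] {x : G} (hxz : Commute x z) (hxa : Commute x a) :
    S.fQ ⟨bar a x, S.bar_cent hxz hxa⟩ = S.fz x := by
  obtain ⟨h1, h2, h3⟩ := (S.lift_cent (S.bar_cent hxz hxa)).choose_spec
  exact S.fz_bar h1 hxz h2 hxa h3

theorem fQ_ker [Finite G] (c : ↥(centralizer ({bar a z} : Set (KQ a)))) : S.fQ c = 1 ↔ (c : KQ a) ∈ S.JQ := by
  obtain ⟨c, hc⟩ := c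
  obtain ⟨x, hxz, hxa, rfl⟩ := S.lift_cent hc
  rw [show (⟨bar a x, hc⟩ : ↥(centralizer ({bar a z} : Set (KQ a)))) = ⟨bar a x, S.bar_cent hxz hxa⟩ from rfl,
    S.fQ_bar hxz hxa, S.fz_eq_one hxz]
  exact ⟨S.bar_mem, S.mem_of_bar hxa⟩

theorem JQ_le [Finite G] : S.JQ ≤ centralizer ({bar a z} : Set (KQ a)) := fun c hc => by
  obtain ⟨q, hq, rfl⟩ := S.exists_bar hc
  exact S.bar_cent (S.commJ hq) (S.commA hq)

theorem JQ_norm [Finite G] : centralizer ({bar a z} : Set (KQ a)) ≤ normalizer (S.JQ : Set (KQ a)) := fun c hc =>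
  Cfsg.Lib.ZStarApps.mem_normalizer_of_maps fun d hd => by
    obtain ⟨x, hxz, hxa, rfl⟩ := S.lift_cent hc
    obtain ⟨q, hq, rfl⟩ := S.exists_bar hd
    rw [← bar_conj hxa (S.commA hq)]
    exact S.bar_mem (S.conj_J hxz hq)

/-- The complement maps isomorphically. -/
noncomputable def equivE [Finite G] : ↥E ≃* ↥S.JQ :=
  MulEquiv.ofBijective
    ({ toFun := fun e => ⟨bar a (e : G), S.bar_mem (S.leE e.2)⟩
       map_one' := Subtype.ext (bar_one a)
       map_mul' := fun p q => Subtype.ext (bar_mul (S.commA (S.leE p.2)) (S.commA (S.leE q.2))) } : ↥E →* ↥S.JQ)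
    ⟨fun p q e => by
      rcases (bar_eq S.sqa (S.commA (S.leE p.2)) (S.commA (S.leE q.2))).1 (congrArg Subtype.val e) with h | h
      · exact Subtype.ext h.symm
      · exfalso
        refine S.notE ?_
        rw [show a = (p : G)⁻¹ * q by rw [h, inv_mul_cancel_left]]
        exact mul_mem (inv_mem p.2) q.2,
    fun c => by
      obtain ⟨q, hq, e⟩ := S.exists_bar c.2
      rcases S.split q hq with h | h
      · exact ⟨⟨q, h⟩, Subtype.ext e⟩
      · exact ⟨⟨a * q, h⟩, Subtype.ext (by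
          show bar a (a * q) = _
          rw [bar_mul (Commute.refl a) (S.commA hq), S.bar_a, one_mul, e])⟩⟩

theorem JQ_extra [Finite G] : Cfsg.IsExtraspecial 2 ↥S.JQ := Ext.extraspecial_congr S.equivE S.extra

theorem JQ_card [Finite G] : Nat.card ↥S.JQ = 2 ^ 9 := by rw [← Nat.card_congr S.equivE.toEquiv, S.cardE]

/-- An element inducing only multiples of `a` on the core is in it. -/
theorem mem_of_shift [Finite G] {h : G} (hh : Commute h z) (hha : Commute h a)
    (hs : ∀ q ∈ J, h * q * h⁻¹ = q ∨ h * q * h⁻¹ = q * a) : h ∈ J := by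
  classical
  haveI := S.finiteP
  let T : Subgroup G :=
    { carrier := {x | Commute x z ∧ Commute x a ∧ ∀ q ∈ J, x * q * x⁻¹ = q ∨ x * q * x⁻¹ = q * a}
      one_mem' := ⟨Commute.one_left z, Commute.one_left a, fun q _ => Or.inl (by group)⟩
      mul_mem' := fun {p r} hp hr => ⟨hp.1.mul_left hr.1, hp.2.1.mul_left hr.2.1, fun q hq => by
        rw [show p * r * q * (p * r)⁻¹ = p * (r * q * r⁻¹) * p⁻¹ by group]
        rcases hr.2.2 q hq with e | e <;> rw [e]
        · exact hp.2.2 q hq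
        · rw [show p * (q * a) * p⁻¹ = (p * q * p⁻¹) * (p * a * p⁻¹) by group, hp.2.1.eq, mul_inv_cancel_right]
          rcases hp.2.2 q hq with e' | e' <;> rw [e']
          · exact Or.inr rfl
          · exact Or.inl (by rw [mul_assoc, S.sqa, mul_one])⟩
      inv_mem' := fun {p} hp => ⟨hp.1.inv_left, hp.2.1.inv_left, fun q hq => by
        have hq' : p⁻¹ * q * p⁻¹⁻¹ ∈ J := S.conj_J hp.1.inv_left hq
        rcases hp.2.2 _ hq' with e | e <;>
          rw [show p * (p⁻¹ * q * p⁻¹⁻¹) * p⁻¹ = q by group] at e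
        · exact Or.inl e.symm
        · exact Or.inr (by nth_rewrite 2 [e]; rw [mul_assoc _ a, S.sqa, mul_one])⟩ }
  let g : ↥T →* MulAut P :=
    { toFun := fun t => S.fz t
      map_one' := (S.fz_eq_one (Commute.one_left z)).2 (one_mem J)
      map_mul' := fun p q => S.fz_mul p.2.1 q.2.1 }
  have hp : IsPGroup 2 ↥T := fun t => ⟨2, by
    have h2 : InV z a ((t : G) * t) := S.cent (t.2.1.mul_left t.2.1) fun q hq => by
      refine mul_inv_eq_iff_eq_mul.1 ?_
      rw [show (t : G) * t * q * ((t : G) * t)⁻¹ = (t : G) * ((t : G) * q * (t : G)⁻¹) * (t : G)⁻¹ by group]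
      rcases t.2.2.2 q hq with e | e <;> rw [e]
      · exact e
      · rw [show (t : G) * (q * a) * (t : G)⁻¹ = ((t : G) * q * (t : G)⁻¹) * ((t : G) * a * (t : G)⁻¹) by group, e,
          t.2.2.1.eq, mul_inv_cancel_right, mul_assoc, S.sqa, mul_one]
    refine Subtype.ext ?_
    rw [SubmonoidClass.coe_pow, OneMemClass.coe_one, show (2 : ℕ) ^ 2 = 2 * 2 from rfl, pow_mul, pow_two (t : G),
      pow_two]
    rcases h2 with e | e | e | e <;> rw [e]
    · exact one_mul 1
    · exact S.z_sq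
    · exact S.sqa
    · rw [show a * z * (a * z) = a * (z * a) * z by group, ← S.comAz.eq, show a * (a * z) * z = a * a * (z * z) by group,
        S.sqa, S.z_sq, one_mul]⟩
  have hnorm : ∀ g' ∈ (MulAut.conj : P →* MulAut P).range, ∀ x ∈ g.range, g' * x * g'⁻¹ ∈ g.range := by
    intro g' hg' x hx
    obtain ⟨i, hi, rfl⟩ := S.fz_surj g'
    obtain ⟨t, rfl⟩ := hx
    have hia : Commute i a := S.inner_a ((S.fz_inner hi).1 hg')
    refine ⟨⟨i * t * i⁻¹, (hi.mul_left t.2.1).mul_left hi.inv_left, (hia.mul_left t.2.2.1).mul_left hia.inv_left,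
      fun q hq => ?_⟩, ?_⟩
    · have hq' := S.conj_J hi.inv_left hq
      rw [show i * t * i⁻¹ * q * (i * t * i⁻¹)⁻¹ = i * ((t : G) * (i⁻¹ * q * i⁻¹⁻¹) * (t : G)⁻¹) * i⁻¹ by group]
      rcases t.2.2.2 _ hq' with e | e <;> rw [e]
      · exact Or.inl (by group)
      · exact Or.inr (by
          rw [show i * (i⁻¹ * q * i⁻¹⁻¹ * a) * i⁻¹ = q * (i * a * i⁻¹) by group, hia.eq, mul_inv_cancel_right])
    · show S.fz (i * t * i⁻¹) = S.fz i * S.fz t * (S.fz i)⁻¹
      rw [S.fz_mul (hi.mul_left t.2.1) hi.inv_left, S.fz_mul hi t.2.1, S.fz_inv hi]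
  exact (S.fz_eq_one hh).1 (two_trivial S.iso.some g.range (IsPGroup.of_surjective (hp) g.rangeRestrict
    g.rangeRestrict_surjective) hnorm _ ⟨⟨h, hh, hha, hs⟩, rfl⟩)

theorem JQ_self [Finite G] (c : KQ a) (hc : c ∈ centralizer ({bar a z} : Set (KQ a)))
    (h : ∀ q ∈ S.JQ, c * q = q * c) : c ∈ S.JQ := by
  obtain ⟨x, hxz, hxa, rfl⟩ := S.lift_cent hc
  refine S.bar_mem (S.mem_of_shift hxz hxa fun q hq => ?_)
  refine (bar_eq S.sqa (S.commA hq) ((hxa.mul_left (S.commA hq)).mul_left hxa.inv_left)).1 ?_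
  rw [bar_conj hxa (S.commA hq), h _ (S.bar_mem hq), mul_inv_cancel_right]

/-- The inner part below. -/
noncomputable def IQ : Subgroup (KQ a) :=
  (S.inner.subgroupOf (centralizer ({a} : Set G))).map (QuotientGroup.mk' _)

theorem bar_mem_IQ [Finite G] {x : G} (hx : x ∈ S.inner) : bar a x ∈ S.IQ :=
  ⟨⟨x, mem_centralizer_singleton_iff.2 (S.inner_a hx).eq⟩, hx, (bar_def (S.inner_a hx)).symm⟩

theorem exists_bar_IQ [Finite G] {c : KQ a} (hc : c ∈ S.IQ) : ∃ x ∈ S.inner, bar a x = c := by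
  obtain ⟨q, hq, rfl⟩ := hc
  exact ⟨q, hq, bar_def (mem_centralizer_singleton_iff.1 q.2)⟩

theorem mem_inner_of_bar [Finite G] {x : G} (hx : Commute x a) (h : bar a x ∈ S.IQ) : x ∈ S.inner := by
  obtain ⟨q, hq, e⟩ := S.exists_bar_IQ h
  rcases (bar_eq S.sqa (S.inner_a hq) hx).1 e with rfl | rfl
  · exact hq
  · exact mul_mem hq (S.J_le_inner S.memA)

theorem IQ_le [Finite G] : S.IQ ≤ centralizer ({bar a z} : Set (KQ a)) := fun c hc => by
  obtain ⟨x, hx, rfl⟩ := S.exists_bar_IQ hc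
  exact S.bar_cent (S.inner_comm hx) (S.inner_a hx)

/-- No element outside the centre is central modulo it for the inner part. -/
def NoFix : Prop := ∀ q ∈ J, (∀ i ∈ S.inner, InV z a (i * q * i⁻¹ * q⁻¹)) → InV z a q

end Setting

end Cfsg.Lib.FiTwo
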